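import Cfsg.Agent.CoOneType.FrameFix
import Cfsg.Agent.Co2Type.Mono
import Cfsg.Agent.J4.M24Invol
import Cfsg.Agent.SporadicA.Xi
set_option linter.all false

-- part: CoOneType/InvClasses
section
/-!
Elements `t` of `Co0` with `t * t = 1` are conjugate to sign changes; elements with `t * t = -1` form
one conjugacy class.
-/

set_option autoImplicit false
open Cfsg

namespace Cfsg.Agent.CoOneType.InvClasses

open Cfsg.Agent.SporadicA.GolayBase Cfsg.Agent.SporadicA.GolayPerm
open Cfsg.Agent.SporadicStructure.M24El Cfsg.Agent.SporadicA.Co0Mono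
open Cfsg.Agent.SporadicA Cfsg.Agent.SporadicA.Co1Simple
open Cfsg.Agent.SporadicStructure.Co0Base (e8 e8_coe)
open Cfsg.Agent.Co2Type.Mono
open Cfsg.Agent.J4.M24InvolData (P1 P2)
open Cfsg.Agent.J4.M24Invol (ok_P1 ok_P2 invol_conj)

/-! ### Conjugation by a sextet map -/

theorem xi_e8 {T : GolayPt → Fin 6} (hT : Xi.IsSextet T) (i j : GolayPt) :
    ((Xi.xiCo0 T hT • e8 j : leechLattice) : GolayPt → ℤ) i =
      (if T i = 0 then -1 else 1) * ((if T i = T j then 4 else 0) - (if i = j then 8 else 0)) := by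
  rw [Xi.xiCo0_smul, Xi.xiFun_apply, e8_coe]
  congr 1
  have h1 : ∑ k ∈ Xi.fib T (T i), (Pi.single j 8 : GolayPt → ℤ) k = if T i = T j then 8 else 0 := by
    rw [Finset.sum_pi_single']
    by_cases h : T i = T j
    · rw [if_pos (Xi.mem_fib.2 h.symm), if_pos h]
    · rw [if_neg (fun h' => h (Xi.mem_fib.1 h').symm), if_neg h]
  rw [h1, Pi.single_apply]
  by_cases h : T i = T j
  · rw [if_pos h, if_pos h]; rfl
  · rw [if_neg h, if_neg h]; rfl

theorem sgn_ite (a : ZMod 2) (p q : Prop) [Decidable p] [Decidable q] (s : ZMod 2)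
    (h : a + (if p then 1 else 0) + (if q then 1 else 0) = s) :
    sgn a * (4 - (if p then 8 else 0)) = sgn s * (4 - (if q then 8 else 0)) := by
  subst h
  by_cases hp : p <;> by_cases hq : q <;> simp only [hp, hq, if_true, if_false] <;>
    revert a <;> decide

theorem conj_of_good {T : GolayPt → Fin 6} (hT : Xi.IsSextet T) {m P : ℕ} (hm : isCode m = true)
    (hcol : ∀ p, T ((el P : Equiv.Perm GolayPt) p) = T p)
    (hgood : ∀ j, ∃ s : ZMod 2, ∀ i, T i = T j →
      word m i + (if i = (el P : Equiv.Perm GolayPt) j then 1 else 0) +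
        (if i = j then 1 else 0) = s) :
    ∃ c : golayCode, (Xi.xiCo0 T hT)⁻¹ * mo m P * Xi.xiCo0 T hT = signCo0 c := by
  have hA : ∀ j, mo m P • Xi.xiCo0 T hT • e8 j = Xi.xiCo0 T hT • e8 j ∨
      mo m P • Xi.xiCo0 T hT • e8 j = -(Xi.xiCo0 T hT • e8 j) := by
    intro j
    obtain ⟨s, hs⟩ := hgood j
    have key : ∀ i, ((mo m P • Xi.xiCo0 T hT • e8 j : leechLattice) : GolayPt → ℤ) i =
        sgn s * ((Xi.xiCo0 T hT • e8 j : leechLattice) : GolayPt → ℤ) i := by
      intro i
      obtain ⟨k, rfl⟩ := (el P : Equiv.Perm GolayPt).surjective i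
      unfold mo
      rw [mul_smul, signCo0_smul, signMap_apply, permCo0_smul, permMap_apply,
        Equiv.symm_apply_apply, xi_e8, xi_e8, hcol k, coe_cd hm]
      by_cases h : T k = T j
      · rw [if_pos h]
        have h1 := hs ((el P : Equiv.Perm GolayPt) k) ((hcol k).trans h)
        have h2 := sgn_ite _ _ _ s h1
        simp only [(el P : Equiv.Perm GolayPt).injective.eq_iff] at h2
        linear_combination (if T k = 0 then -1 else 1) * h2
      · have e1 : k ≠ j := fun h1 => h (by rw [h1])
        have e2 : (el P : Equiv.Perm GolayPt) k ≠ j := fun h1 => h (by rw [← hcol k, h1])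
        rw [if_neg h, if_neg e1, if_neg e2]
        ring
    rcases Cfsg.Agent.SporadicStructure.LeechBase.zmod2_cases s with h | h
    · left
      apply Subtype.ext
      funext i
      rw [key i, h, sgn_zero, one_mul]
    · right
      apply Subtype.ext
      funext i
      rw [key i, h, sgn_one]
      show _ = -((Xi.xiCo0 T hT • e8 j : leechLattice) : GolayPt → ℤ) i
      ring
  set h := (Xi.xiCo0 T hT)⁻¹ * mo m P * Xi.xiCo0 T hT with hh
  have hB : ∀ j, h • e8 j = e8 j ∨ h • e8 j = -e8 j := by
    intro j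
    rw [hh, mul_smul, mul_smul]
    rcases hA j with h1 | h1
    · left; rw [h1, inv_smul_smul]
    · right; rw [h1, Co0Mono.smul_neg, inv_smul_smul]
  have hN : h ∈ N := by
    apply mem_N_of_e8
    intro i
    rw [mem_crossSet]
    exact ⟨i, hB i⟩
  obtain ⟨c, τ, hc⟩ := exists_sign_perm hN
  refine ⟨c, ?_⟩
  have hτ : τ = 1 := by
    apply Subtype.ext
    ext1 j
    have h1 := hB j
    rw [hc, mul_smul, perm_smul_e8] at h1
    rw [Subgroup.coe_one, Equiv.Perm.one_apply]
    rcases sgn_smul_e8 c ((τ : Equiv.Perm GolayPt) j) with h2 | h2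
    · rw [h2] at h1
      exact e8_inj' h1
    · rw [h2] at h1
      apply e8_inj'
      rcases h1 with h1 | h1
      · right; rw [← h1, neg_neg]
      · left; exact neg_injective h1
  rw [hc, hτ, map_one, mul_one]

/-! ### Packed colourings -/

/-- The colouring packed in `Q`, three bits per point. -/
def Tq (Q : ℕ) (p : GolayPt) : Fin 6 := Fin.ofNat 6 ((Q >>> (3 * idx p)) % 8)

theorem isSextet_of {T : GolayPt → Fin 6} (h1 : ∀ k, (Xi.fib T k).card = 4)
    (h2 : ∀ k l : Fin 6, k ≠ l → isCode (maskOf (Xi.fib T k ∪ Xi.fib T l)) = true) : Xi.IsSextet T :=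
  ⟨h1, fun k l hkl => (mem_supports_iff _).2 (h2 k l hkl)⟩

/-- Check of the tetrads `L` for the monomial map packed in `m`, `P`. -/
def chk (L : List ℕ) (P m : ℕ) : Bool :=
  L.all fun t => (List.range 24).all fun j => !(t.testBit j) ||
    (let x := ((m &&& t) ^^^ (1 <<< papp P j)) ^^^ (1 <<< j); Nat.beq x 0 || Nat.beq x t)

/-- `L` is the list of the tetrads of the sextet packed in `Q`, fixed by `P`. -/
structure IsFrame (P Q : ℕ) (L : List ℕ) : Prop where
  sext : Xi.IsSextet (Tq Q)
  len : L.length = 6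
  bit : ∀ k : Fin 6, ∀ p, (L.getD k 0).testBit (idx p) = decide (Tq Q p = k)
  fix : ∀ p, Tq Q (pt (papp P (idx p))) = Tq Q p

theorem testBit_one_shiftLeft (a j : ℕ) : ((1 : ℕ) <<< a).testBit j = decide (a = j) := by
  have := testBit_term 1 a 0 j
  simpa using this

theorem bit_ite (a : Bool) (p q : Prop) [Decidable p] [Decidable q] :
    (if a = true then (1 : ZMod 2) else 0) + (if p then 1 else 0) + (if q then 1 else 0) =
      if ((a ^^ decide p) ^^ decide q) = true then 1 else 0 := by
  by_cases hp : p <;> by_cases hq : q <;> simp only [hp, hq, if_true, if_false, decide_true,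
    decide_false] <;> revert a <;> decide

theorem conj_of_chk {P Q : ℕ} {L : List ℕ} (hF : IsFrame P Q L) (hP : ok P = true) {m : ℕ}
    (hm : isCode m = true) (h : chk L P m = true) :
    ∃ (g : Co0) (c : golayCode), g * mo m P * g⁻¹ = signCo0 c := by
  have hcol : ∀ p, Tq Q ((el P : Equiv.Perm GolayPt) p) = Tq Q p := by
    intro p
    have h1 := hF.fix p
    rwa [← el_smul_pt hP] at h1
  obtain ⟨c, hc⟩ := conj_of_good hF.sext hm hcol (fun j => by
    set t := L.getD (Tq Q j) 0 with ht
    have htL : t ∈ L := by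
      rw [ht, List.getD_eq_getElem _ _ (by rw [hF.len]; exact (Tq Q j).2)]
      exact List.getElem_mem _
    unfold chk at h
    rw [List.all_eq_true] at h
    have h1 := h t htL
    rw [List.all_eq_true] at h1
    have h2 := h1 (idx j) (List.mem_range.2 (idx_lt j))
    have htj : t.testBit (idx j) = true := by rw [ht, hF.bit, decide_eq_true rfl]
    rw [htj, Bool.not_true, Bool.false_or, Bool.or_eq_true, Nat.beq_eq, Nat.beq_eq] at h2
    set x := ((m &&& t) ^^^ (1 <<< papp P (idx j))) ^^^ (1 <<< idx j) with hx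
    have hbit : ∀ i, Tq Q i = Tq Q j →
        word m i + (if i = (el P : Equiv.Perm GolayPt) j then 1 else 0) +
        (if i = j then 1 else 0) = if x.testBit (idx i) = true then (1 : ZMod 2) else 0 := by
      intro i hi
      have hti : t.testBit (idx i) = true := by rw [ht, hF.bit, decide_eq_true hi]
      have h3 : x.testBit (idx i) = ((m.testBit (idx i) ^^ decide (papp P (idx j) = idx i)) ^^
          decide (idx j = idx i)) := by
        rw [hx, Nat.testBit_xor, Nat.testBit_xor, Nat.testBit_and, hti, testBit_one_shiftLeft,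
          testBit_one_shiftLeft, Bool.and_true]
      have h4 : (papp P (idx j) = idx i) ↔ i = (el P : Equiv.Perm GolayPt) j := by
        rw [← idx_el_smul hP]
        exact ⟨fun h => (idx_injective h).symm, fun h => by rw [h]; rfl⟩
      have h5 : (idx j = idx i) ↔ i = j := ⟨fun h => (idx_injective h).symm, fun h => by rw [h]⟩
      rw [h3, word_apply, decide_eq_decide.2 h4, decide_eq_decide.2 h5]
      exact bit_ite _ _ _
    rcases h2 with h2 | h2
    · refine ⟨0, fun i hi => ?_⟩
      rw [hbit i hi, h2, Nat.zero_testBit]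
      rfl
    · refine ⟨1, fun i hi => ?_⟩
      rw [hbit i hi, h2, ht, hF.bit, decide_eq_true hi]
      rfl)
  exact ⟨(Xi.xiCo0 (Tq Q) hF.sext)⁻¹, c, by rw [inv_inv]; exact hc⟩

end Cfsg.Agent.CoOneType.InvClasses
end

-- part: CoOneType/InvCheck
section
/-!
Kernel checks for the classes of elements of `Co0` of order 2.
-/

set_option autoImplicit false
open Cfsg

namespace Cfsg.Agent.CoOneType.InvCheck

open Cfsg.Agent.SporadicA.GolayBase Cfsg.Agent.SporadicA.GolayPerm
open Cfsg.Agent.SporadicStructure.M24El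
open Cfsg.Agent.CoOneType.InvClasses
open Cfsg.Agent
open Cfsg.Agent.J4.M24InvolData (P1 P2)

/-- The sextets fixed by `P1` (colours packed in a number, tetrads), with a code word. -/
def frames1 : List (ℕ × List ℕ × ℕ) := [
  (3296557396926493458497, [154, 5125, 525120, 1327136, 4294656, 10625024], 4845570),
  (3361085007091835384344, [325, 262312, 529920, 1064978, 2172928, 12746752], 13062145),
  (3287298276956609484426, [5440, 262194, 524805, 1065096, 6332416, 8587264], 13062145),
  (3276794743156731027781, [16426, 592384, 1310864, 2110464, 4227392, 8519685], 13062145),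
  (3277227088860892366035, [16560, 67904, 1310730, 2105349, 4751872, 8524800], 13062145),
  (3277352912495317946896, [67589, 278552, 1048738, 2105664, 4232192, 9044480], 4845570),
  (3277064681839756911884, [72704, 278658, 1048632, 2630144, 4227077, 8520000], 13938692)]

/-- The sextet fixed by `P2`. -/
def frames2 : List (ℕ × List ℕ × ℕ) := [
  (3299004463658510057987, [54, 10504, 115712, 786945, 4325568, 11538432], 4845570)]

/-- The linear map inverting `1 + P2` on the invariant words. -/
def lin2 (i : ℕ) : ℕ :=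
  ((i >>> 5) % 2 * 18) ^^^ ((i >>> 7) % 2 * 64) ^^^ ((i >>> 8) % 2 * 12) ^^^ ((i >>> 9) % 2 * 7) ^^^
  ((i >>> 10) % 2 * 6) ^^^ ((i >>> 11) % 2 * 4)

theorem check1 : allR 12 0 (fun i => !(Nat.beq (pimg P1 (enc i)) (enc i)) ||
    frames1.any fun r => chk r.2.1 P1 (enc i) || chk r.2.1 P1 (enc i ^^^ (r.2.2 ^^^ pimg P1 r.2.2))) =
    true := by decide +kernel

theorem check2 : allR 12 0 (fun i => !(Nat.beq (pimg P2 (enc i)) (enc i)) ||
    Nat.beq (enc (lin2 i) ^^^ pimg P2 (enc (lin2 i))) (enc i)) = true := by decide +kernel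

theorem isFrame_of {P Q : ℕ} {L : List ℕ} (h1 : ∀ k, (SporadicA.Xi.fib (Tq Q) k).card = 4)
    (h2 : ∀ k l : Fin 6, k ≠ l →
      isCode (maskOf (SporadicA.Xi.fib (Tq Q) k ∪ SporadicA.Xi.fib (Tq Q) l)) = true)
    (h3 : L.length = 6)
    (h4 : ∀ k : Fin 6, ∀ p, (L.getD k 0).testBit (idx p) = decide (Tq Q p = k))
    (h5 : ∀ p, Tq Q (pt (papp P (idx p))) = Tq Q p) : IsFrame P Q L :=
  ⟨isSextet_of h1 h2, h3, h4, h5⟩

theorem frames1_ok : ∀ r ∈ frames1, IsFrame P1 r.1 r.2.1 ∧ isCode r.2.2 = true := by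
  unfold frames1
  simp only [List.mem_cons, List.not_mem_nil, or_false]
  rintro r (rfl | rfl | rfl | rfl | rfl | rfl | rfl)
  all_goals exact ⟨isFrame_of (by decide +kernel) (by decide +kernel) rfl (by decide +kernel)
    (by decide +kernel), by decide +kernel⟩

theorem frames2_ok : ∀ r ∈ frames2, IsFrame P2 r.1 r.2.1 ∧ isCode r.2.2 = true := by
  unfold frames2
  simp only [List.mem_cons, List.not_mem_nil, or_false]
  rintro r rfl
  exact ⟨isFrame_of (by decide +kernel) (by decide +kernel) rfl (by decide +kernel)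
    (by decide +kernel), by decide +kernel⟩

end Cfsg.Agent.CoOneType.InvCheck
end
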