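import Cfsg.Agent.CoOneType.InvMain
import Cfsg.Agent.CoOneType.Thirteen
set_option linter.all false

/-!
The classes of elements of `Co0` with square `±1`, in the notation of `CoOneType.Thirteen`.
-/

set_option autoImplicit false
open Cfsg
open scoped Pointwise

namespace Cfsg.Agent.CoOneType.InvBridge

open Cfsg.Agent.SporadicA.GolayBase Cfsg.Agent.SporadicA.Co0Mono
open Cfsg.Agent.SporadicA.Co1Simple Cfsg.Agent.Co2Type.Mono

theorem b0_eq : InvMain.b0 = Thirteen.b0 := by
  unfold InvMain.b0 Thirteen.b0
  have h : cd InvMain.b0m = Thirteen.c0w := by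
    apply Subtype.ext
    rw [coe_cd InvMain.isCode_b0m]
    rfl
  rw [h]

/-- Every element `t` of `Co0` with `t * t = -1` is conjugate to `b0`. -/
theorem conj_b0 (t : Co0) (ht : t * t = signCo0 allOne) :
    ∃ g : Co0, g * t * g⁻¹ = Thirteen.b0 := by
  rw [← b0_eq]
  exact InvMain.conj_b0_of_sq_neg t ht

/-- Every element `t` of `Co0` with `t * t = 1` is conjugate to a sign change. -/
theorem conj_sign (t : Co0) (ht : t * t = 1) :
    ∃ (g : Co0) (c : golayCode), g * t * g⁻¹ = signCo0 c :=
  InvMain.conj_sign_of_sq_one t ht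

end Cfsg.Agent.CoOneType.InvBridge
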