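import Cfsg.Agent.SporadicStructure.Co0Matrix
import Cfsg.Agent.Prune
set_option linter.all false
prune_inst 0x7f00000000000000000000000000000000000000000000000000000000000000000000000000000000000000000000000000000000000000000000000000000000000000000000000000000000000000003fffffffffffffffffffffffffffbeffbdffffffff
open scoped Cfsg.Agent.FastGrp

/-!
# A fast check that an explicit matrix gives an element of `Co0`

The rows and columns are packed into numbers (helper30); `ok_of : okq R C = true → Ok R C`.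
-/

set_option autoImplicit false

namespace Cfsg.Agent.CoOneType.CoQ

open Cfsg Cfsg.Agent.SporadicA Cfsg.Agent.SporadicStructure.Co0Matrix Finset

/-- dot product with two accumulators -/
noncomputable def dk (r : List ℤ) : List ℤ → ℕ → ℕ → ℤ :=
  List.rec (fun _ P N => Int.subNatNat P N) (fun a _ ih l P N => List.rec (Int.subNatNat P N) (fun b t _ =>
    Int.rec (fun x => Int.rec (fun y => ih t (Nat.add P (Nat.mul x y)) N) (fun y => ih t P (Nat.add N (Nat.mul x (Nat.succ y)))) b)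
      (fun x => Int.rec (fun y => ih t P (Nat.add N (Nat.mul (Nat.succ x) y)))
        (fun y => ih t (Nat.add P (Nat.mul (Nat.succ x) (Nat.succ y))) N) b) a) l) r

theorem dk_eq : ∀ (r l : List ℤ) (P N : ℕ), dk r l P N = P - N + dotL r l
  | [], l, P, N => by rw [dotL_nil_left, add_zero]; exact Int.subNatNat_eq_coe
  | a :: s, [], P, N => by rw [dotL_nil_right, add_zero]; exact Int.subNatNat_eq_coe
  | .ofNat x :: s, .ofNat y :: t, P, N => (dk_eq s t (P + x * y) N).trans (by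
      rw [dotL_cons, Int.ofNat_eq_natCast, Int.ofNat_eq_natCast]; push_cast; ring)
  | .ofNat x :: s, .negSucc y :: t, P, N => (dk_eq s t P (N + x * (y + 1))).trans (by
      rw [dotL_cons, Int.ofNat_eq_natCast, Int.negSucc_eq]; push_cast; ring)
  | .negSucc x :: s, .ofNat y :: t, P, N => (dk_eq s t P (N + (x + 1) * y)).trans (by
      rw [dotL_cons, Int.ofNat_eq_natCast, Int.negSucc_eq]; push_cast; ring)
  | .negSucc x :: s, .negSucc y :: t, P, N => (dk_eq s t (P + (x + 1) * (y + 1)) N).trans (by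
      rw [dotL_cons, Int.negSucc_eq, Int.negSucc_eq]; push_cast; ring)

theorem dk0 (r l : List ℤ) : dk r l 0 0 = dotL r l := by rw [dk_eq]; simp

/-- entry -/
def en (A : List (List ℤ)) (i j : ℕ) : ℤ := (A.getD i []).getD j 0

/-- shape and size of the entries -/
def sh (A : List (List ℤ)) : Bool := A.all fun r => Nat.beq r.length 24 && r.all fun a => Nat.ble a.natAbs 1000

theorem sh_len {A : List (List ℤ)} (h : sh A = true) {r : List ℤ} (hr : r ∈ A) : r.length = 24 :=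
  Nat.eq_of_beq_eq_true (Bool.and_eq_true_iff.1 (List.all_eq_true.1 h r hr)).1

theorem sh_le {A : List (List ℤ)} (h : sh A = true) (i : ℕ) : (A.getD i []).length ≤ 24 := by
  by_cases hi : i < A.length
  · exact (sh_len h (getD_mem_of_lt A [] hi)).le
  · rw [List.getD_eq_default _ _ (not_lt.1 hi)]; exact Nat.zero_le _

theorem sh_abs {A : List (List ℤ)} (h : sh A = true) (i j : ℕ) : |en A i j| ≤ 1000 := by
  unfold en
  by_cases hi : i < A.length
  · by_cases hj : j < (A.getD i []).length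
    · have := Nat.le_of_ble_eq_true (List.all_eq_true.1 (Bool.and_eq_true_iff.1 (List.all_eq_true.1 h _ (getD_mem_of_lt A [] hi))).2 _
        (getD_mem_of_lt _ 0 hj))
      rw [Int.abs_eq_natAbs]; exact_mod_cast this
    · rw [List.getD_eq_default _ _ (not_lt.1 hj)]; decide
  · rw [List.getD_eq_default _ _ (not_lt.1 hi), List.getD_nil]; decide

theorem sum_lt (B : ℕ) (c : ℕ → ℕ) (h : ∀ k, c k < B) : ∀ n, ∑ k ∈ range n, c k * B ^ k < B ^ n
  | 0 => Nat.one_pos
  | n + 1 => by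
    rw [sum_range_succ, pow_succ']
    exact lt_of_lt_of_le (Nat.add_lt_add_right (sum_lt B c h n) _) (by
      rw [add_comm, ← Nat.succ_mul]; exact Nat.mul_le_mul_right _ (h n))

theorem land_dig (w m : ℕ) (hm : m < 2 ^ w) : ∀ (n : ℕ) (c : ℕ → ℕ), (∀ k, c k < 2 ^ w) →
    (∑ k ∈ range n, c k * (2 ^ w) ^ k) &&& (∑ k ∈ range n, m * (2 ^ w) ^ k) = 0 → ∀ k < n, c k &&& m = 0
  | 0, _, _, _, k, hk => absurd hk (Nat.not_lt_zero k)
  | n + 1, c, hc, h, k, hk => by
    have e : ∀ d : ℕ → ℕ, ∑ k ∈ range (n + 1), d k * (2 ^ w) ^ k = d 0 + 2 ^ w * ∑ k ∈ range n, d (k + 1) * (2 ^ w) ^ k := fun d => by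
      rw [sum_range_succ', pow_zero, mul_one, add_comm, mul_sum]
      exact congrArg _ (sum_congr rfl fun k _ => by rw [pow_succ', mul_left_comm])
    rw [e c, e fun _ => m] at h
    cases k with
    | zero =>
      have := congrArg (· % 2 ^ w) h
      simpa only [Nat.and_mod_two_pow, Nat.add_mul_mod_self_left, Nat.mod_eq_of_lt hm, Nat.mod_eq_of_lt (hc 0), Nat.zero_mod] using this
    | succ k =>
      have := congrArg (· / 2 ^ w) h
      simp only [Nat.and_div_two_pow, Nat.add_mul_div_left _ _ (Nat.two_pow_pos w), Nat.div_eq_of_lt hm, Nat.div_eq_of_lt (hc 0),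
        Nat.zero_div, Nat.zero_add] at this
      exact land_dig w m hm n (fun k => c (k + 1)) (fun k => hc _) this k (Nat.lt_of_succ_lt_succ hk)

/-- the sum of `n` powers of `2 ^ w` -/
def jj (w n : ℕ) : ℕ := Nat.div (Nat.sub (Nat.pow 2 (Nat.mul w n)) 1) (Nat.sub (Nat.pow 2 w) 1)

theorem jj_eq {w : ℕ} (hw : w ≠ 0) (n : ℕ) : jj w n = ∑ k ∈ range n, (2 ^ w) ^ k := by
  rw [Nat.geomSum_eq (Nat.one_lt_two_pow hw), ← pow_mul]; rfl

/-- all digits are divisible by `2 ^ e` -/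
def tst (n e : ℕ) (N : ℤ) : Bool :=
  Nat.beq (Nat.land (N + Int.ofNat (Nat.mul (Nat.pow 2 40) (Nat.mul (jj 48 n) (jj (Nat.mul 48 n) n)))).toNat
    (Nat.mul (Nat.sub (Nat.pow 2 e) 1) (Nat.mul (jj 48 n) (jj (Nat.mul 48 n) n)))) 0

theorem key {n e : ℕ} (hn : n ≠ 0) (he : e ≤ 40) (d : ℕ → ℕ → ℤ) (hd : ∀ a b, |d a b| < 2 ^ 40)
    (h : tst n e (∑ b ∈ range n, (∑ a ∈ range n, d a b * (2 ^ 48) ^ a) * (2 ^ (48 * n)) ^ b) = true) (a b : ℕ) (ha : a < n) (hb : b < n) :
    2 ^ e ∣ d a b := by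
  have h1 : ∀ a b, (((d a b + 2 ^ 40).toNat : ℕ) : ℤ) = d a b + 2 ^ 40 := fun a b =>
    Int.toNat_of_nonneg (by linarith only [(abs_lt.1 (hd a b)).1])
  have h2 : ∀ a b, (d a b + 2 ^ 40).toNat < 2 ^ 48 := fun a b => by
    have := (abs_lt.1 (hd a b)).2
    have := h1 a b
    omega
  have h3 : 2 ^ e - 1 < 2 ^ 48 := lt_of_le_of_lt (Nat.sub_le _ _) (Nat.pow_lt_pow_right (by decide) (by omega))
  have h4 := Nat.eq_of_beq_eq_true h
  have e1 : (∑ b ∈ range n, (∑ a ∈ range n, d a b * (2 ^ 48) ^ a) * (2 ^ (48 * n)) ^ b) +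
      Int.ofNat (Nat.mul (Nat.pow 2 40) (Nat.mul (jj 48 n) (jj (Nat.mul 48 n) n))) =
      ((∑ b ∈ range n, (∑ a ∈ range n, (d a b + 2 ^ 40).toNat * (2 ^ 48) ^ a) * (2 ^ (48 * n)) ^ b : ℕ) : ℤ) := by
    show _ + ((2 ^ 40 * (jj 48 n * jj (48 * n) n) : ℕ) : ℤ) = _
    rw [jj_eq (by decide), jj_eq (Nat.mul_ne_zero (by decide) hn)]
    simp only [Nat.cast_sum, Nat.cast_mul, Nat.cast_pow, Nat.cast_ofNat, h1, add_mul, sum_add_distrib]
    rw [← mul_sum, ← mul_sum, mul_assoc]
  have e2 : Nat.mul (Nat.sub (Nat.pow 2 e) 1) (Nat.mul (jj 48 n) (jj (Nat.mul 48 n) n)) =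
      ∑ b ∈ range n, (∑ a ∈ range n, (2 ^ e - 1) * (2 ^ 48) ^ a) * (2 ^ (48 * n)) ^ b := by
    show (2 ^ e - 1) * (jj 48 n * jj (48 * n) n) = _
    rw [jj_eq (by decide), jj_eq (Nat.mul_ne_zero (by decide) hn), ← mul_sum, ← mul_sum, mul_assoc]
  rw [e1, e2, Int.toNat_natCast] at h4
  have h5 := land_dig 48 _ h3 n _ (fun k => h2 k b) (land_dig (48 * n) _ (by rw [pow_mul]; exact sum_lt _ _ (fun _ => h3) n) n _
    (fun k => by rw [pow_mul]; exact sum_lt _ _ (fun a => h2 a k) n) h4 b hb) a ha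
  rw [Nat.and_two_pow_sub_one_eq_mod] at h5
  have h6 : ((2 ^ e : ℕ) : ℤ) ∣ d a b + 2 ^ 40 := h1 a b ▸ Int.natCast_dvd_natCast.2 (Nat.dvd_of_mod_eq_zero h5)
  rw [Nat.cast_pow, Nat.cast_ofNat] at h6
  exact (dvd_add_left (pow_dvd_pow 2 he)).1 h6

theorem abs_sum {f : ℕ → ℤ} {c : ℤ} (h : ∀ i, |f i| ≤ c) : |∑ i ∈ range 24, f i| ≤ 24 * c :=
  (abs_sum_le_sum_abs _ _).trans ((sum_le_card_nsmul _ _ c fun i _ => h i).trans (by rw [card_range, nsmul_eq_mul]; rfl))

theorem abs_mul' {a b c d : ℤ} (h : |a| ≤ c) (h' : |b| ≤ d) : |a * b| ≤ c * d :=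
  (abs_mul a b).trans_le (mul_le_mul h h' (abs_nonneg _) ((abs_nonneg _).trans h))

/-- matrix times vector -/
noncomputable def mv (A : List (List ℤ)) (l : List ℤ) : List ℤ := List.rec [] (fun r _ ih => dk r l 0 0 :: ih) A

theorem mv_len (l : List ℤ) : ∀ A : List (List ℤ), (mv A l).length = A.length
  | [] => rfl
  | _ :: A => congrArg (· + 1) (mv_len l A)

theorem mv_get (l : List ℤ) : ∀ (A : List (List ℤ)) (i : ℕ), (mv A l).getD i 0 = dotL (A.getD i []) l
  | [], _ => rfl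
  | r :: _, 0 => dk0 r l
  | _ :: A, i + 1 => mv_get l A i

theorem mv_sum {A : List (List ℤ)} (h : sh A = true) (l : List ℤ) (i : ℕ) :
    (mv A l).getD i 0 = ∑ j ∈ range 24, en A i j * l.getD j 0 := (mv_get l A i).trans (sum_range_getD _ l 24 (sh_le h i)).symm

/-- powers -/
def pw (w : ℕ) : List ℤ := (List.range 24).map fun j => Int.ofNat (Nat.pow 2 (Nat.mul w j))

theorem pw_get (w : ℕ) {j : ℕ} (hj : j ∈ range 24) : (pw w).getD j 0 = (2 ^ w) ^ j := by
  rw [pw, List.getD_eq_getElem _ _ (by rw [List.length_map, List.length_range]; exact mem_range.1 hj), List.getElem_map,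
    List.getElem_range, ← pow_mul]
  exact Nat.cast_pow 2 _

/-- the product of the transpose of `A` and `B` is `c` times the identity -/
noncomputable def prd (A B : List (List ℤ)) (c : ℤ) : Bool :=
  tst 24 40 (dk (mv A (pw 48)) (mv B (pw 1152)) 0 0 - c * dk (pw 48) (pw 1152) 0 0)

theorem prd_spec {A B : List (List ℤ)} {c : ℤ} (hA : sh A = true) (hB : sh B = true) (hl : A.length = 24) (hc : |c| ≤ 64)
    (h : prd A B c = true) {a b : ℕ} (ha : a < 24) (hb : b < 24) : ∑ i ∈ range 24, en A i a * en B i b = if a = b then c else 0 := by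
  have h1 : ∀ a b, |∑ i ∈ range 24, en A i a * en B i b - if a = b then c else 0| < 2 ^ 40 := fun a b =>
    lt_of_le_of_lt ((abs_sub _ _).trans (add_le_add (abs_sum fun i => abs_mul' (sh_abs hA i a) (sh_abs hB i b))
      (show _ ≤ 64 by split_ifs; exacts [hc, by decide]))) (by decide)
  refine sub_eq_zero.1 (Int.eq_zero_of_abs_lt_dvd (key (n := 24) (by decide) le_rfl _ h1 ?_ a b ha hb) (h1 a b))
  rw [← h, prd, dk0, dk0, ← sum_range_getD _ _ 24 ((mv_len _ A).trans hl).le, ← sum_range_getD (pw 48) _ 24 (by decide)]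
  congr 1
  simp only [sub_mul, sum_sub_distrib, mv_sum hA, mv_sum hB]
  congr 1
  · simp only [sum_mul, mul_sum]
    rw [sum_comm]
    refine (sum_congr rfl fun a _ => sum_comm).trans (sum_comm.trans (sum_congr rfl fun i _ => sum_comm.trans
      (sum_congr rfl fun b hb => sum_congr rfl fun a ha => ?_)))
    rw [pw_get _ ha, pw_get _ hb]; ring
  · rw [mul_sum]
    refine sum_congr rfl fun b hb => ?_
    rw [sum_eq_single b (fun a _ h => by rw [if_neg h, zero_mul]) (fun h => absurd hb h), if_pos rfl, pw_get _ hb, pw_get _ hb, mul_assoc]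

/-- the rows, packed -/
noncomputable def pk (X : ℤ) (A : List (List ℤ)) : List ℤ :=
  List.rec (List.replicate 24 0) (fun g _ s => List.zipWith (fun a b => a + X * b) g s) A

theorem pk_spec (X : ℤ) : ∀ A : List (List ℤ), sh A = true → (pk X A).length = 24 ∧
    ∀ j < 24, (pk X A).getD j 0 = ∑ a ∈ range A.length, en A a j * X ^ a
  | [], _ => ⟨rfl, show ∀ j < 24, (List.replicate 24 (0 : ℤ)).getD j 0 = 0 by decide⟩
  | g :: A, h => by
    have hg := sh_len h List.mem_cons_self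
    obtain ⟨h1, h2⟩ := pk_spec X A (Bool.and_eq_true_iff.1 h).2
    have h3 : (List.zipWith (fun a b => a + X * b) g (pk X A)).length = 24 := by rw [List.length_zipWith, hg, h1]; rfl
    refine ⟨h3, fun j hj => ?_⟩
    show (List.zipWith (fun a b => a + X * b) g (pk X A)).getD j 0 = _
    rw [List.getD_eq_getElem _ _ (h3 ▸ hj), List.getElem_zipWith, ← List.getD_eq_getElem _ 0, ← List.getD_eq_getElem _ 0, h2 j hj,
      List.length_cons, sum_range_succ', add_comm, pow_zero, mul_one, mul_sum]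
    exact congrArg₂ _ (sum_congr rfl fun a _ => by rw [pow_succ', mul_left_comm]; rfl) rfl

theorem sh_gens : sh gens = true ∧ gens.length = 49 := by decide +kernel

/-- the packed generators -/
def cf (w : ℕ) : List ℤ :=
  ((List.range 23).map fun j => Int.ofNat (Nat.add (Nat.add (Nat.pow 2 (Nat.add (Nat.mul w j) 2)) (Nat.shiftLeft (Nat.mod (Nat.shiftLeft
    ([0, 5, 7, 10, 11, 14, 15, 17, 19, 20, 21, 22].foldr (fun t s => Nat.add (Nat.pow 2 (Nat.mul w t)) s) 0) (Nat.mul w j))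
    (Nat.sub (Nat.pow 2 (Nat.mul w 23)) 1)) (Nat.succ (Nat.mul w 23))))
    (Nat.add (Nat.pow 2 (Nat.succ (Nat.mul w 47))) (Nat.pow 2 (Nat.mul w 48))))) ++
  [Int.subNatNat (Nat.add (Nat.pow 2 (Nat.add (Nat.mul w 46) 3)) (Nat.pow 2 (Nat.succ (Nat.mul w 47))))
    (Nat.add (Nat.mul 4 (jj w 23)) (Nat.mul 3 (Nat.pow 2 (Nat.mul w 48))))]

theorem cf_eq : cf 2352 = pk (Int.ofNat (Nat.pow 2 2352)) gens ∧ cf 48 = pk (Int.ofNat (Nat.pow 2 48)) gens := by decide +kernel

/-- the values of the form on the generators are divisible by 64 -/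
noncomputable def prs (R : List (List ℤ)) : Bool := tst 49 6 (dk (cf 2352) (mv R (cf 48)) 0 0)

theorem prs_spec {R : List (List ℤ)} (hR : sh R = true) (h : prs R = true) (a b : ℕ) (ha : a < 49) (hb : b < 49) :
    64 ∣ ∑ i ∈ range 24, en gens b i * ∑ j ∈ range 24, en R i j * en gens a j := by
  refine key (n := 49) (e := 6) (by decide) (by decide) (fun a b => ∑ i ∈ range 24, en gens b i * ∑ j ∈ range 24, en R i j * en gens a j)
    (fun a b => lt_of_le_of_lt (abs_sum fun i => abs_mul' (sh_abs sh_gens.1 b i)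
      (abs_sum fun j => abs_mul' (sh_abs hR i j) (sh_abs sh_gens.1 a j))) (by decide)) ?_ a b ha hb
  have e : ∀ w : ℕ, Int.ofNat (Nat.pow 2 w) = 2 ^ w := fun w => Nat.cast_pow 2 w
  refine (congrArg (tst 49 6) ?_).trans h
  rw [cf_eq.1, cf_eq.2, dk0, ← sum_range_getD _ _ 24 (pk_spec _ _ sh_gens.1).1.le, e, e, show 48 * 49 = 2352 from rfl, sum_congr rfl fun i hi => congrArg₂ _ ((pk_spec _ _ sh_gens.1).2 i (mem_range.1 hi)) ((mv_sum hR _ i).trans
    (sum_congr rfl fun j hj => congrArg _ ((pk_spec _ _ sh_gens.1).2 j (mem_range.1 hj)))), sh_gens.2]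
  simp only [sum_mul, mul_sum]
  refine (sum_congr rfl fun b _ => sum_comm).trans (sum_comm.trans (sum_congr rfl fun i _ => ?_))
  refine (sum_congr rfl fun b _ => sum_comm).trans (sum_comm.trans (sum_congr rfl fun j _ => sum_comm.trans ?_))
  exact sum_congr rfl fun a _ => sum_congr rfl fun b _ => by ring

/-- a basis among the generators -/
def sel : List ℕ := [0, 2, 4, 5, 9, 12, 13, 15, 16, 21, 22, 23, 24, 27, 29, 36, 38, 39, 40, 42, 43, 44, 46, 48]

/-- the dual basis -/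
def du : List (List ℤ) := [
  [2, -22, 0, -100, 0, 0, -12, -178, -162, 0, 26, -228, 0, 0, 412, 0, 0, 220, 294, -358, 106, 0, 0, 0],
  [0, -22, 2, -94, 0, 0, -12, -170, -152, 0, 28, -214, 0, 0, 388, 0, 0, 206, 278, -338, 100, 0, 0, 0],
  [0, -22, 0, -90, 2, 0, -10, -164, -148, 0, 26, -206, 0, 0, 374, 0, 0, 198, 268, -324, 96, 0, 0, 0],
  [0, 0, 0, 8, 0, 2, 2, 14, 12, 0, -2, 18, 0, 0, -32, 0, 0, -18, -22, 28, -10, 0, 0, 0],
  [0, 4, 0, 28, 0, 0, 4, 50, 46, 2, -6, 66, 0, 0, -118, 0, 0, -62, -84, 102, -32, 0, 0, 0],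
  [0, -4, 0, -18, 0, 0, -2, -34, -30, 0, 6, -40, 2, 0, 74, 0, 0, 40, 52, -64, 18, 0, 0, 0],
  [0, 6, 0, 30, 0, 0, 4, 56, 50, 0, -8, 72, 0, 2, -130, 0, 0, -70, -92, 114, -34, 0, 0, 0],
  [0, 20, 0, 82, 0, 0, 10, 152, 134, 0, -26, 188, 0, 0, -344, 2, 0, -182, -246, 298, -88, 0, 0, 0],
  [0, -10, 0, -42, 0, 0, -6, -76, -70, 0, 12, -98, 0, 0, 176, 0, 2, 92, 126, -152, 46, 0, 0, 0],
  [0, -12, 0, -62, 0, 0, -8, -108, -100, 0, 14, -142, 0, 0, 254, 0, 0, 136, 182, -222, 66, 2, 0, 0],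
  [0, 6, 0, 28, 0, 0, 2, 50, 44, 0, -8, 62, 0, 0, -114, 0, 0, -60, -80, 98, -30, 0, 2, 0],
  [0, 16, 0, 64, 0, 0, 8, 116, 104, 0, -20, 144, 0, 0, -264, 0, 0, -140, -188, 228, -68, 0, 0, 0],
  [0, 4, 0, 8, 0, 0, 0, 16, 12, 0, -4, 16, 0, 0, -32, 0, 0, -16, -24, 28, -8, 0, 0, 0],
  [0, 0, 0, -4, 0, 0, 0, -4, -4, 0, 0, -8, 0, 0, 12, 0, 0, 8, 8, -12, 4, 0, 0, 0],
  [0, -16, 0, -72, 0, 0, -8, -128, -116, 0, 20, -164, 0, 0, 296, 0, 0, 156, 212, -256, 76, 0, 0, 0],
  [0, -4, 0, -12, 0, 0, 0, -24, -20, 0, 4, -28, 0, 0, 52, 0, 0, 28, 36, -44, 12, 0, 0, 0],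
  [0, 8, 0, 36, 0, 0, 4, 64, 60, 0, -8, 84, 0, 0, -152, 0, 0, -80, -108, 132, -40, 0, 0, 0],
  [0, 0, 0, -8, 0, 0, 0, -12, -12, 0, 0, -16, 0, 0, 28, 0, 0, 16, 20, -24, 8, 0, 0, 0],
  [0, 12, 0, 60, 0, 0, 8, 108, 96, 0, -16, 136, 0, 0, -248, 0, 0, -132, -176, 216, -64, 0, 0, 0],
  [0, 16, 0, 68, 0, 0, 8, 124, 112, 0, -20, 156, 0, 0, -284, 0, 0, -152, -204, 248, -72, 0, 0, 0],
  [0, -8, 0, -36, 0, 0, -4, -68, -60, 0, 12, -84, 0, 0, 152, 0, 0, 80, 108, -132, 40, 0, 0, 0],
  [0, 20, 0, 88, 0, 0, 12, 160, 144, 0, -24, 204, 0, 0, -368, 0, 0, -196, -264, 320, -96, 0, 0, 0],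
  [1, -43, 1, -175, 1, 1, -23, -315, -287, 1, 49, -399, 1, 1, 725, 1, 1, 385, 521, -631, 185, 1, 1, 1],
  [0, -40, 0, -160, 0, 0, -24, -296, -264, 0, 48, -368, 0, 0, 680, 0, 0, 360, 488, -592, 176, 0, 0, 0]]

theorem du_ok : (sh du = true ∧ du.length = 24 ∧ du.all leechB = true) ∧ sh (sel.map fun a => gens.getD a []) = true ∧
    prd du (sel.map fun a => gens.getD a []) 8 = true ∧ ∀ s < 24, sel.getD s 0 < 49 ∧ (sel.map fun a => gens.getD a []).getD s [] =
      gens.getD (sel.getD s 0) [] := by decide +kernel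

theorem maskL_lt : ∀ l : List ℤ, maskL l < 2 ^ l.length
  | [] => Nat.one_pos
  | a :: t => by
    have := maskL_lt t
    show (a % 2).toNat + 2 * maskL t < 2 ^ (t.length + 1)
    omega

theorem leechB_of {l : List ℤ} (hl : l.length = 24) (h : vec l ∈ leechLattice) : leechB l = true := by
  obtain ⟨m, z, h1, h2, h3⟩ := (LeechSet.mem_leechLattice_iff' _).1 h
  have h0 : l.headD 0 = m + 2 * z (GolayBase.pt 0) := by
    rw [← h1, vec_apply, GolayBase.idx_pt (by decide)]; cases l <;> rfl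
  have h4 : ∀ i (hi : i < l.length), l[i] = m + 2 * z (GolayBase.pt i) := fun i hi => by
    rw [← h1, vec_apply, GolayBase.idx_pt (hl ▸ hi), List.getD_eq_getElem _ _ hi]
  rw [sum_vec l hl.le] at h2
  have h5 := (GolayBase.mem_golayCode_iff _).1 (golayCode.add_mem h3 (golayCode.smul_mem ((m / 2 : ℤ) : ZMod 2) LeechSet.one_mem_golayCode))
  simp only [leechB, Bool.and_eq_true, List.all_eq_true, decide_eq_true_eq]
  refine ⟨⟨⟨hl ▸ Nat.beq_refl _, fun a ha => ?_⟩, by have : l.sum % 8 = 4 * m % 8 := h2; omega⟩, ?_⟩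
  · obtain ⟨i, hi, rfl⟩ := List.getElem_of_mem ha
    have := h4 i hi
    omega
  · convert h5 using 2
    refine GolayBase.eq_of_testBit_idx (by have := maskL_lt (l.map fun a => (a - l.headD 0 % 2) / 2); rwa [List.length_map, hl] at this)
      (GolayBase.maskW_lt _) fun p => ?_
    have hp : GolayBase.idx p < l.length := hl ▸ GolayBase.idx_lt p
    rw [testBit_maskL, GolayBase.testBit_maskW, List.getD_eq_getElem _ _ (by rwa [List.length_map]), List.getElem_map, h4 _ hp,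
      GolayBase.pt_idx, decide_eq_decide, Pi.add_apply, Pi.smul_apply, Pi.one_apply, smul_eq_mul, mul_one, ← Int.cast_add, Ne,
      ZMod.intCast_zmod_eq_zero_iff_dvd, Nat.cast_ofNat]
    omega

theorem pres_of {A : List (List ℤ)} (hl : A.length = 24)
    (h : ∀ a b, a < 49 → b < 49 → 64 ∣ ∑ i ∈ range 24, en gens b i * ∑ j ∈ range 24, en A i j * en gens a j) : presB A = true := by
  obtain ⟨⟨d1, d2, d3⟩, d4, d5, d6⟩ := du_ok
  refine List.all_eq_true.2 fun g hg => ?_
  obtain ⟨a, ha, rfl⟩ := List.getElem_of_mem hg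
  rw [← List.getD_eq_getElem _ [] ha]
  have e1 : ∀ i, dotL (gens.getD a []) (A.getD i []) = ∑ j ∈ range 24, en A i j * en gens a j := fun i =>
    (sum_range_getD _ _ 24 (sh_le sh_gens.1 a)).symm.trans (sum_congr rfl fun j _ => mul_comm _ _)
  have h1 : ∀ s, ∃ c : ℤ, s < 24 → ∑ i ∈ range 24, en (sel.map fun a => gens.getD a []) s i * dotL (gens.getD a []) (A.getD i []) = 64 * c :=
    fun s => by
      by_cases hs : s < 24
      · obtain ⟨c, hc⟩ := h a _ (sh_gens.2 ▸ ha) (d6 s hs).1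
        exact ⟨c, fun _ => by simp only [e1]; rw [← hc]; unfold en; rw [(d6 s hs).2]⟩
      · exact ⟨0, fun h => absurd h hs⟩
  choose c hc using h1
  have h2 : ∀ i < 24, dotL (gens.getD a []) (A.getD i []) = 8 * ∑ s ∈ range 24, c s * en du s i := fun i hi => by
    refine mul_left_cancel₀ (show (8 : ℤ) ≠ 0 by decide) ?_
    have e2 : ∑ j ∈ range 24, (∑ s ∈ range 24, en du s i * en (sel.map fun a => gens.getD a []) s j) * dotL (gens.getD a []) (A.getD j []) =
        8 * dotL (gens.getD a []) (A.getD i []) := by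
      rw [sum_eq_single i (fun j hj h => by rw [prd_spec d1 d4 d2 (by decide) d5 hi (mem_range.1 hj), if_neg h.symm, zero_mul])
        (fun h => absurd (mem_range.2 hi) h), prd_spec d1 d4 d2 (by decide) d5 hi hi, if_pos rfl]
    rw [← e2]
    simp only [sum_mul, mul_sum, mul_assoc]
    rw [sum_comm]
    exact sum_congr rfl fun s hs => by rw [← mul_sum, hc s (mem_range.1 hs)]; ring
  refine Bool.and_eq_true_iff.2 ⟨List.all_eq_true.2 fun r hr => decide_eq_true ?_, leechB_of (by rw [List.length_map, hl]) ?_⟩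
  · obtain ⟨i, hi, rfl⟩ := List.getElem_of_mem hr
    rw [← List.getD_eq_getElem _ [] hi, h2 i (hl ▸ hi)]
    exact Int.mul_emod_right _ _
  · have e3 : vec (A.map fun r => dotL (gens.getD a []) r / 8) = ∑ s ∈ range 24, c s • vec (du.getD s []) := funext fun p => by
      have hp : GolayBase.idx p < A.length := hl ▸ GolayBase.idx_lt p
      rw [vec_apply, List.getD_eq_getElem _ _ (by rwa [List.length_map]), List.getElem_map, ← List.getD_eq_getElem _ [] hp,
        h2 _ (GolayBase.idx_lt p), Int.mul_ediv_cancel_left _ (by decide), Finset.sum_apply]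
      rfl
    rw [e3]
    exact sum_mem fun s hs => leechLattice.zsmul_mem
      (vec_mem_of_leechB (List.all_eq_true.1 d3 _ (getD_mem_of_lt _ [] (d2 ▸ mem_range.1 hs)))) _

/-- equality of rows -/
noncomputable def eqq (s : List ℤ) : List ℤ → Bool :=
  List.rec (fun t => List.rec true (fun _ _ _ => false) t)
    (fun a _ ih t => List.rec false (fun b t' _ => cond (decide (a = b)) (ih t') false) t) s

theorem eqq_eq : ∀ {s t : List ℤ}, eqq s t = true → s = t
  | [], [], _ => rfl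
  | [], _ :: _, h => absurd h Bool.false_ne_true
  | _ :: _, [], h => absurd h Bool.false_ne_true
  | a :: s, b :: t, h => by
    have h1 : cond (decide (a = b)) (eqq s t) false = true := h
    by_cases h2 : a = b
    · rw [decide_eq_true h2] at h1
      rw [h2, eqq_eq h1]
    · rw [decide_eq_false h2] at h1
      exact absurd h1 Bool.false_ne_true

/-- `C` lists the columns of `R` -/
noncomputable def trQ (R C : List (List ℤ)) : Bool :=
  List.rec (motive := fun _ => List (List ℤ) → Bool) (fun _ => true)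
    (fun c _ ih R => eqq (R.map fun r => r.headD 0) c && ih (R.map List.tail)) C R

theorem trQ_spec : ∀ {C R : List (List ℤ)}, trQ R C = true → ∀ i j, i < R.length → j < C.length →
    (R.getD i []).getD j 0 = (C.getD j []).getD i 0
  | [], _, _, _, _, _, hj => absurd hj (Nat.not_lt_zero _)
  | c :: C, R, h, i, j, hi, hj => by
    obtain ⟨h1, h2⟩ := Bool.and_eq_true_iff.1 (show (eqq (R.map fun r => r.headD 0) c && trQ (R.map List.tail) C) = true from h)
    cases j with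
    | zero =>
      rw [List.getD_cons_zero, ← eqq_eq h1, List.getD_eq_getElem (R.map _) _ (by rwa [List.length_map]), List.getElem_map,
        List.getD_eq_getElem R _ hi]
      cases R[i] <;> rfl
    | succ j =>
      rw [List.getD_cons_succ, ← trQ_spec h2 i j (by rwa [List.length_map]) (Nat.lt_of_succ_lt_succ hj), List.getD_eq_getElem R _ hi,
        List.getD_eq_getElem (R.map _) _ (by rwa [List.length_map]), List.getElem_map]
      cases R[i] <;> rfl

/-- all checks -/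
noncomputable def okq (R C : List (List ℤ)) : Bool :=
  Nat.beq R.length 24 && Nat.beq C.length 24 && sh R && sh C && trQ R C && prd R R 64 && prd C C 64 && prs R

theorem ok_of {R C : List (List ℤ)} (h : okq R C = true) : Ok R C := by
  simp only [okq, Bool.and_eq_true] at h
  obtain ⟨⟨⟨⟨⟨⟨⟨h1, h2⟩, h3⟩, h4⟩, h5⟩, h6⟩, h7⟩, h8⟩ := h
  have hR := Nat.eq_of_beq_eq_true h1
  have hC := Nat.eq_of_beq_eq_true h2
  have ht : ∀ i < 24, ∀ j < 24, en R i j = en C j i := fun i hi j hj => trQ_spec h5 i j (hR ▸ hi) (hC ▸ hj)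
  have ble : ∀ {M : List (List ℤ)}, sh M = true → (M.all fun r => Nat.ble r.length 24) = true := fun hM =>
    List.all_eq_true.2 fun r hr => Nat.ble_eq_true_of_le (sh_len hM hr).le
  have orth : ∀ {A B : List (List ℤ)}, sh A = true → sh B = true → A.length = 24 → (∀ i < 24, ∀ j < 24, en A i j = en B j i) →
      prd A A 64 = true → orthB B = true := fun {A B} hA hB hl ht hp =>
    List.all_eq_true.2 fun i hi => List.all_eq_true.2 fun j hj => decide_eq_true (by
      rw [← prd_spec hA hA hl (by decide) hp (List.mem_range.1 hi) (List.mem_range.1 hj), ← sum_range_getD _ _ 24 (sh_le hB i)]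
      exact sum_congr rfl fun k hk => (congrArg₂ _ (ht k (mem_range.1 hk) i (List.mem_range.1 hi))
        (ht k (mem_range.1 hk) j (List.mem_range.1 hj))).symm)
  refine ⟨hR, hC, ble h3, ble h4, List.all_eq_true.2 fun i hi => List.all_eq_true.2 fun j hj =>
    decide_eq_true (ht i (List.mem_range.1 hi) j (List.mem_range.1 hj)), orth h4 h3 hC (fun i hi j hj => (ht j hj i hi).symm) h7,
    orth h3 h4 hR ht h6, pres_of hR (prs_spec h3 h8), pres_of hC fun a b ha hb => ?_⟩
  convert prs_spec h3 h8 b a hb ha using 1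
  simp only [mul_sum]
  rw [sum_comm]
  exact sum_congr rfl fun i hi => sum_congr rfl fun j hj => by rw [ht i (mem_range.1 hi) j (mem_range.1 hj)]; ring

theorem ok2_of {R C : List (List ℤ)} (h : okq R C = true) : ok2B R C = true := by
  obtain ⟨h1, h2, h3, h4, h5, h6, h7, h8, h9⟩ := ok_of h
  simp only [ok2B, okB, Bool.and_eq_true]
  exact ⟨⟨⟨⟨⟨⟨⟨Nat.beq_eq.mpr h1, Nat.beq_eq.mpr h2⟩, h4⟩, h5⟩, h7⟩, h8⟩, h9⟩, h3, h6⟩

theorem dotL_F : dotL = fun r l => dk r l 0 0 := funext fun r => funext fun l => (dk0 r l).symm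

end Cfsg.Agent.CoOneType.CoQ
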