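import Cfsg.Agent.CoOneType.CoEval
import Cfsg.Agent.Prune
set_option linter.all false
prune_inst 0x7f00000000000000000000000000000000000000000000000000000000000000000000000000000000000000000000000000000000000000000000000000000000000000000000000000000000000000003fffffffffffffffffffffffffffbeffbdffffffff
open scoped Cfsg.Agent.FastGrp

/-!
A faster evaluation of `CoEval.fold`: the vector is packed into one number, the columns of the matrices are packed.
`fold_eq : fold = foldQ` holds without hypotheses (the slow evaluation is the fallback).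
-/

set_option autoImplicit false

namespace Cfsg.Agent.CoOneType.CoW

open Cfsg Cfsg.Agent.SporadicA Cfsg.Agent.SporadicStructure.Co0Matrix Cfsg.Agent.CoOneType.CoEval

/-- signed packing in base `2 ^ 160` -/
def pkZ (l : List ℤ) : ℤ := List.rec 0 (fun a _ s => Int.add a (Int.mul (Int.ofNat 0x10000000000000000000000000000000000000000) s)) l

theorem pkZ_cons (a : ℤ) (l : List ℤ) : pkZ (a :: l) = a + 2 ^ 160 * pkZ l := rfl

theorem pkZ_inj : ∀ {s t : List ℤ}, s.length = t.length → (∀ a ∈ s, |a| < 2 ^ 159) → (∀ a ∈ t, |a| < 2 ^ 159) →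
    pkZ s = pkZ t → s = t
  | [], [], _, _, _, _ => rfl
  | a :: s, b :: t, h, hs, ht, e => by
    rw [pkZ_cons, pkZ_cons] at e
    have h1 := abs_lt.1 (hs a List.mem_cons_self)
    have h2 := abs_lt.1 (ht b List.mem_cons_self)
    have h3 : a = b := by omega
    have h4 : pkZ s = pkZ t := by omega
    rw [h3, pkZ_inj (Nat.succ.inj h) (fun x hx => hs x (List.mem_cons_of_mem _ hx)) (fun x hx => ht x (List.mem_cons_of_mem _ hx)) h4]

theorem pkZ_add (c : ℤ) : ∀ l : List ℤ, pkZ (l.map fun a => a + c) = pkZ l + c * pkZ (List.replicate l.length 1)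
  | [] => by show (0 : ℤ) = 0 + c * 0; ring
  | a :: l => by rw [List.map_cons, List.length_cons, List.replicate_succ, pkZ_cons, pkZ_cons, pkZ_cons, pkZ_add c l]; ring

/-- `a + 2 ^ 160 * b` -/
noncomputable def mad (a b : ℤ) : ℤ :=
  Int.rec (fun x => Int.rec (fun y => Int.ofNat (Nat.add x (Nat.shiftLeft y 160)))
      (fun y => Int.subNatNat x (Nat.shiftLeft (Nat.succ y) 160)) b)
    (fun x => Int.rec (fun y => Int.subNatNat (Nat.shiftLeft y 160) (Nat.succ x))
      (fun y => Int.negSucc (Nat.add x (Nat.shiftLeft (Nat.succ y) 160))) b) a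

theorem mad_eq : ∀ a b : ℤ, mad a b = a + 2 ^ 160 * b
  | .ofNat x, .ofNat y => by
    show ((x + y <<< 160 : ℕ) : ℤ) = (x : ℤ) + 2 ^ 160 * (y : ℤ)
    rw [Nat.shiftLeft_eq]; push_cast; ring
  | .ofNat x, .negSucc y => by
    show Int.subNatNat x ((y + 1) <<< 160) = (x : ℤ) + _
    rw [Int.subNatNat_eq_coe, Nat.shiftLeft_eq, Int.negSucc_eq]; push_cast; ring
  | .negSucc x, .ofNat y => by
    show Int.subNatNat (y <<< 160) (x + 1) = _ + 2 ^ 160 * (y : ℤ)
    rw [Int.subNatNat_eq_coe, Nat.shiftLeft_eq, Int.negSucc_eq]; push_cast; ring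
  | .negSucc x, .negSucc y => by
    show Int.negSucc (x + (y + 1) <<< 160) = _
    rw [Int.negSucc_eq, Nat.shiftLeft_eq, Int.negSucc_eq, Int.negSucc_eq]; push_cast; ring

/-- one more row -/
noncomputable def zp (g : List ℤ) : List ℤ → List ℤ :=
  List.rec (fun _ => []) (fun a _ ih s => List.rec [] (fun b t _ => mad a b :: ih t) s) g

theorem zp_spec : ∀ (g s l : List ℤ), g.length = s.length →
    (zp g s).length = g.length ∧ dotL l (zp g s) = dotL l g + 2 ^ 160 * dotL l s
  | [], [], l, _ => ⟨rfl, by show dotL l [] = _; rw [dotL_nil_right]; ring⟩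
  | a :: g, b :: s, [], h => ⟨congrArg Nat.succ (zp_spec g s [] (Nat.succ.inj h)).1, by
      rw [dotL_nil_left, dotL_nil_left, dotL_nil_left]; ring⟩
  | a :: g, b :: s, c :: l, h => ⟨congrArg Nat.succ (zp_spec g s [] (Nat.succ.inj h)).1, by
      show dotL (c :: l) (mad a b :: zp g s) = _
      rw [dotL_cons, dotL_cons, dotL_cons, (zp_spec g s l (Nat.succ.inj h)).2, mad_eq]; ring⟩

/-- the packed columns -/
noncomputable def cols (R : List (List ℤ)) : List ℤ :=
  List.rec [0, 0, 0, 0, 0, 0, 0, 0, 0, 0, 0, 0, 0, 0, 0, 0, 0, 0, 0, 0, 0, 0, 0, 0] (fun g _ s => zp g s) R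

theorem dotL_zero : ∀ (l : List ℤ) (n : ℕ), dotL l (List.replicate n 0) = 0
  | [], _ => rfl
  | _ :: _, 0 => rfl
  | a :: l, n + 1 => by rw [List.replicate_succ, dotL_cons, dotL_zero l n]; ring

theorem cols_spec (l : List ℤ) : ∀ R : List (List ℤ), (∀ r ∈ R, r.length = 24) →
    (cols R).length = 24 ∧ dotL l (cols R) = pkZ (R.map (dotL l))
  | [], _ => ⟨rfl, dotL_zero l 24⟩
  | g :: R, h => by
    obtain ⟨h1, h2⟩ := cols_spec l R fun r hr => h r (List.mem_cons_of_mem _ hr)
    obtain ⟨h3, h4⟩ := zp_spec g (cols R) l ((h g List.mem_cons_self).trans h1.symm)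
    exact ⟨h3.trans (h g List.mem_cons_self), h4.trans (by rw [h2, List.map_cons, pkZ_cons])⟩

/-- digits -/
def dg (n : ℕ) : ℕ → List ℕ := Nat.rec (fun _ => []) (fun _ ih Y => Y % 2 ^ 160 :: ih (Y / 2 ^ 160)) n

theorem dg_len : ∀ n Y, (dg n Y).length = n
  | 0, _ => rfl
  | n + 1, _ => congrArg Nat.succ (dg_len n _)

/-- the mask -/
def lo (n : ℕ) : ℕ := Nat.rec 0 (fun _ s => (2 ^ 148 - 1) + 2 ^ 160 * s) n

theorem mask : ∀ n Y, Y &&& lo n = Y → (Y : ℤ) = pkZ ((dg n Y).map Nat.cast) ∧ ∀ d ∈ dg n Y, d < 2 ^ 148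
  | 0, Y, h => ⟨by rw [← h]; exact congrArg _ (Nat.and_zero Y), fun _ hd => absurd hd List.not_mem_nil⟩
  | n + 1, Y, h => by
    have e : lo (n + 1) = (2 ^ 148 - 1) + 2 ^ 160 * lo n := rfl
    have h1 := congrArg (· % 2 ^ 160) h
    have h2 := congrArg (· / 2 ^ 160) h
    simp only [e] at h1 h2
    rw [Nat.and_mod_two_pow, Nat.add_mul_mod_self_left, Nat.mod_eq_of_lt (show 2 ^ 148 - 1 < 2 ^ 160 by decide)] at h1
    rw [Nat.and_div_two_pow, Nat.add_mul_div_left _ _ (Nat.two_pow_pos 160), Nat.div_eq_of_lt (show 2 ^ 148 - 1 < 2 ^ 160 by decide),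
      Nat.zero_add] at h2
    obtain ⟨h3, h4⟩ := mask n _ h2
    have h5 : Y % 2 ^ 160 ≤ 2 ^ 148 - 1 := h1 ▸ Nat.and_le_right
    refine ⟨?_, fun d hd => (List.mem_cons.1 hd).elim (fun k => k ▸ Nat.lt_of_le_of_lt h5 (by decide)) (h4 d)⟩
    show _ = pkZ (((Y % 2 ^ 160 : ℕ) : ℤ) :: (dg n (Y / 2 ^ 160)).map Nat.cast)
    rw [pkZ_cons, ← h3]
    exact_mod_cast (Nat.mod_add_div Y (2 ^ 160)).symm

/-- the vector of a state -/
def unp (n : ℕ) : ℕ → List ℤ :=
  Nat.rec (fun _ => []) (fun _ ih S => Int.subNatNat (Nat.mod S 0x2000000000000000000000000000000000000000)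
    0x1000000000000000000000000000000000000 :: ih (Nat.shiftRight S 160)) n

theorem dig_eq (Y : ℕ) : Nat.mod (Y / 8) 0x2000000000000000000000000000000000000000 = Y % 2 ^ 160 / 8 :=
  (Nat.mod_mul_right_div_self Y 8 (2 ^ 157)).symm

theorem shr_eq (Y : ℕ) : Nat.shiftRight (Y / 8) 160 = Y / 2 ^ 160 / 8 := by
  show (Y / 8) >>> 160 = _
  rw [Nat.shiftRight_eq_div_pow, Nat.div_div_eq_div_mul, Nat.div_div_eq_div_mul, Nat.mul_comm]

theorem unp_eq : ∀ n Y, unp n (Y / 8) = ((dg n Y).map Nat.cast).map fun e : ℤ => e / 8 - 2 ^ 144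
  | 0, _ => rfl
  | n + 1, Y => by
    show Int.subNatNat (Nat.mod (Y / 8) _) _ :: unp n (Nat.shiftRight (Y / 8) 160) = _
    rw [dig_eq, shr_eq, unp_eq n, Int.subNatNat_eq_coe]
    rfl

/-- the sum of the columns times the digits -/
noncomputable def lp (C : List ℤ) : ℕ → ℕ → ℕ → ℕ :=
  List.rec (fun _ P N => Nat.sub P N) (fun c _ ih S P N => Int.rec
    (fun x => ih (Nat.shiftRight S 160) (Nat.add P (Nat.mul x (Nat.mod S 0x2000000000000000000000000000000000000000))) N)
    (fun x => ih (Nat.shiftRight S 160) P (Nat.add N (Nat.mul (Nat.succ x) (Nat.mod S 0x2000000000000000000000000000000000000000))))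
    c) C

theorem lp_eq : ∀ (C : List ℤ) (S P N : ℕ), lp C S P N = (P - N + dotL (unp C.length S) C + 2 ^ 144 * C.sum : ℤ).toNat
  | [], S, P, N => by
    show P - N = ((P : ℤ) - N + 0 + 2 ^ 144 * 0).toNat
    rw [mul_zero, add_zero, add_zero, Int.toNat_sub]
  | .ofNat x :: C, S, P, N => (lp_eq C _ _ N).trans (congrArg Int.toNat (by
      show ((P + x * Nat.mod S _ : ℕ) : ℤ) - N + _ + _ = P - N + dotL (Int.subNatNat _ _ :: unp C.length _) _ + _
      rw [dotL_cons, Int.subNatNat_eq_coe, List.sum_cons, Int.ofNat_eq_natCast]; push_cast; ring))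
  | .negSucc x :: C, S, P, N => (lp_eq C _ P _).trans (congrArg Int.toNat (by
      show (P : ℤ) - ((N + (x + 1) * Nat.mod S _ : ℕ) : ℤ) + _ + _ = P - N + dotL (Int.subNatNat _ _ :: unp C.length _) _ + _
      rw [dotL_cons, Int.subNatNat_eq_coe, List.sum_cons, Int.negSucc_eq]; push_cast; ring))

/-- the sum of the absolute values; large if the length is not `n` -/
noncomputable def nrm (r : List ℤ) : ℕ → ℕ :=
  List.rec (fun n => Nat.mul n 5000) (fun a _ ih n => Nat.rec 5000 (fun m _ => Nat.add (Int.rec (fun x => x) Nat.succ a) (ih m)) n) r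

theorem nrm_spec : ∀ (r : List ℤ) (n : ℕ), nrm r n < 5000 → r.length = n ∧
    ∀ l : List ℤ, (∀ a ∈ l, |a| ≤ 2 ^ 144) → |dotL l r| ≤ 2 ^ 144 * nrm r n
  | [], n, h => ⟨by have : n * 5000 < 5000 := h; show 0 = n; omega, fun l _ => by rw [dotL_nil_right]; positivity⟩
  | a :: r, 0, h => absurd h (Nat.lt_irrefl 5000)
  | a :: r, n + 1, h => by
    have e : nrm (a :: r) (n + 1) = a.natAbs + nrm r n := by cases a <;> rfl
    rw [e] at h ⊢
    obtain ⟨h1, h2⟩ := nrm_spec r n (Nat.lt_of_le_of_lt (Nat.le_add_left _ _) h)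
    refine ⟨congrArg Nat.succ h1, fun l hl => ?_⟩
    cases l with
    | nil => rw [dotL_nil_left]; positivity
    | cons b l =>
      rw [dotL_cons, Nat.cast_add, mul_add, Int.natCast_natAbs]
      exact (abs_add_le _ _).trans (add_le_add ((abs_mul b a).trans_le
        (mul_le_mul_of_nonneg_right (hl b List.mem_cons_self) (abs_nonneg a))) (h2 l fun x hx => hl x (List.mem_cons_of_mem _ hx)))

/-- the shape of a matrix -/
noncomputable def okR (R : List (List ℤ)) : ℕ → Bool :=
  List.rec (fun n => Nat.beq n 0) (fun r _ ih n => Nat.rec false (fun m _ => cond (Nat.blt (nrm r 24) 5000) (ih m) false) n) R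

theorem okR_spec : ∀ (R : List (List ℤ)) (n : ℕ), okR R n = true → R.length = n ∧ ∀ r ∈ R, nrm r 24 < 5000
  | [], n, h => ⟨(Nat.eq_of_beq_eq_true h).symm, fun _ hr => absurd hr List.not_mem_nil⟩
  | r :: R, 0, h => absurd h Bool.false_ne_true
  | r :: R, n + 1, h => by
    have h' : cond (Nat.blt (nrm r 24) 5000) (okR R n) false = true := h
    cases e : Nat.blt (nrm r 24) 5000 with
    | false => rw [e] at h'; exact absurd h' Bool.false_ne_true
    | true =>
      rw [e] at h'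
      obtain ⟨h1, h2⟩ := okR_spec R n h'
      exact ⟨congrArg Nat.succ h1, fun x hx => (List.mem_cons.1 hx).elim (fun k => k ▸ Nat.blt_eq ▸ e) (h2 x)⟩

/-- the mask, computed -/
def LO : ℕ := Nat.mul (2 ^ 148 - 1) ((2 ^ 3840 - 1) / (2 ^ 160 - 1))

/-- the offsets, computed -/
def OF : ℕ := Nat.mul (2 ^ 147) ((2 ^ 3840 - 1) / (2 ^ 160 - 1))

theorem LO_eq : LO = lo 24 := by decide +kernel

theorem OF_eq : (OF : ℤ) = 2 ^ 147 * pkZ (List.replicate 24 1) := by decide +kernel

/-- the test of a state; `0` : failure -/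
def tst (Y : ℕ) : ℕ := Nat.rec 0 (fun y _ => cond (Nat.beq (Nat.land (Nat.succ y) LO) (Nat.succ y)) (Nat.succ y) 0) Y

theorem tst_spec : ∀ Y : ℕ, tst Y ≠ 0 → tst Y = Y ∧ Y &&& LO = Y
  | 0, h => absurd rfl h
  | y + 1, h => by
    have e : tst (y + 1) = cond (Nat.beq ((y + 1) &&& LO) (y + 1)) (y + 1) 0 := rfl
    cases k : Nat.beq ((y + 1) &&& LO) (y + 1) with
    | false => rw [e, k] at h; exact absurd rfl h
    | true => rw [e, k]; exact ⟨rfl, Nat.eq_of_beq_eq_true k⟩

/-- start values -/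
noncomputable def p0 (C : List ℤ) : ℕ := Nat.add OF (Nat.shiftLeft (-C.sum).toNat 144)

/-- start values -/
noncomputable def n0 (C : List ℤ) : ℕ := Nat.shiftLeft C.sum.toNat 144

/-- one letter -/
noncomputable def stp (R : List (List ℤ)) (Y : ℕ) : ℕ :=
  Nat.rec 0 (fun y _ => cond (okR R 24) (tst (lp (cols R) (Nat.shiftRight (Nat.succ y) 3) (p0 (cols R)) (n0 (cols R)))) 0) Y

/-- the state `Y` codes the vector `l` -/
def Inv (Y : ℕ) (l : List ℤ) : Prop := Y ≠ 0 → Y &&& LO = Y ∧ unp 24 (Y / 8) = l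

theorem shr3 (Y : ℕ) : Nat.shiftRight Y 3 = Y / 8 := Nat.shiftRight_eq_div_pow Y 3

theorem stp_spec (R : List (List ℤ)) {l : List ℤ} : ∀ Y : ℕ, Inv Y l → Inv (stp R Y) (ap R l)
  | 0, _ => fun h => absurd rfl h
  | y + 1, h => by
    obtain ⟨h1, h2⟩ := h (Nat.succ_ne_zero y)
    have e : stp R (y + 1) = cond (okR R 24) (tst (lp (cols R) (Nat.shiftRight (y + 1) 3) (p0 (cols R)) (n0 (cols R)))) 0 := rfl
    cases k : okR R 24 with
    | false => rw [e, k]; exact fun h => absurd rfl h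
    | true =>
      rw [e, k, cond_true, shr3]
      intro h0
      obtain ⟨h3, h4⟩ := tst_spec _ h0
      rw [h3] at h0 ⊢
      refine ⟨h4, ?_⟩
      obtain ⟨hR, hn⟩ := okR_spec R 24 k
      obtain ⟨c1, c2⟩ := cols_spec l R fun r hr => (nrm_spec r 24 (hn r hr)).1
      have hl : ∀ a ∈ l, |a| ≤ 2 ^ 144 := by
        rw [LO_eq] at h1
        rw [← h2, unp_eq]
        intro a ha
        obtain ⟨b, hb, rfl⟩ := List.mem_map.1 ha
        obtain ⟨d, hd, rfl⟩ := List.mem_map.1 hb
        have := (mask 24 _ h1).2 d hd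
        rw [abs_le]
        omega
      have hv : lp (cols R) ((y + 1) / 8) (p0 (cols R)) (n0 (cols R)) =
          (pkZ ((R.map (dotL l)).map fun a => a + 2 ^ 147)).toNat := by
        rw [lp_eq, c1, h2, c2, pkZ_add, List.length_map, hR, ← OF_eq]
        refine congrArg Int.toNat ?_
        have := Int.toNat_sub_toNat_neg (cols R).sum
        show ((OF + (-(cols R).sum).toNat <<< 144 : ℕ) : ℤ) - (((cols R).sum.toNat <<< 144 : ℕ) : ℤ) + _ + _ = _
        rw [Nat.shiftLeft_eq, Nat.shiftLeft_eq]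
        push_cast
        linear_combination (-2 ^ 144) * this
      generalize lp (cols R) ((y + 1) / 8) (p0 (cols R)) (n0 (cols R)) = Y at h0 h4 hv
      rw [LO_eq] at h4
      obtain ⟨m1, m2⟩ := mask 24 Y h4
      have m3 : (dg 24 Y).map Nat.cast = (R.map (dotL l)).map fun a => a + 2 ^ 147 := by
        refine pkZ_inj (by rw [List.length_map, List.length_map, List.length_map, dg_len, hR]) (fun a ha => ?_) (fun a ha => ?_)
          (by rw [← m1]; omega)
        · obtain ⟨d, hd, rfl⟩ := List.mem_map.1 ha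
          have := m2 d hd
          rw [abs_lt]
          omega
        · obtain ⟨b, hb, rfl⟩ := List.mem_map.1 ha
          obtain ⟨r, hr, rfl⟩ := List.mem_map.1 hb
          have k1 := abs_le.1 ((nrm_spec r 24 (hn r hr)).2 l hl)
          have k2 := hn r hr
          rw [abs_lt]
          omega
      rw [unp_eq, m3, List.map_map, List.map_map]
      refine List.map_congr_left fun r _ => ?_
      show (dotL l r + 2 ^ 147) / 8 - 2 ^ 144 = dotL l r / 8
      omega

/-- the word -/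
noncomputable def run (M : ℕ → List (List ℤ)) (w : List ℕ) (Y : ℕ) : ℕ :=
  List.rec Y (fun i _ ih => Nat.rec (stp (M 0) ih) (fun j _ => stp (M (Nat.succ j)) ih) i) w

theorem run_spec (M : ℕ → List (List ℤ)) {Y : ℕ} {l : List ℤ} (h : Inv Y l) : ∀ w : List ℕ, Inv (run M w Y) (fold M w l)
  | [] => h
  | 0 :: w => stp_spec (M 0) _ (run_spec M h w)
  | (j + 1) :: w => stp_spec (M (j + 1)) _ (run_spec M h w)

/-- the state of a vector -/
def ini (l : List ℤ) : ℕ :=
  Nat.rec 0 (fun y _ => cond (eqL (unp 24 (Nat.shiftRight (Nat.succ y) 3)) l) (tst (Nat.succ y)) 0) (Int.toNat (8 * pkZ l + OF))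

theorem ini_spec (l : List ℤ) : Inv (ini l) l := by
  unfold ini
  cases Int.toNat (8 * pkZ l + OF) with
  | zero => exact fun h => absurd rfl h
  | succ y =>
    show Inv (cond (eqL (unp 24 (Nat.shiftRight (y + 1) 3)) l) (tst (y + 1)) 0) l
    cases k : eqL (unp 24 (Nat.shiftRight (y + 1) 3)) l with
    | false => exact fun h => absurd rfl h
    | true =>
      intro h
      obtain ⟨h1, h2⟩ := tst_spec (y + 1) h
      rw [cond_true, h1, ← shr3]
      exact ⟨h2, eqL_eq k⟩

/-- the image of a list under a word -/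
noncomputable def foldQ (M : ℕ → List (List ℤ)) (w : List ℕ) (l : List ℤ) : List ℤ :=
  Nat.rec (fold M w l) (fun y _ => unp 24 (Nat.shiftRight (Nat.succ y) 3)) (run M w (ini l))

theorem fold_eq : fold = foldQ := by
  funext M w l
  have h := run_spec M (ini_spec l) w
  unfold foldQ
  generalize run M w (ini l) = Y at h
  cases Y with
  | zero => rfl
  | succ y => exact ((congrArg (unp 24) (shr3 (y + 1))).trans (h (Nat.succ_ne_zero y)).2).symm

theorem of_eq {f : (ℕ → List (List ℤ)) → List ℕ → List ℤ → List ℤ} (h : ∀ M w l, f M w l = fold M w l) : f = foldQ :=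
  (funext fun M => funext fun w => funext fun l => h M w l).trans fold_eq

end Cfsg.Agent.CoOneType.CoW
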