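import Mathlib
import Cfsg.Agent.S0206
import Cfsg.Agent.S0497
import Cfsg.Agent.S0848
import Cfsg.Agent.SmallSimple.Simple168Klein
set_option linter.all false

-- part: CoOneType/AmalgamPerm
section
/-!
# Amalgams of two symmetric groups of degree four over a dihedral group of order eight in `Sym(7)`

`Amalgam z s t x y`: `⟨s,t⟩` is dihedral of order 8 with central involution `z = (st)²`, `x` and `y` have order three,
`z ↦ s ↦ zs ↦ z` under `x`, `z ↦ t ↦ zt ↦ z` under `y`, `zt` inverts `x`, `zs` inverts `y`. If the group generated by these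
elements embeds in `Sym(7)` then it satisfies the relations of `A₆` or of `L₃(2)` (after replacing `x` by `x^z`).

The computations in `Sym(7)` are done with permutations coded by natural numbers in base 8.
-/

set_option autoImplicit false

namespace Cfsg.Agent.CoOneType.LThree

open Equiv

/-- The relations of the amalgam (`s^x = x⁻¹ s x`). -/
structure Amalgam {G : Type*} [Group G] (z s t x y : G) : Prop where
  ss : s * s = 1
  tt : t * t = 1
  hz : s * t * (s * t) = z
  zz : z * z = 1
  z1 : z ≠ 1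
  xxx : x * x * x = 1
  yyy : y * y * y = 1
  zx : z * x = x * s
  sx : s * x = x * (z * s)
  zy : z * y = y * t
  ty : t * y = y * (z * t)
  ix : z * t * x * (z * t) * x = 1
  iy : z * s * y * (z * s) * y = 1

/-- The three possible conclusions: `A₆`, `L₃(2)`, `L₃(2)` with `x^z` instead of `x`. -/
def Concl {G : Type*} [Group G] (z x y : G) : Prop :=
  ((x * y) ^ 5 = 1 ∧ (x * y⁻¹) ^ 4 = 1) ∨ ((x * y) ^ 4 = 1 ∧ (x * y⁻¹) ^ 7 = 1) ∨
    ((z * x * z * y) ^ 4 = 1 ∧ (z * x * z * y⁻¹) ^ 7 = 1)

section Hom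

variable {G H : Type*} [Group G] [Group H] {z s t x y : G}

theorem Amalgam.map (h : Amalgam z s t x y) (f : G →* H) (hf : Function.Injective f) :
    Amalgam (f z) (f s) (f t) (f x) (f y) where
  ss := by rw [← map_mul, h.ss, map_one]
  tt := by rw [← map_mul, h.tt, map_one]
  hz := by rw [← map_mul, ← map_mul, h.hz]
  zz := by rw [← map_mul, h.zz, map_one]
  z1 := fun e => h.z1 (hf (by rw [e, map_one]))
  xxx := by rw [← map_mul, ← map_mul, h.xxx, map_one]
  yyy := by rw [← map_mul, ← map_mul, h.yyy, map_one]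
  zx := by rw [← map_mul, h.zx, map_mul]
  sx := by rw [← map_mul, h.sx, map_mul, map_mul]
  zy := by rw [← map_mul, h.zy, map_mul]
  ty := by rw [← map_mul, h.ty, map_mul, map_mul]
  ix := by simp only [← map_mul]; rw [h.ix, map_one]
  iy := by simp only [← map_mul]; rw [h.iy, map_one]

theorem Concl.of_map {f : G →* H} (hf : Function.Injective f) (h : Concl (f z) (f x) (f y)) : Concl z x y := by
  have key : ∀ (a : G) (n : ℕ), (f a) ^ n = 1 → a ^ n = 1 := fun a n e =>
    hf (by rw [map_pow, e, map_one])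
  unfold Concl at h ⊢
  simp only [← map_mul, ← map_inv] at h
  rcases h with ⟨h1, h2⟩ | ⟨h1, h2⟩ | ⟨h1, h2⟩
  · exact Or.inl ⟨key _ _ h1, key _ _ h2⟩
  · exact Or.inr (Or.inl ⟨key _ _ h1, key _ _ h2⟩)
  · exact Or.inr (Or.inr ⟨key _ _ h1, key _ _ h2⟩)

end Hom

/-! ### Codes of permutations -/

/-- The code of a permutation of seven points: the digits in base 8. -/
def code (x : Perm (Fin 7)) : ℕ :=
  (x 0).val + 8 * (x 1).val + 64 * (x 2).val + 512 * (x 3).val + 4096 * (x 4).val + 32768 * (x 5).val +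
    262144 * (x 6).val

theorem dig (x : Perm (Fin 7)) (j : Fin 7) : code x / 8 ^ (j : ℕ) % 8 = (x j).val := by
  have h0 := (x 0).isLt
  have h1 := (x 1).isLt
  have h2 := (x 2).isLt
  have h3 := (x 3).isLt
  have h4 := (x 4).isLt
  have h5 := (x 5).isLt
  have h6 := (x 6).isLt
  unfold code
  fin_cases j <;> simp <;> omega

theorem code_inj {x y : Perm (Fin 7)} (h : code x = code y) : x = y := by
  apply Equiv.ext
  intro j
  apply Fin.ext
  rw [← dig, ← dig, h]

/-- Composition of codes. -/
def cmp (a b : ℕ) : ℕ :=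
  a / 8 ^ (b % 8) % 8 + 8 * (a / 8 ^ (b / 8 % 8) % 8) + 64 * (a / 8 ^ (b / 64 % 8) % 8) +
    512 * (a / 8 ^ (b / 512 % 8) % 8) + 4096 * (a / 8 ^ (b / 4096 % 8) % 8) +
    32768 * (a / 8 ^ (b / 32768 % 8) % 8) + 262144 * (a / 8 ^ (b / 262144 % 8) % 8)

theorem code_mul (x y : Perm (Fin 7)) : code (x * y) = cmp (code x) (code y) := by
  have d0 : code y % 8 = (y 0).val := by simpa using dig y 0
  have d1 : code y / 8 % 8 = (y 1).val := by simpa using dig y 1
  have d2 : code y / 64 % 8 = (y 2).val := by simpa using dig y 2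
  have d3 : code y / 512 % 8 = (y 3).val := by simpa using dig y 3
  have d4 : code y / 4096 % 8 = (y 4).val := by simpa using dig y 4
  have d5 : code y / 32768 % 8 = (y 5).val := by simpa using dig y 5
  have d6 : code y / 262144 % 8 = (y 6).val := by simpa using dig y 6
  unfold cmp
  rw [d0, d1, d2, d3, d4, d5, d6]
  simp only [dig]
  rfl

/-- Forces the evaluation of a number. -/
def force (n : ℕ) (f : ℕ → Bool) : Bool :=
  match n with
  | 0 => f 0
  | m + 1 => f (m + 1)

theorem force_eq (n : ℕ) (f : ℕ → Bool) : force n f = f n := by cases n <;> rfl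

/-- `(01)(23)` -/
def z7 : Perm (Fin 7) := swap 0 1 * swap 2 3

theorem code_z7 : code z7 = 1754305 := by decide

theorem code_one : code 1 = 1754760 := by decide

/-- The condition on `x`. -/
def condX (x : ℕ) : Bool :=
  force x fun x => force (cmp x x) fun xx => cmp xx x == 1754760 &&
    force (cmp xx (cmp 1754305 x)) fun s => cmp s 1754305 == cmp 1754305 s && !(s == 1754305) &&
      cmp s x == cmp x (cmp 1754305 s)

/-- The solutions. -/
def XL : List ℕ :=
  [52122, 52563, 170394, 171283, 281491, 281946, 428435, 429338, 639093, 639534, 700532, 700966,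
   868462, 868917, 958566, 959028, 1265817, 1265866, 1266307, 1266384, 1266699, 1266776, 1267217, 1267266,
   1466521, 1466570, 1467011, 1467088, 1467403, 1467480, 1467921, 1467970, 1579354, 1579795, 1608019, 1608474,
   1650796, 1651237, 1679461, 1679916, 1753241, 1753290, 1753731, 1753808, 1754123, 1754200, 1754641, 1754690]

/-- Search through the codes of all the permutations. -/
def go (P : ℕ → Bool) : ℕ → ℕ → ℕ → ℕ → Bool
  | 0, c, _, _ => P c
  | k + 1, c, w, m => (List.range 7).all fun d => Nat.testBit m d ||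
      force (c + d * w) fun c' => go P k c' (8 * w) (m ||| 2 ^ d)

/-- The value of a list of digits. -/
def val : ℕ → List ℕ → ℕ
  | _, [] => 0
  | w, d :: l => d * w + val (8 * w) l

theorem go_sound (P : ℕ → Bool) : ∀ (l : List ℕ) (c w m : ℕ), (∀ d ∈ l, d < 7 ∧ Nat.testBit m d = false) →
    l.Nodup → go P l.length c w m = true → P (c + val w l) = true := by
  intro l
  induction l with
  | nil => intro c w m _ _ h; exact h
  | cons d l ih =>
    intro c w m h hn hg
    have hd := h d (List.mem_cons_self)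
    rw [List.length_cons] at hg
    unfold go at hg
    rw [List.all_eq_true] at hg
    have h1 := hg d (List.mem_range.2 hd.1)
    rw [hd.2, Bool.false_or, force_eq] at h1
    have hn' := List.nodup_cons.1 hn
    have h2 := ih (c + d * w) (8 * w) (m ||| 2 ^ d) (fun d' hd' => by
      refine ⟨(h d' (List.mem_cons_of_mem _ hd')).1, ?_⟩
      rw [Nat.testBit_or, (h d' (List.mem_cons_of_mem _ hd')).2, Bool.false_or, Nat.testBit_two_pow]
      have : d ≠ d' := fun e => hn'.1 (e ▸ hd')
      simp [this]) hn'.2 h1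
    rw [val, ← add_assoc]
    exact h2

theorem all_perm (P : ℕ → Bool) (h : go P 7 0 1 0 = true) (x : Perm (Fin 7)) : P (code x) = true := by
  have h1 := go_sound P (List.ofFn fun i : Fin 7 => (x i).val) 0 1 0 (by
    intro d hd
    obtain ⟨i, rfl⟩ := List.mem_ofFn.1 hd
    exact ⟨(x i).isLt, Nat.zero_testBit _⟩) (by
    rw [List.nodup_ofFn]
    intro i j hij
    exact x.injective (Fin.ext hij)) (by rwa [List.length_ofFn])
  have h2 : 0 + val 1 (List.ofFn fun i : Fin 7 => (x i).val) = code x := by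
    simp only [List.ofFn_succ, List.ofFn_zero, val, code]
    simp
    ring
  rwa [h2] at h1

theorem condX_all : go (fun c => !condX c || XL.contains c) 7 0 1 0 = true := by
  decide +kernel

theorem mem_XL {x : Perm (Fin 7)} (h : condX (code x) = true) : code x ∈ XL := by
  have h1 := all_perm _ condX_all x
  rw [h] at h1
  simpa using h1

/-- The mixed conditions. -/
def condXY (x y : ℕ) : Bool :=
  force (cmp (cmp x x) (cmp 1754305 x)) fun s => force (cmp (cmp y y) (cmp 1754305 y)) fun t =>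
    force (cmp s t) fun st => cmp st st == 1754305 && cmp s s == 1754760 && cmp t t == 1754760 &&
      (force (cmp (cmp 1754305 t) x) fun w => cmp w w == 1754760) &&
      force (cmp (cmp 1754305 s) y) fun w => cmp w w == 1754760

/-- `a⁵ = 1` -/
def is5 (a : ℕ) : Bool := force (cmp a a) fun b => cmp (cmp b b) a == 1754760
/-- `a⁴ = 1` -/
def is4 (a : ℕ) : Bool := force (cmp a a) fun b => cmp b b == 1754760
/-- `a⁷ = 1` -/
def is7 (a : ℕ) : Bool := force (cmp a a) fun b => cmp (cmp (cmp b b) b) a == 1754760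

/-- The conclusion. -/
def concl7 (x y : ℕ) : Bool :=
  force (cmp x y) fun u => force (cmp x (cmp y y)) fun v =>
    (is5 u && is4 v) || (is4 u && is7 v) ||
      force (cmp (cmp 1754305 x) 1754305) fun w => force (cmp w y) fun u' =>
        force (cmp w (cmp y y)) fun v' => is4 u' && is7 v'

set_option maxRecDepth 100000 in
theorem condXY_all : ∀ x ∈ XL, ∀ y ∈ XL, condXY x y = true → concl7 x y = true := by
  decide +kernel

theorem code_eq_one {x : Perm (Fin 7)} (h : code x = 1754760) : x = 1 := code_inj (h.trans code_one.symm)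

theorem is5_spec {a : Perm (Fin 7)} (h : is5 (code a) = true) : a ^ 5 = 1 := by
  unfold is5 at h
  rw [force_eq, beq_iff_eq, ← code_mul, ← code_mul, ← code_mul] at h
  rw [← code_eq_one h]
  simp only [pow_succ, pow_zero, one_mul, mul_assoc]

theorem is4_spec {a : Perm (Fin 7)} (h : is4 (code a) = true) : a ^ 4 = 1 := by
  unfold is4 at h
  rw [force_eq, beq_iff_eq, ← code_mul, ← code_mul] at h
  rw [← code_eq_one h]
  simp only [pow_succ, pow_zero, one_mul, mul_assoc]

theorem is7_spec {a : Perm (Fin 7)} (h : is7 (code a) = true) : a ^ 7 = 1 := by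
  unfold is7 at h
  rw [force_eq, beq_iff_eq, ← code_mul, ← code_mul, ← code_mul, ← code_mul] at h
  rw [← code_eq_one h]
  simp only [pow_succ, pow_zero, one_mul, mul_assoc]

theorem inv_of_cube {G : Type*} [Group G] {x : G} (h : x * x * x = 1) : x⁻¹ = x * x :=
  inv_eq_of_mul_eq_one_left h

theorem condX_of {s x : Perm (Fin 7)} (hx : x * x * x = 1) (h1 : z7 * x = x * s) (h2 : s * x = x * (z7 * s))
    (h3 : s * z7 = z7 * s) (h4 : s ≠ z7) : condX (code x) = true := by
  have hs : x * x * (z7 * x) = s := by rw [h1, ← mul_assoc, hx, one_mul]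
  unfold condX
  simp only [force_eq, ← code_mul, ← code_z7, hx, hs, Bool.and_eq_true, beq_iff_eq, Bool.not_eq_true',
    beq_eq_false_iff_ne, code_one, h3, h2]
  exact ⟨trivial, ⟨trivial, fun e => h4 (code_inj e)⟩, trivial⟩

section Group

variable {G : Type*} [Group G] {z s t x y : G}

theorem Amalgam.comm (h : Amalgam z s t x y) : s * z = z * s ∧ t * z = z * t := by
  have hst : (s * t)⁻¹ = t * s := by
    rw [mul_inv_rev, inv_eq_of_mul_eq_one_left h.ss, inv_eq_of_mul_eq_one_left h.tt]
  have hz' : t * s * (t * s) = z := by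
    rw [← hst, ← mul_inv_rev, h.hz]
    exact inv_eq_of_mul_eq_one_left h.zz
  constructor
  · conv_lhs => rw [← hz']
    conv_rhs => rw [← h.hz]
    simp only [mul_assoc]
  · conv_lhs => rw [← h.hz]
    conv_rhs => rw [← hz']
    simp only [mul_assoc]

theorem Amalgam.s_ne_z (h : Amalgam z s t x y) : s ≠ z := by
  intro e
  have h1 := h.sx
  rw [e, h.zz, mul_one] at h1
  exact h.z1 (mul_eq_right.1 h1)

theorem Amalgam.t_ne_z (h : Amalgam z s t x y) : t ≠ z := by
  intro e
  have h1 := h.ty
  rw [e, h.zz, mul_one] at h1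
  exact h.z1 (mul_eq_right.1 h1)

end Group

theorem concl_of {s t x y : Perm (Fin 7)} (h : Amalgam z7 s t x y) : Concl z7 x y := by
  have hx := mem_XL (condX_of h.xxx h.zx h.sx h.comm.1 h.s_ne_z)
  have hy := mem_XL (condX_of h.yyy h.zy h.ty h.comm.2 h.t_ne_z)
  have hs : x * x * (z7 * x) = s := by rw [h.zx, ← mul_assoc, h.xxx, one_mul]
  have ht : y * y * (z7 * y) = t := by rw [h.zy, ← mul_assoc, h.yyy, one_mul]
  have hc : condXY (code x) (code y) = true := by
    unfold condXY
    simp only [force_eq, ← code_mul, ← code_z7, hs, ht, Bool.and_eq_true, beq_iff_eq, ← code_one]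
    refine ⟨⟨⟨⟨?_, ?_⟩, ?_⟩, ?_⟩, ?_⟩
    · rw [h.hz]
    · rw [h.ss]
    · rw [h.tt]
    · rw [← mul_assoc, h.ix]
    · rw [← mul_assoc, h.iy]
  have h1 := condXY_all _ hx _ hy hc
  have hyi : y⁻¹ = y * y := inv_of_cube h.yyy
  unfold concl7 at h1
  simp only [force_eq, ← code_mul, ← code_z7, Bool.or_eq_true, Bool.and_eq_true] at h1
  unfold Concl
  rw [hyi]
  rcases h1 with (⟨h1, h2⟩ | ⟨h1, h2⟩) | ⟨h1, h2⟩
  · exact Or.inl ⟨is5_spec h1, is4_spec h2⟩
  · exact Or.inr (Or.inl ⟨is4_spec h1, is7_spec h2⟩)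
  · exact Or.inr (Or.inr ⟨is4_spec h1, is7_spec h2⟩)

/-! ### Reduction to `z = (01)(23)` -/

theorem cycleType_of (z : Perm (Fin 7)) (h1 : z * z = 1) (h2 : z ≠ 1) (h3 : Perm.sign z = 1) :
    z.cycleType = Multiset.replicate 2 2 := by
  have ho : orderOf z = 2 := orderOf_eq_prime (by rw [pow_two, h1]) h2
  obtain ⟨n, hn⟩ := Perm.cycleType_prime_order (σ := z) (by rw [ho]; exact Nat.prime_two)
  rw [ho] at hn
  have hs := Perm.sign_of_cycleType z
  rw [h3, hn, Multiset.sum_replicate, Multiset.card_replicate] at hs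
  have hle := Perm.sum_cycleType_le z
  rw [hn, Multiset.sum_replicate, Fintype.card_fin, smul_eq_mul] at hle
  have : n ≤ 2 := by omega
  interval_cases n
  · exact absurd hs (by decide)
  · exact hn
  · exact absurd hs (by decide)

theorem concl_perm {z s t x y : Perm (Fin 7)} (h : Amalgam z s t x y) : Concl z x y := by
  have hsz : Perm.sign z = 1 := by
    rw [← h.hz, map_mul]
    exact Int.units_mul_self _
  have hc : IsConj z z7 := by
    rw [Perm.isConj_iff_cycleType_eq, cycleType_of z h.zz h.z1 hsz, cycleType_of z7 (by decide) (by decide) (by decide)]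
  obtain ⟨g, hg⟩ := isConj_iff.1 hc
  have hinj : Function.Injective (MulAut.conj g).toMonoidHom := (MulAut.conj g).injective
  have h1 := h.map (MulAut.conj g).toMonoidHom hinj
  have hz : (MulAut.conj g).toMonoidHom z = z7 := by
    show g * z * g⁻¹ = z7
    exact hg
  have h2 : Concl ((MulAut.conj g).toMonoidHom z) ((MulAut.conj g).toMonoidHom x)
      ((MulAut.conj g).toMonoidHom y) := by
    rw [hz] at h1 ⊢
    exact concl_of h1
  exact Concl.of_map hinj h2

/-- The relations of `A₆` or `L₃(2)` in any group embedding in `Sym(7)`. -/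
theorem concl_of_hom {G : Type*} [Group G] {z s t x y : G} (h : Amalgam z s t x y) (f : G →* Perm (Fin 7))
    (hf : Function.Injective f) : Concl z x y :=
  Concl.of_map hf (concl_perm (h.map f hf))

end Cfsg.Agent.CoOneType.LThree
end

-- part: CoOneType/LThree
section
/-!
# The group generated by an amalgam whose involution centraliser is dihedral of order eight

`main`: let `s, t, x, y` satisfy the relations `Amalgam z s t x y` in a group, let `M = ⟨s,t,x,y⟩` be finite and
`C_M(z) = ⟨s,t⟩`. Then `M` is simple of order 168 or 360, and `s, t, x, y` satisfy the additional relations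
`(xy)⁵ = (xy⁻¹)⁴ = 1` (then `M ≅ A₆`) or `(xy)⁴ = (xy⁻¹)⁷ = 1` (then `M ≅ L₃(2)`) or the latter with `x^z` instead of `x`.
-/

set_option autoImplicit false

namespace Cfsg.Agent.CoOneType.LThree

open Equiv Subgroup
open scoped Pointwise

variable {G : Type*} [Group G] {z s t x y : G}

theorem Amalgam.ts (h : Amalgam z s t x y) : t * s = z * (s * t) := by
  have h1 : s * t * (s * t) = z := h.hz
  have h2 : z * (s * t) * (s * t) = 1 := by rw [mul_assoc, h1, h.zz]
  have h3 : t * s * (s * t) = 1 := by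
    rw [mul_assoc, ← mul_assoc s s t, h.ss, one_mul, h.tt]
  exact mul_right_cancel (h3.trans h2.symm)

/-- The elements of `⟨s,t⟩`. -/
theorem Amalgam.cases (h : Amalgam z s t x y) {g : G} (hg : g ∈ closure ({s, t} : Set G)) :
    g = 1 ∨ g = z ∨ g = s ∨ g = z * s ∨ g = t ∨ g = z * t ∨ g = s * t ∨ g = z * (s * t) := by
  have hs := h.comm.1
  have ht := h.comm.2
  have hzz := h.zz
  have hss := h.ss
  have htt := h.tt
  have hts := h.ts
  have key : ∀ a ∈ ({s, t} : Set G), ∀ g : G,
      (g = 1 ∨ g = z ∨ g = s ∨ g = z * s ∨ g = t ∨ g = z * t ∨ g = s * t ∨ g = z * (s * t)) →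
      (a * g = 1 ∨ a * g = z ∨ a * g = s ∨ a * g = z * s ∨ a * g = t ∨ a * g = z * t ∨ a * g = s * t ∨
        a * g = z * (s * t)) := by
    rintro a (rfl | rfl) g (rfl | rfl | rfl | rfl | rfl | rfl | rfl | rfl)
    · right; right; left; rw [mul_one]
    · right; right; right; left; exact hs
    · left; exact hss
    · right; left; rw [← mul_assoc, hs, mul_assoc, hss, mul_one]
    · right; right; right; right; right; right; left; rfl
    · right; right; right; right; right; right; right; rw [← mul_assoc, hs, mul_assoc]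
    · right; right; right; right; left; rw [← mul_assoc, hss, one_mul]
    · right; right; right; right; right; left
      rw [← mul_assoc, hs, mul_assoc, ← mul_assoc _ _ t, hss, one_mul]
    · right; right; right; right; left; rw [mul_one]
    · right; right; right; right; right; left; exact ht
    · right; right; right; right; right; right; right; exact hts
    · right; right; right; right; right; right; left
      rw [← mul_assoc, ht, mul_assoc, hts, ← mul_assoc, hzz, one_mul]
    · left; exact htt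
    · right; left; rw [← mul_assoc, ht, mul_assoc, htt, mul_one]
    · right; right; right; left
      rw [← mul_assoc, hts, mul_assoc, mul_assoc, htt, mul_one]
    · right; right; left
      rw [← mul_assoc, ht, mul_assoc, ← mul_assoc a s a, hts, mul_assoc, mul_assoc, htt, mul_one, ← mul_assoc,
        hzz, one_mul]
  have hinv : ∀ a ∈ ({s, t} : Set G), a⁻¹ = a := by
    rintro a (rfl | rfl)
    · exact inv_eq_of_mul_eq_one_left hss
    · exact inv_eq_of_mul_eq_one_left htt
  induction hg using closure_induction_left with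
  | one => left; rfl
  | mul_left a ha b hb ih => exact key a ha b ih
  | inv_mul_cancel a ha b hb ih => rw [hinv a ha]; exact key a ha b ih

theorem Amalgam.st_ne (h : Amalgam z s t x y) : s * t ≠ 1 := by
  intro e
  apply h.z1
  rw [← h.hz, e, mul_one]

theorem Amalgam.s1 (h : Amalgam z s t x y) : s ≠ 1 := by
  intro e
  have h1 := h.zx
  rw [e, mul_one] at h1
  exact h.z1 (mul_eq_right.1 h1)

theorem Amalgam.t1 (h : Amalgam z s t x y) : t ≠ 1 := by
  intro e
  have h1 := h.zy
  rw [e, mul_one] at h1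
  exact h.z1 (mul_eq_right.1 h1)

/-- `z ~ s` -/
theorem Amalgam.conj_s (h : Amalgam z s t x y) : x⁻¹ * z * x = s := by
  rw [mul_assoc, h.zx, inv_mul_cancel_left]

theorem Amalgam.conj_t (h : Amalgam z s t x y) : y⁻¹ * z * y = t := by
  rw [mul_assoc, h.zy, inv_mul_cancel_left]

theorem Amalgam.conj_zs (h : Amalgam z s t x y) : x⁻¹ * s * x = z * s := by
  rw [mul_assoc, h.sx, inv_mul_cancel_left]

theorem Amalgam.conj_zt (h : Amalgam z s t x y) : y⁻¹ * t * y = z * t := by
  rw [mul_assoc, h.ty, inv_mul_cancel_left]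

theorem Amalgam.zt_sq (h : Amalgam z s t x y) : z * t * (z * t) = 1 := by
  rw [mul_assoc, ← mul_assoc t z t, h.comm.2, mul_assoc z t t, h.tt, mul_one, h.zz]

theorem Amalgam.zs_sq (h : Amalgam z s t x y) : z * s * (z * s) = 1 := by
  rw [mul_assoc, ← mul_assoc s z s, h.comm.1, mul_assoc z s s, h.ss, mul_one, h.zz]

/-- `x = [zt, x]` -/
theorem Amalgam.x_eq (h : Amalgam z s t x y) : x = (z * t) * x * (z * t)⁻¹ * x⁻¹ := by
  have h1 : (z * t)⁻¹ = z * t := inv_eq_of_mul_eq_one_left h.zt_sq
  have h2 : z * t * x * (z * t) = x⁻¹ := eq_inv_of_mul_eq_one_left h.ix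
  rw [h1, h2, ← mul_inv_rev]
  exact eq_inv_of_mul_eq_one_left (by rw [← mul_assoc]; exact h.xxx)

theorem Amalgam.y_eq (h : Amalgam z s t x y) : y = (z * s) * y * (z * s)⁻¹ * y⁻¹ := by
  have h1 : (z * s)⁻¹ = z * s := inv_eq_of_mul_eq_one_left h.zs_sq
  have h2 : z * s * y * (z * s) = y⁻¹ := eq_inv_of_mul_eq_one_left h.iy
  rw [h1, h2, ← mul_inv_rev]
  exact eq_inv_of_mul_eq_one_left (by rw [← mul_assoc]; exact h.yyy)

/-- A normal subgroup containing `z` contains everything. -/
theorem Amalgam.closure_le (h : Amalgam z s t x y) (N : Subgroup G) (hN : N.Normal) (hz : z ∈ N) :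
    closure ({s, t, x, y} : Set G) ≤ N := by
  have hs : s ∈ N := by
    rw [← h.conj_s]
    simpa using hN.conj_mem z hz x⁻¹
  have ht : t ∈ N := by
    rw [← h.conj_t]
    simpa using hN.conj_mem z hz y⁻¹
  have hx : x ∈ N := by
    have h1 : z * t ∈ N := N.mul_mem hz ht
    have h2 : x = (z * t) * (x * (z * t)⁻¹ * x⁻¹) := by
      conv_lhs => rw [h.x_eq]
      group
    rw [h2]
    exact N.mul_mem h1 (hN.conj_mem _ (N.inv_mem h1) x)
  have hy : y ∈ N := by
    have h1 : z * s ∈ N := N.mul_mem hz hs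
    have h2 : y = (z * s) * (y * (z * s)⁻¹ * y⁻¹) := by
      conv_lhs => rw [h.y_eq]
      group
    rw [h2]
    exact N.mul_mem h1 (hN.conj_mem _ (N.inv_mem h1) y)
  rw [Subgroup.closure_le]
  rintro g (rfl | rfl | rfl | rfl)
  exacts [hs, ht, hx, hy]

theorem Amalgam.perfect (h : Amalgam z s t x y) (hgen : closure ({s, t, x, y} : Set G) = ⊤) :
    commutator G = ⊤ := by
  rw [eq_top_iff, ← hgen]
  refine h.closure_le _ (by infer_instance) ?_
  have h1 : z = s⁻¹ * (x⁻¹ * (s⁻¹)⁻¹ * (x⁻¹)⁻¹) := by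
    rw [inv_inv, inv_inv, h.conj_zs, inv_eq_of_mul_eq_one_left h.ss, ← mul_assoc, h.comm.1, mul_assoc, h.ss,
      mul_one]
  rw [h1, ← mul_assoc, ← mul_assoc]
  exact Subgroup.commutator_mem_commutator (Subgroup.mem_top _) (Subgroup.mem_top _)

theorem Amalgam.centralizer_eq (h : Amalgam z s t x y)
    (hC : ∀ g : G, g * z = z * g → g ∈ closure ({s, t} : Set G)) :
    centralizer ({z} : Set G) = closure ({s, t} : Set G) := by
  apply le_antisymm
  · intro g hg
    rw [mem_centralizer_singleton_iff] at hg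
    exact hC g hg
  · rw [Subgroup.closure_le]
    rintro g (rfl | rfl)
    · exact mem_centralizer_singleton_iff.2 h.comm.1
    · exact mem_centralizer_singleton_iff.2 h.comm.2

theorem Amalgam.card_closure [Finite G] (h : Amalgam z s t x y) :
    Nonempty (closure ({s, t} : Set G) ≃* DihedralGroup 4) := by
  have hs : orderOf s = 2 := orderOf_eq_prime (by rw [pow_two, h.ss]) h.s1
  have ht : orderOf t = 2 := orderOf_eq_prime (by rw [pow_two, h.tt]) h.t1
  have hst : s ≠ t := by
    rintro rfl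
    exact h.st_ne h.ss
  have ho : orderOf (s * t) = 4 := by
    have h1 : (s * t) ^ 2 ^ 1 ≠ 1 := by
      rw [pow_one, pow_two, h.hz]; exact h.z1
    have h2 : (s * t) ^ 2 ^ (1 + 1) = 1 := by
      have : (s * t) ^ 2 ^ (1 + 1) = (s * t * (s * t)) * (s * t * (s * t)) := by
        simp only [pow_succ, pow_zero, one_mul, mul_assoc]
        norm_num [pow_succ, mul_assoc]
      rw [this, h.hz, h.zz]
    have := orderOf_eq_prime_pow h1 h2
    simpa using this
  have := Cfsg.Agent.S0206.result s t hs ht hst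
  rwa [ho] at this

/-- Order 168 or 360. -/
theorem Amalgam.card_cases [Finite G] (h : Amalgam z s t x y)
    (hgen : closure ({s, t, x, y} : Set G) = ⊤)
    (hC : ∀ g : G, g * z = z * g → g ∈ closure ({s, t} : Set G)) :
    Nat.card G = 168 ∨ Nat.card G = 360 := by
  obtain ⟨e⟩ := h.card_closure
  have hz : orderOf z = 2 := orderOf_eq_prime (by rw [pow_two, h.zz]) h.z1
  exact Cfsg.Agent.S0848.result (h.perfect hgen) z hz
    ((MulEquiv.subgroupCongr (h.centralizer_eq hC)).trans e)

theorem Amalgam.card_D [Finite G] (h : Amalgam z s t x y) : Nat.card (closure ({s, t} : Set G)) = 8 := by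
  obtain ⟨e⟩ := h.card_closure
  rw [Nat.card_congr e.toEquiv, Nat.card_eq_fintype_card]
  decide

/-- An involution of `⟨s,t⟩` is conjugate to `z`. -/
theorem Amalgam.conj_of_mem (h : Amalgam z s t x y) {v : G} (hv : v ∈ closure ({s, t} : Set G)) (h1 : v ≠ 1)
    (h2 : v * v = 1) : ∃ g : G, g * v * g⁻¹ = z := by
  rcases h.cases hv with rfl | rfl | rfl | rfl | rfl | rfl | rfl | rfl
  · exact absurd rfl h1
  · exact ⟨1, by simp⟩
  · exact ⟨x, by rw [← h.zx]; group⟩
  · refine ⟨x * x, ?_⟩
    have h3 : x * (z * s) * x⁻¹ = s := by rw [← h.sx]; group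
    have h4 : x * s * x⁻¹ = z := by rw [← h.zx]; group
    calc x * x * (z * s) * (x * x)⁻¹ = x * (x * (z * s) * x⁻¹) * x⁻¹ := by group
      _ = z := by rw [h3, h4]
  · exact ⟨y, by rw [← h.zy]; group⟩
  · refine ⟨y * y, ?_⟩
    have h3 : y * (z * t) * y⁻¹ = t := by rw [← h.ty]; group
    have h4 : y * t * y⁻¹ = z := by rw [← h.zy]; group
    calc y * y * (z * t) * (y * y)⁻¹ = y * (y * (z * t) * y⁻¹) * y⁻¹ := by group
      _ = z := by rw [h3, h4]
  · exact absurd (h.hz.symm.trans h2) h.z1
  · exfalso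
    apply h.z1
    have h3 : s * t * z = z * (s * t) := by rw [mul_assoc, h.comm.2, ← mul_assoc, h.comm.1, mul_assoc]
    have h4 : z * (s * t) * (z * (s * t)) = z * z * (s * t * (s * t)) := by
      rw [mul_assoc, ← mul_assoc (s * t) z, h3]
      simp only [mul_assoc]
    rw [h4, h.zz, one_mul, h.hz] at h2
    exact h2

theorem Amalgam.mem_of_even [Finite G] (h : Amalgam z s t x y) (hcard : Nat.card G = 168 ∨ Nat.card G = 360)
    (N : Subgroup G) (hN : N.Normal) (h2 : 2 ∣ Nat.card N) : z ∈ N := by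
  have hp2 : Fact (Nat.Prime 2) := ⟨Nat.prime_two⟩
  obtain ⟨u, hu⟩ := exists_prime_orderOf_dvd_card' (G := N) 2 h2
  have hu' : orderOf (u : G) = 2 := by rw [Subgroup.orderOf_coe, hu]
  have hD := h.card_D
  have hDp : IsPGroup 2 (closure ({s, t} : Set G)) := IsPGroup.of_card (n := 3) hD
  have hidx : ¬ 2 ∣ (closure ({s, t} : Set G)).index := by
    have h1 := (closure ({s, t} : Set G)).card_mul_index
    rw [hD] at h1
    rcases hcard with h3 | h3 <;> rw [h3] at h1 <;> omega
  let S : Sylow 2 G := hDp.toSylow hidx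
  have hz : IsPGroup 2 (zpowers (u : G)) := IsPGroup.of_card (n := 1) (by rw [Nat.card_zpowers, hu', pow_one])
  obtain ⟨Q, hQ⟩ := hz.exists_le_sylow
  obtain ⟨g, hg⟩ := MulAction.exists_smul_eq G Q S
  have hmem : g * u * g⁻¹ ∈ (S : Subgroup G) := by
    rw [← hg]
    have h1 : (u : G) ∈ (Q : Subgroup G) := hQ (mem_zpowers _)
    have h2 : MulAut.conj g • (u : G) ∈ (MulAut.conj g • (Q : Subgroup G)) :=
      Subgroup.smul_mem_pointwise_smul _ _ _ h1
    exact h2
  have hmem' : g * u * g⁻¹ ∈ closure ({s, t} : Set G) := hmem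
  have hne : g * (u : G) * g⁻¹ ≠ 1 := by
    intro e
    rw [conj_eq_one_iff] at e
    rw [e, orderOf_one] at hu'
    omega
  have hsq : g * (u : G) * g⁻¹ * (g * u * g⁻¹) = 1 := by
    have : (u : G) * u = 1 := by rw [← pow_two, ← hu', pow_orderOf_eq_one]
    calc g * (u : G) * g⁻¹ * (g * u * g⁻¹) = g * (u * u) * g⁻¹ := by group
      _ = 1 := by rw [this]; group
  obtain ⟨k, hk⟩ := h.conj_of_mem hmem' hne hsq
  rw [← hk]
  exact hN.conj_mem _ (hN.conj_mem _ u.2 g) k

theorem Amalgam.eq_bot_of_odd [Finite G] (h : Amalgam z s t x y)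
    (hC : ∀ g : G, g * z = z * g → g ∈ closure ({s, t} : Set G))
    (N : Subgroup G) (hN : N.Normal) (h2 : ¬ 2 ∣ Nat.card N) : N = ⊥ := by
  have hodd : ∀ n ∈ N, n * n = 1 → n = 1 := by
    intro n hn hnn
    by_contra hne
    have ho : orderOf n = 2 := orderOf_eq_prime (by rw [pow_two, hnn]) hne
    apply h2
    rw [← ho, ← Subgroup.orderOf_mk n hn]
    exact orderOf_dvd_natCard _
  have hD := h.card_D
  -- an element of `N` commuting with `z` is trivial
  have hfix : ∀ n ∈ N, n * z = z * n → n = 1 := by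
    intro n hn hc
    have h1 := hC n hc
    have h3 : orderOf n ∣ 8 := by
      rw [← hD, ← Subgroup.orderOf_mk n h1]
      exact orderOf_dvd_natCard _
    have h4 : orderOf n ∣ Nat.card N := by
      rw [← Subgroup.orderOf_mk n hn]
      exact orderOf_dvd_natCard _
    have h5 : Nat.Coprime 8 (Nat.card N) := by
      have : Nat.Coprime 2 (Nat.card N) := (Nat.prime_two.coprime_iff_not_dvd).2 h2
      exact Nat.Coprime.pow_left 3 this
    have h6 := Nat.dvd_gcd h3 h4
    rw [h5.gcd_eq_one, Nat.dvd_one] at h6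
    exact orderOf_eq_one_iff.1 h6
  -- `z` inverts `N`
  have hinv : ∀ n ∈ N, z * n * z⁻¹ = n⁻¹ := by
    have hFP : MonoidHom.FixedPointFree (MulAut.conjNormal (H := N) z).toMonoidHom := by
      intro n hn
      have h1 : z * (n : G) * z⁻¹ = n := by
        have := congrArg Subtype.val hn
        simpa using this
      have h3 : (n : G) * z = z * n := by
        conv_lhs => rw [← h1]
        group
      exact Subtype.ext (hfix _ n.2 h3)
    have hI : Function.Involutive (MulAut.conjNormal (H := N) z).toMonoidHom := by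
      intro n
      apply Subtype.ext
      show z * (z * (n : G) * z⁻¹) * z⁻¹ = n
      calc z * (z * (n : G) * z⁻¹) * z⁻¹ = (z * z) * n * (z * z)⁻¹ := by group
        _ = n := by rw [h.zz]; group
    intro n hn
    have h3 := congrFun (hFP.coe_eq_inv_of_involutive hI) ⟨n, hn⟩
    exact congrArg Subtype.val h3
  have hinvg : ∀ g v : G, g * v * g⁻¹ = z → ∀ n ∈ N, v * n * v⁻¹ = n⁻¹ := by
    intro g v hv n hn
    have h1 := hinv (g * n * g⁻¹) (hN.conj_mem n hn g)
    rw [← hv] at h1
    have h3 : g * (v * n * v⁻¹) * g⁻¹ = g * n⁻¹ * g⁻¹ := by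
      calc g * (v * n * v⁻¹) * g⁻¹ = g * v * g⁻¹ * (g * n * g⁻¹) * (g * v * g⁻¹)⁻¹ := by group
        _ = (g * n * g⁻¹)⁻¹ := h1
        _ = g * n⁻¹ * g⁻¹ := by group
    exact mul_left_cancel (mul_right_cancel h3)
  rw [eq_bot_iff]
  intro n hn
  rw [Subgroup.mem_bot]
  apply hodd n hn
  have hsm : s ∈ closure ({s, t} : Set G) := subset_closure (by simp)
  have htm : t ∈ closure ({s, t} : Set G) := subset_closure (by simp)
  have hzm : z ∈ closure ({s, t} : Set G) := by
    rw [← h.hz]
    exact mul_mem (mul_mem hsm htm) (mul_mem hsm htm)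
  obtain ⟨g1, hg1⟩ := h.conj_of_mem hsm h.s1 h.ss
  obtain ⟨g2, hg2⟩ := h.conj_of_mem (mul_mem hzm hsm) (by
    intro e
    exact h.s_ne_z ((inv_eq_of_mul_eq_one_right e).symm.trans (inv_eq_of_mul_eq_one_left h.zz))) h.zs_sq
  have e1 := hinvg _ _ hg1 n hn
  have e2 := hinvg _ _ hg2 n hn
  have e3 : z * s * n * (z * s)⁻¹ = n := by
    calc z * s * n * (z * s)⁻¹ = z * (s * n * s⁻¹) * z⁻¹ := by group
      _ = z * n⁻¹ * z⁻¹ := by rw [e1]
      _ = n := by rw [hinv _ (N.inv_mem hn), inv_inv]
  rw [e3] at e2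
  nth_rewrite 2 [e2]
  exact mul_inv_cancel n

theorem Amalgam.simple [Finite G] (h : Amalgam z s t x y)
    (hgen : closure ({s, t, x, y} : Set G) = ⊤)
    (hC : ∀ g : G, g * z = z * g → g ∈ closure ({s, t} : Set G)) : IsSimpleGroup G where
  exists_pair_ne := ⟨z, 1, h.z1⟩
  eq_bot_or_eq_top_of_normal N hN := by
    by_cases h2 : 2 ∣ Nat.card N
    · right
      rw [eq_top_iff, ← hgen]
      exact h.closure_le N hN (h.mem_of_even (h.card_cases hgen hC) N hN h2)
    · left
      exact h.eq_bot_of_odd hC N hN h2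

theorem exists_hom_168 [Finite G] [IsSimpleGroup G] (h : Nat.card G = 168) :
    ∃ f : G →* Perm (Fin 7), Function.Injective f := by
  have hp2 : Fact (Nat.Prime 2) := ⟨Nat.prime_two⟩
  obtain ⟨U, -, -, -, -, hU, -⟩ :=
    Cfsg.Agent.SmallSimple.Simple168Klein.exists_pair h (default : Sylow 2 G)
  let N := normalizer (U : Set G)
  have hidx : N.index = 7 := Cfsg.Agent.SmallSimple.Simple168Klein.index_normalizer h hU
  have hc : Nat.card (G ⧸ N) = 7 := hidx
  obtain ⟨e⟩ : Nonempty ((G ⧸ N) ≃ Fin 7) := ⟨Finite.equivFinOfCardEq hc⟩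
  refine ⟨(Equiv.permCongrHom e).toMonoidHom.comp (MulAction.toPermHom G (G ⧸ N)), ?_⟩
  have hinj : Function.Injective (MulAction.toPermHom G (G ⧸ N)) := by
    rw [← MonoidHom.ker_eq_bot_iff]
    rcases IsSimpleGroup.eq_bot_or_eq_top_of_normal (MulAction.toPermHom G (G ⧸ N)).ker inferInstance with h1 | h1
    · exact h1
    · exfalso
      rw [← Subgroup.normalCore_eq_ker] at h1
      have h3 : N = ⊤ := by
        rw [eq_top_iff, ← h1]
        exact Subgroup.normalCore_le N
      rw [h3, Subgroup.index_top] at hidx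
      omega
  intro a b hab
  exact hinj ((Equiv.permCongrHom e).injective hab)

theorem exists_hom_360 [Finite G] [IsSimpleGroup G] (h : Nat.card G = 360) :
    ∃ f : G →* Perm (Fin 7), Function.Injective f := by
  obtain ⟨e⟩ := Cfsg.Agent.S0497.result h
  refine ⟨(Equiv.Perm.viaEmbeddingHom (Fin.castSuccEmb : Fin 6 ↪ Fin 7)).comp
    ((alternatingGroup (Fin 6)).subtype.comp e.toMonoidHom), ?_⟩
  intro a b hab
  have h1 := Equiv.Perm.viaEmbeddingHom_injective (Fin.castSuccEmb : Fin 6 ↪ Fin 7) hab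
  exact e.injective (Subtype.ext h1)

theorem main_top [Finite G] (h : Amalgam z s t x y)
    (hgen : closure ({s, t, x, y} : Set G) = ⊤)
    (hC : ∀ g : G, g * z = z * g → g ∈ closure ({s, t} : Set G)) : Concl z x y := by
  have := h.simple hgen hC
  obtain ⟨f, hf⟩ : ∃ f : G →* Perm (Fin 7), Function.Injective f := by
    rcases h.card_cases hgen hC with h1 | h1
    · exact exists_hom_168 h1
    · exact exists_hom_360 h1
  exact concl_of_hom h f hf

/-- MAIN THEOREM. -/
theorem main (h : Amalgam z s t x y) [Finite ↥(closure ({s, t, x, y} : Set G))]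
    (hC : ∀ g ∈ closure ({s, t, x, y} : Set G), g * z = z * g → g ∈ closure ({s, t} : Set G)) : Concl z x y := by
  have hs : s ∈ closure ({s, t, x, y} : Set G) := subset_closure (by simp)
  have ht : t ∈ closure ({s, t, x, y} : Set G) := subset_closure (by simp)
  have hx : x ∈ closure ({s, t, x, y} : Set G) := subset_closure (by simp)
  have hy : y ∈ closure ({s, t, x, y} : Set G) := subset_closure (by simp)
  have hz : z ∈ closure ({s, t, x, y} : Set G) := by
    rw [← h.hz]; exact mul_mem (mul_mem hs ht) (mul_mem hs ht)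
  generalize hM : closure ({s, t, x, y} : Set G) = M at *
  have hA : Amalgam (⟨z, hz⟩ : M) ⟨s, hs⟩ ⟨t, ht⟩ ⟨x, hx⟩ ⟨y, hy⟩ :=
    { ss := Subtype.ext h.ss, tt := Subtype.ext h.tt, hz := Subtype.ext h.hz, zz := Subtype.ext h.zz
      z1 := fun e => h.z1 (congrArg Subtype.val e)
      xxx := Subtype.ext h.xxx, yyy := Subtype.ext h.yyy, zx := Subtype.ext h.zx, sx := Subtype.ext h.sx
      zy := Subtype.ext h.zy, ty := Subtype.ext h.ty, ix := Subtype.ext h.ix, iy := Subtype.ext h.iy }
  have key : Concl (⟨z, hz⟩ : M) ⟨x, hx⟩ ⟨y, hy⟩ := by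
    apply main_top hA
    · rw [eq_top_iff]
      rintro ⟨g, hg⟩ -
      have h1 : M ≤ (closure ({⟨s, hs⟩, ⟨t, ht⟩, ⟨x, hx⟩, ⟨y, hy⟩} : Set M)).map M.subtype := by
        rw [MonoidHom.map_closure]
        refine le_trans (le_of_eq hM.symm) ?_
        apply Subgroup.closure_mono
        rintro g (rfl | rfl | rfl | rfl)
        · exact ⟨⟨g, hs⟩, by simp, rfl⟩
        · exact ⟨⟨g, ht⟩, by simp, rfl⟩
        · exact ⟨⟨g, hx⟩, by simp, rfl⟩
        · exact ⟨⟨g, hy⟩, by simp, rfl⟩
      obtain ⟨g', hg', he⟩ := h1 hg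
      have : g' = ⟨g, hg⟩ := Subtype.ext he
      rwa [← this]
    · rintro ⟨g, hg⟩ hc
      have h1 := hC g hg (congrArg Subtype.val hc)
      have h2 : closure ({s, t} : Set G) ≤ (closure ({⟨s, hs⟩, ⟨t, ht⟩} : Set M)).map M.subtype := by
        rw [MonoidHom.map_closure]
        apply Subgroup.closure_mono
        rintro g (rfl | rfl)
        · exact ⟨⟨g, hs⟩, by simp, rfl⟩
        · exact ⟨⟨g, ht⟩, by simp, rfl⟩
      obtain ⟨g', hg', he⟩ := h2 h1
      have : g' = ⟨g, hg⟩ := Subtype.ext he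
      rwa [← this]
  unfold Concl at key ⊢
  rcases key with ⟨h1, h2⟩ | ⟨h1, h2⟩ | ⟨h1, h2⟩
  · exact Or.inl ⟨congrArg Subtype.val h1, congrArg Subtype.val h2⟩
  · exact Or.inr (Or.inl ⟨congrArg Subtype.val h1, congrArg Subtype.val h2⟩)
  · exact Or.inr (Or.inr ⟨congrArg Subtype.val h1, congrArg Subtype.val h2⟩)

/-- The relations are preserved if `x` is replaced by `x^z`. -/
theorem Amalgam.conj_z (h : Amalgam z s t x y) : Amalgam z s t (z * x * z) y where
  ss := h.ss
  tt := h.tt
  hz := h.hz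
  zz := h.zz
  z1 := h.z1
  xxx := by
    calc z * x * z * (z * x * z) * (z * x * z) = z * x * (z * z) * x * (z * z) * x * z := by group
      _ = z * (x * x * x) * z := by rw [h.zz]; group
      _ = 1 := by rw [h.xxx, mul_one, h.zz]
  yyy := h.yyy
  zx := by
    calc z * (z * x * z) = z * (z * x) * z := by group
      _ = z * (x * s) * z := by rw [h.zx]
      _ = z * x * (s * z) := by group
      _ = z * x * z * s := by rw [h.comm.1]; group
  sx := by
    calc s * (z * x * z) = (s * z) * x * z := by group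
      _ = z * (s * x) * z := by rw [h.comm.1]; group
      _ = z * x * z * (s * z) := by rw [h.sx]; group
      _ = z * x * z * (z * s) := by rw [h.comm.1]
  zy := h.zy
  ty := h.ty
  ix := by
    calc z * t * (z * x * z) * (z * t) * (z * x * z)
        = z * (t * z) * x * (z * z) * (t * z) * x * z := by group
      _ = z * (z * t * x * (z * t) * x) * z := by rw [h.comm.2, h.zz]; group
      _ = 1 := by rw [h.ix, mul_one, h.zz]
  iy := h.iy

/-- MAIN THEOREM, second form: relations of `A₆` or, for a suitable choice of `x`, of `L₃(2)`. -/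
theorem main' (h : Amalgam z s t x y) [Finite ↥(closure ({s, t, x, y} : Set G))]
    (hC : ∀ g ∈ closure ({s, t, x, y} : Set G), g * z = z * g → g ∈ closure ({s, t} : Set G)) :
    ((x * y) ^ 5 = 1 ∧ (x * y⁻¹) ^ 4 = 1) ∨
      ∃ x', (x' = x ∨ x' = z * x * z) ∧ Amalgam z s t x' y ∧ (x' * y) ^ 4 = 1 ∧ (x' * y⁻¹) ^ 7 = 1 := by
  rcases main h hC with h1 | h1 | h1
  · exact Or.inl h1
  · exact Or.inr ⟨x, Or.inl rfl, h, h1⟩
  · exact Or.inr ⟨_, Or.inr rfl, h.conj_z, h1⟩

end Cfsg.Agent.CoOneType.LThree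
end
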