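import Mathlib
import Cfsg.Agent.CoOneType.Interface
import Cfsg.Agent.LargeExtra.SuzData
import Cfsg.Agent.LargeExtra.SuzFour
set_option linter.all false

-- part: CoOneType/Setup
section
/-!
# The local set-up of a group of type `Co₁`

`Setup Q z s t f H κ c` collects the local facts (from `CoHyp.four`, `Canon`, `HSwap`); from it the relations
`Pre957` are derived.
-/

set_option autoImplicit false

namespace Cfsg.Agent.CoOneType

open Equiv

/-- The transposition `(6 7)`. -/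
abbrev tau67 : Equiv.Perm (Fin 8) := Equiv.swap 5 6

/-- The local set-up. -/
structure Setup {G : Type*} [Group G] (Q : Subgroup G) (z s t f H : G)
    (κ : alternatingGroup (Fin 8) →* G) (c : Fin 8 → G) : Prop where
  zz : z * z = 1
  z1 : z ≠ 1
  cen : ∀ q ∈ Q, q * z = z * q
  norm : ∀ u, u * z = z * u → ∀ q ∈ Q, u * q * u⁻¹ ∈ Q
  cm : ∀ p ∈ Q, ∀ q ∈ Q, p * q * p⁻¹ = q ∨ p * q * p⁻¹ = z * q
  ss : s * s = 1
  tt : t * t = 1
  st : s * t * (s * t) = z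
  zQ : z ∈ Q
  sQ : s ∈ Q
  tQ : t ∈ Q
  cQ : ∀ i, c i ∈ Q
  c7 : c 7 = 1
  cs : ∀ i, c i * s = s * c i
  ct : ∀ i, c i * t = t * c i
  cc : ∀ i, i ≠ 7 → c i * c i = z
  cij : ∀ i j, i ≠ 7 → j ≠ 7 → i ≠ j → c i * c j = z * (c j * c i)
  prod : c 0 * c 1 * c 2 * c 3 * c 4 * c 5 * c 6 = 1
  kz : ∀ σ, κ σ * z = z * κ σ
  ks : ∀ σ, κ σ * s = s * κ σ
  kt : ∀ σ, κ σ * t = t * κ σ
  kf : ∀ σ, κ σ * f = f * κ σ
  kc : ∀ (σ : alternatingGroup (Fin 8)) (i : Fin 8),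
    κ σ * c i * (κ σ)⁻¹ = c ((σ : Equiv.Perm (Fin 8)) i) * (c ((σ : Equiv.Perm (Fin 8)) 7))⁻¹
  kQ : ∀ σ, κ σ ∈ Q → σ = 1
  Hz : H * z = z * H
  Hs : H * s * H⁻¹ = t
  Ht : H * t * H⁻¹ = s
  Hc : ∀ i, H * c i * H⁻¹ = (c (tau67 i))⁻¹
  rig : ∀ u, u * z = z * u → u * s = s * u → u * t = t * u → (∀ i, u * c i = c i * u) → u = 1 ∨ u = z
  fff : f ^ 3 = 1
  fz : f * z * f⁻¹ = s
  fs : f * s * f⁻¹ = z * s
  ft : z * t * f * (z * t) = f⁻¹
  T : ∀ r ∈ Q, r * s = s * r → r * (f * r * f⁻¹) * (f⁻¹ * r * f) = 1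
  cent : ∀ u, u * z = z * u → u * s = s * u → u * t = t * u →
    ∃ p ∈ Q, p * s = s * p ∧ p * t = t * p ∧ ∃ σ, u = p * κ σ

end Cfsg.Agent.CoOneType
end

-- part: LargeExtra/CoModel
section
/-!
# The model of `2₊^(1+8)` adapted to a pair of non-commuting involutions

`q 0`, `q 1` are involutions generating a dihedral group of order eight, `q 2, …, q 7` are pairwise anticommuting
elements of order four commuting with them, `b₇ = q 2 q 3 q 4 q 5 q 6 q 7` is a seventh one.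
-/

set_option autoImplicit false

namespace Cfsg.Agent.LargeExtra.CoModel

open Cfsg.Agent.LargeExtra.Model Cfsg.Agent.LargeExtra.Pres Cfsg.Agent.LargeExtra.Models
open Cfsg.Agent.LargeExtra.GPin Cfsg.Agent.LargeExtra.Check

/-- The adapted model of `2₊^(1+8)`. -/
abbrev rK : ℕ → ℕ := rows [0, 1, 4, 12, 28, 60, 124, 252]

/-- Automorphisms of odd order fixing `q 0`. -/
abbrev F0 : List (ℕ × List (ℕ × Bool)) :=
  [(7, [(1, false), (2, false), (8, false), (16, false), (32, false), (64, false), (128, false), (252, false)]),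
   (3, [(1, false), (39, true), (128, false), (8, false), (16, false), (5, false), (64, false), (33, false)]),
   (3, [(1, false), (2, false), (4, false), (16, false), (32, false), (8, false), (64, false), (128, false)]),
   (3, [(1, false), (2, false), (4, false), (8, false), (16, false), (64, false), (128, false), (32, false)]),
   (3, [(1, false), (2, false), (4, false), (8, false), (16, false), (32, false), (128, false), (252, false)])]
/-- Automorphisms of odd order. -/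
abbrev F1 : List (ℕ × List (ℕ × Bool)) :=
  [(7, [(1, false), (2, false), (8, false), (16, false), (32, false), (64, false), (128, false), (252, false)]),
   (3, [(1, false), (39, true), (128, false), (8, false), (16, false), (5, false), (64, false), (33, false)]),
   (3, [(1, false), (2, false), (4, false), (16, false), (32, false), (8, false), (64, false), (128, false)]),
   (3, [(1, false), (2, false), (4, false), (8, false), (16, false), (64, false), (128, false), (32, false)]),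
   (3, [(1, false), (2, false), (4, false), (8, false), (16, false), (32, false), (128, false), (252, false)]),
   (3, [(23, false), (1, false), (17, true), (8, false), (5, false), (32, false), (64, false), (128, false)])]
/-- Words reaching the noncentral involutions from `q 0`. -/
def T1 : List ((ℕ × Bool) × List ℕ) :=
  [((1, false), []),
   ((2, false), [5, 5]),
   ((7, false), [5, 0, 3, 5, 1, 0]),
   ((11, false), [5, 1, 4, 3, 1]),
   ((15, false), [5, 2, 2]),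
   ((19, false), [5, 1, 0, 3, 1, 1]),
   ((23, false), [5]),
   ((27, false), [5, 2, 2, 0]),
   ((28, false), [5, 2, 3, 1, 5, 0]),
   ((29, false), [5, 1, 3, 1, 0, 5]),
   ((30, false), [5, 1, 3, 1, 0]),
   ((35, false), [5, 1, 0, 2, 1, 3]),
   ((39, false), [5, 2]),
   ((43, false), [5, 0]),
   ((44, false), [5, 1, 2, 5, 0, 3]),
   ((45, false), [5, 1, 0, 4, 5, 0]),
   ((46, false), [5, 1, 0, 4, 0]),
   ((51, false), [5, 1, 1, 3]),
   ((52, false), [5, 1, 0, 2, 5, 1]),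
   ((53, false), [5, 1, 0, 3, 5]),
   ((54, false), [5, 1, 0, 3]),
   ((56, false), [5, 1, 0, 4, 0, 5]),
   ((57, false), [5, 1, 0, 2, 2, 5, 1]),
   ((58, false), [5, 1, 3, 1, 0, 0]),
   ((60, false), [5, 1, 2, 5, 1]),
   ((61, false), [5, 0, 5, 5]),
   ((62, false), [5, 0, 5]),
   ((67, false), [5, 0, 3, 5, 1, 4]),
   ((71, false), [5, 2, 3]),
   ((75, false), [5, 0, 3]),
   ((76, false), [5, 2, 3, 1, 4, 5]),
   ((77, false), [5, 0, 3, 5, 5, 1, 0]),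
   ((78, false), [5, 1, 4, 1]),
   ((83, false), [5, 0, 0]),
   ((84, false), [5, 1, 3, 5, 1, 0]),
   ((85, false), [5, 1, 0, 0, 0, 5]),
   ((86, false), [5, 1, 0, 0, 0]),
   ((88, false), [5, 1, 4, 1, 5]),
   ((89, false), [5, 1, 0, 4, 5, 0, 0]),
   ((90, false), [5, 1, 0, 4, 0, 0]),
   ((92, false), [5, 0, 5, 0, 5, 2]),
   ((93, false), [5, 0, 3, 5, 5]),
   ((94, false), [5, 0, 3, 5]),
   ((99, false), [5, 0, 0, 2]),
   ((100, false), [5, 0, 3, 1, 0, 5, 0]),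
   ((101, false), [5, 0, 3, 5, 5, 1, 4]),
   ((102, false), [5, 1, 0, 0, 0, 2]),
   ((104, false), [5, 1, 4, 5, 1]),
   ((105, false), [5, 1, 0, 0, 4, 5]),
   ((106, false), [5, 1, 0, 0, 4]),
   ((108, false), [5, 0, 3, 5, 0, 3, 5]),
   ((109, false), [5, 1, 4, 5, 0]),
   ((110, false), [5, 0, 3, 1]),
   ((112, false), [5, 1, 0, 2, 3, 5]),
   ((113, false), [5, 0, 5, 0, 5, 1, 4]),
   ((114, false), [5, 1, 2, 3, 3, 4]),
   ((116, false), [5, 0, 3, 1, 5, 0, 1]),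
   ((117, false), [5, 1, 3, 5]),
   ((118, false), [5, 1, 3]),
   ((120, false), [5, 0, 3, 1, 5]),
   ((121, false), [5, 0, 5, 5, 0]),
   ((122, false), [5, 0, 5, 0]),
   ((127, false), [5, 0, 0, 0, 0, 3]),
   ((131, false), [5, 1, 0, 2, 1]),
   ((135, false), [5, 2, 3, 3]),
   ((139, false), [5, 0, 3, 3]),
   ((140, false), [5, 1, 2, 5, 0]),
   ((141, false), [5, 1, 0, 5, 2, 2]),
   ((142, false), [5, 1, 0, 2, 2]),
   ((147, false), [5, 1, 1]),
   ((148, false), [5, 1, 2, 5, 0, 2]),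
   ((149, false), [5, 1, 0, 5]),
   ((150, false), [5, 1, 0]),
   ((152, false), [5, 1, 0, 2, 2, 5]),
   ((153, false), [5, 1, 2, 5, 0, 5]),
   ((154, false), [5, 1, 4, 1, 0]),
   ((156, false), [5, 1, 0, 2, 5, 0]),
   ((157, false), [5, 0, 3, 3, 5, 5]),
   ((158, false), [5, 0, 3, 3, 5]),
   ((163, false), [5, 0, 0, 0]),
   ((164, false), [5, 0, 5, 1, 5, 0]),
   ((165, false), [5, 1, 0, 5, 2]),
   ((166, false), [5, 1, 0, 2]),
   ((168, false), [5, 1, 0, 2, 5, 2]),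
   ((169, false), [5, 1, 4, 3, 5]),
   ((170, false), [5, 1, 4, 3]),
   ((172, false), [5, 0, 5, 1, 5]),
   ((173, false), [5, 1, 5, 2]),
   ((174, false), [5, 1, 2]),
   ((176, false), [5, 1, 0, 5, 1]),
   ((177, false), [5, 1, 4, 5, 2, 3]),
   ((178, false), [5, 1, 0, 3, 1]),
   ((180, false), [5, 1, 0, 2, 5, 0, 2]),
   ((181, false), [5, 1, 3, 4, 5]),
   ((182, false), [5, 1, 3, 4]),
   ((184, false), [5, 1, 2, 5]),
   ((185, false), [5, 0, 3, 5, 5, 0]),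
   ((186, false), [5, 0, 3, 5, 0]),
   ((191, false), [5, 2, 1, 0]),
   ((195, false), [5, 0, 0, 2, 0]),
   ((196, false), [5, 0, 5, 5, 1, 0]),
   ((197, false), [5, 1, 2, 2, 5, 0]),
   ((198, false), [5, 0, 5, 1, 4]),
   ((200, false), [5, 1, 4, 5, 1, 3]),
   ((201, false), [5, 1, 1, 4, 1, 5]),
   ((202, false), [5, 1, 1, 4, 1]),
   ((204, false), [5, 1, 0, 2, 4, 5]),
   ((205, false), [5, 1, 4, 5, 0, 3]),
   ((206, false), [5, 0, 3, 1, 3]),
   ((208, false), [5, 1, 4, 5, 1, 0]),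
   ((209, false), [5, 1, 2, 4, 5, 5]),
   ((210, false), [5, 2, 2, 1, 4]),
   ((212, false), [5, 1, 3, 5, 1]),
   ((213, false), [5, 1, 0, 0, 5]),
   ((214, false), [5, 1, 0, 0]),
   ((216, false), [5, 0, 3, 1, 3, 5]),
   ((217, false), [5, 0, 5, 5, 0, 3]),
   ((218, false), [5, 0, 3, 1, 0]),
   ((223, false), [5, 1, 1, 0]),
   ((224, false), [5, 1, 0, 2, 3, 5, 0]),
   ((225, false), [5, 1, 2, 4, 5, 1]),
   ((226, false), [5, 0, 3, 3, 4, 5]),
   ((228, false), [5, 0, 5, 0, 0, 5]),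
   ((229, false), [5, 1, 0, 0, 5, 2]),
   ((230, false), [5, 2, 3, 1]),
   ((232, false), [5, 2, 3, 1, 5, 2]),
   ((233, false), [5, 1, 0, 4, 5]),
   ((234, false), [5, 1, 0, 4]),
   ((239, false), [5, 1, 2, 1, 0]),
   ((240, false), [5, 0, 3, 1, 5, 0]),
   ((241, false), [5, 0, 5, 5, 0, 0]),
   ((242, false), [5, 0, 5, 0, 0]),
   ((247, false), [5, 0, 3, 3, 4]),
   ((251, false), [5, 5, 1, 3, 3, 4]),
   ((255, false), [5, 0, 3, 5, 1]),
   ((1, true), [5, 2, 1, 1, 5]),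
   ((2, true), [5, 2, 1, 1]),
   ((7, true), [5, 1, 0, 2, 1, 1]),
   ((11, true), [5, 2, 1, 0, 5, 1]),
   ((15, true), [5, 5, 1, 2]),
   ((19, true), [5, 1, 4, 3, 2, 2, 1]),
   ((23, true), [5, 5, 1, 2, 2]),
   ((27, true), [5, 0, 2]),
   ((28, true), [5, 0, 3, 1, 5, 0, 0]),
   ((29, true), [5, 0, 5, 0, 0, 0, 5]),
   ((30, true), [5, 0, 5, 0, 0, 0]),
   ((35, true), [5, 1, 0, 3, 5, 5]),
   ((39, true), [5, 5, 1]),
   ((43, true), [5, 1, 1, 3, 2]),
   ((44, true), [5, 1, 0, 2, 5, 1, 2]),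
   ((45, true), [5, 1, 0, 3, 5, 2]),
   ((46, true), [5, 1, 0, 3, 2]),
   ((51, true), [5, 0, 2, 0]),
   ((52, true), [5, 1, 0, 5, 1, 1]),
   ((53, true), [5, 2, 3, 1, 0, 5]),
   ((54, true), [5, 2, 3, 1, 0]),
   ((56, true), [5, 1, 0, 3, 2, 5]),
   ((57, true), [5, 0, 5, 1, 0, 5, 1]),
   ((58, true), [5, 1, 4, 3, 2, 3]),
   ((60, true), [5, 0, 5, 5, 1, 3]),
   ((61, true), [5, 1, 2, 2, 3, 5]),
   ((62, true), [5, 1, 2, 2, 3]),
   ((67, true), [5, 0, 3, 1, 2, 1, 4]),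
   ((71, true), [5, 5, 1, 3]),
   ((75, true), [5, 5, 1, 0]),
   ((76, true), [5, 0, 3, 1, 3, 5, 0]),
   ((77, true), [5, 1, 4, 1, 5, 5]),
   ((78, true), [5, 0, 3, 1, 0, 0]),
   ((83, true), [5, 0, 2, 0, 3]),
   ((84, true), [5, 1, 0, 5, 1, 1, 3]),
   ((85, true), [5, 0, 3, 1, 1, 4, 5]),
   ((86, true), [5, 0, 3, 1, 1, 4]),
   ((88, true), [5, 1, 4, 5, 1, 2]),
   ((89, true), [5, 1, 0, 0, 4, 5, 2]),
   ((90, true), [5, 2, 3, 1, 4]),
   ((92, true), [5, 0, 5, 0, 5, 5, 1]),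
   ((93, true), [5, 0, 3, 1, 2, 5]),
   ((94, true), [5, 0, 3, 1, 2]),
   ((99, true), [5, 0, 0, 0, 3]),
   ((100, true), [5, 0, 3, 1, 3, 4, 5]),
   ((101, true), [5, 1, 0, 5, 2, 3]),
   ((102, true), [5, 1, 0, 2, 3]),
   ((104, true), [5, 1, 0, 2, 3, 5, 2]),
   ((105, true), [5, 1, 4, 3, 3, 5]),
   ((106, true), [5, 1, 4, 3, 3]),
   ((108, true), [5, 0, 5, 0, 5]),
   ((109, true), [5, 1, 3, 5, 2]),
   ((110, true), [5, 1, 2, 3]),
   ((112, true), [5, 1, 0, 5, 1, 3]),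
   ((113, true), [5, 1, 4, 5, 0, 3, 4]),
   ((114, true), [5, 0, 3, 1, 3, 4]),
   ((116, true), [5, 1, 2, 4, 5, 0]),
   ((117, true), [5, 1, 4, 4, 5]),
   ((118, true), [5, 1, 4, 4]),
   ((120, true), [5, 1, 2, 3, 5]),
   ((121, true), [5, 0, 5, 0, 5, 5]),
   ((122, true), [5, 0, 3, 5, 0, 3]),
   ((127, true), [5, 2, 1, 0, 3]),
   ((131, true), [5, 1, 0, 5, 5]),
   ((135, true), [5, 5, 1, 3, 3]),
   ((139, true), [5, 1, 2, 1]),
   ((140, true), [5, 1, 4, 1, 0, 5]),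
   ((141, true), [5, 1, 0, 2, 2, 5, 5]),
   ((142, true), [5, 0, 5, 1, 0]),
   ((147, true), [5, 1, 2, 1, 2]),
   ((148, true), [5, 1, 0, 3, 5, 1]),
   ((149, true), [5, 1, 3, 4, 0, 5]),
   ((150, true), [5, 1, 3, 4, 0]),
   ((152, true), [5, 0, 5, 1, 0, 5]),
   ((153, true), [5, 1, 4, 3, 5, 2]),
   ((154, true), [5, 1, 4, 3, 2]),
   ((156, true), [5, 0, 5, 5, 1]),
   ((157, true), [5, 1, 2, 2, 5]),
   ((158, true), [5, 1, 2, 2]),
   ((163, true), [5, 2, 1]),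
   ((164, true), [5, 0, 3, 5, 0, 5, 0]),
   ((165, true), [5, 1, 0, 2, 5, 5]),
   ((166, true), [5, 2, 2, 1, 0]),
   ((168, true), [5, 1, 0, 5, 1, 2]),
   ((169, true), [5, 2, 1, 0, 5, 5]),
   ((170, true), [5, 2, 1, 0, 5]),
   ((172, true), [5, 0, 3, 5, 0, 5]),
   ((173, true), [5, 1, 2, 5, 5]),
   ((174, true), [5, 2, 2, 1]),
   ((176, true), [5, 1, 0, 2, 5]),
   ((177, true), [5, 0, 5, 1, 5, 0, 5]),
   ((178, true), [5, 1, 4, 3, 2, 2]),
   ((180, true), [5, 0, 5, 5, 1, 2]),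
   ((181, true), [5, 1, 5]),
   ((182, true), [5, 1]),
   ((184, true), [5, 2, 2, 1, 5]),
   ((185, true), [5, 0, 3, 1, 2, 5, 0]),
   ((186, true), [5, 0, 5, 1]),
   ((191, true), [5, 0, 0, 0, 0]),
   ((195, true), [5, 0, 0, 0, 0, 4]),
   ((196, true), [5, 1, 2, 4, 5]),
   ((197, true), [5, 0, 3, 3, 5, 5, 0]),
   ((198, true), [5, 0, 3, 3, 5, 0]),
   ((200, true), [5, 0, 5, 5, 1, 2, 4]),
   ((201, true), [5, 1, 4, 5]),
   ((202, true), [5, 1, 4]),
   ((204, true), [5, 0, 3, 1, 0, 5]),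
   ((205, true), [5, 0, 5, 0, 5, 1]),
   ((206, true), [5, 1, 2, 3, 3]),
   ((208, true), [5, 0, 5, 1, 4, 5]),
   ((209, true), [5, 1, 4, 5, 2]),
   ((210, true), [5, 1, 2, 4]),
   ((212, true), [5, 1, 4, 4, 5, 1]),
   ((213, true), [5, 1, 4, 4, 3, 5]),
   ((214, true), [5, 1, 4, 4, 3]),
   ((216, true), [5, 0, 5, 0, 5, 0]),
   ((217, true), [5, 0, 3, 5, 5, 1]),
   ((218, true), [5, 1, 0, 2, 4]),
   ((223, true), [5, 2, 1, 4]),
   ((224, true), [5, 0, 5, 5, 1, 4]),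
   ((225, true), [5, 1, 2, 2, 4, 5]),
   ((226, true), [5, 1, 2, 2, 4]),
   ((228, true), [5, 1, 3, 1, 5]),
   ((229, true), [5, 2, 3, 1, 5, 5]),
   ((230, true), [5, 5, 1, 3, 1]),
   ((232, true), [5, 0, 3, 1, 5, 0, 2]),
   ((233, true), [5, 0, 3, 1, 1, 5]),
   ((234, true), [5, 0, 3, 1, 1]),
   ((239, true), [5, 1, 1, 4]),
   ((240, true), [5, 2, 3, 1, 5]),
   ((241, true), [5, 0, 3, 5, 5, 1, 2]),
   ((242, true), [5, 1, 3, 1]),
   ((247, true), [5, 1, 2, 1, 4]),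
   ((251, true), [5, 2, 3, 3, 4]),
   ((255, true), [5, 0, 3, 1, 2, 1])]
/-- Words reaching the involutions not commuting with `q 0` from `q 1`. -/
def T2 : List ((ℕ × Bool) × List ℕ) :=
  [((2, false), []),
   ((7, false), [1, 0, 1, 2, 1, 0]),
   ((11, false), [1, 0, 0, 4, 1, 3, 1]),
   ((15, false), [1, 1, 2, 1]),
   ((19, false), [1, 2, 1, 4, 3, 1]),
   ((23, false), [1, 0, 3, 4, 0]),
   ((27, false), [1, 0, 3, 3, 2]),
   ((30, false), [1, 1, 0, 1, 1]),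
   ((35, false), [1, 2, 1, 0, 1, 3]),
   ((39, false), [1, 0, 0, 4, 0]),
   ((43, false), [1, 1, 2, 3]),
   ((46, false), [1, 0, 1, 1, 0]),
   ((51, false), [1, 1, 2, 2, 3]),
   ((54, false), [1, 3, 1, 0]),
   ((58, false), [1, 1, 0, 1, 1, 0]),
   ((62, false), [1, 2, 0, 1]),
   ((67, false), [1, 0, 1, 2, 1, 4]),
   ((71, false), [1, 0, 0, 0, 0]),
   ((75, false), [1, 1, 2, 3, 3]),
   ((78, false), [1, 0, 1, 0, 0]),
   ((83, false), [1, 1, 2, 0, 4]),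
   ((86, false), [1, 0, 1, 1, 4]),
   ((90, false), [1, 3, 1, 4]),
   ((94, false), [1, 0, 1, 2]),
   ((99, false), [1, 1, 4, 4]),
   ((102, false), [1, 0, 1, 0, 4]),
   ((106, false), [1, 3, 1, 0, 0]),
   ((110, false), [1, 0, 1, 4, 3]),
   ((114, false), [1, 0, 1, 3, 4]),
   ((118, false), [1, 0, 1, 2, 2]),
   ((122, false), [1, 2, 0, 1, 0]),
   ((127, false), [1, 1, 0, 3]),
   ((131, false), [1, 2, 1, 0, 1]),
   ((135, false), [1, 0, 0, 0, 0, 3]),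
   ((139, false), [1, 1, 2]),
   ((142, false), [1, 2, 1, 0, 2]),
   ((147, false), [1, 1, 2, 2]),
   ((150, false), [1, 0, 1, 1, 4, 3]),
   ((154, false), [1, 3, 1, 4, 3]),
   ((158, false), [1, 0, 1, 2, 3]),
   ((163, false), [1, 1]),
   ((166, false), [1, 2, 1, 0]),
   ((170, false), [1, 0, 0, 4, 1, 3]),
   ((174, false), [1, 2, 1]),
   ((178, false), [1, 2, 1, 4, 3]),
   ((182, false), [1, 2, 2, 1]),
   ((186, false), [1, 0, 1, 0, 3]),
   ((191, false), [1, 0, 0, 0, 3]),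
   ((195, false), [1, 1, 4, 4, 0]),
   ((198, false), [1, 2, 1, 2, 0]),
   ((202, false), [1, 1, 2, 0, 1]),
   ((206, false), [1, 1, 0, 1, 0]),
   ((210, false), [1, 0, 1, 4, 4]),
   ((214, false), [1, 0, 1, 2, 2, 3]),
   ((218, false), [1, 0, 1, 2, 1, 1]),
   ((223, false), [1, 1, 4]),
   ((226, false), [1, 0, 1, 0, 4, 1]),
   ((230, false), [1, 1, 0, 1, 4]),
   ((234, false), [1, 0, 1, 1]),
   ((239, false), [1, 0, 0, 4]),
   ((242, false), [1, 0, 2, 1, 1]),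
   ((247, false), [1, 1, 2, 4]),
   ((251, false), [1, 3, 3, 4]),
   ((255, false), [1, 0, 1, 2, 1]),
   ((2, true), [1, 0, 0, 2, 1]),
   ((7, true), [1, 2, 1, 0, 1, 1]),
   ((11, true), [1, 1, 2, 0, 1, 3, 1]),
   ((15, true), [1, 2]),
   ((19, true), [1, 1, 0, 1, 2, 1]),
   ((23, true), [1, 2, 2]),
   ((27, true), [1, 2, 0]),
   ((30, true), [1, 0, 1, 1, 0, 2]),
   ((35, true), [1, 0, 1, 4, 0, 1, 3]),
   ((39, true), [1]),
   ((43, true), [1, 0, 3, 3]),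
   ((46, true), [1, 3, 1, 0, 2]),
   ((51, true), [1, 0, 0, 3]),
   ((54, true), [1, 1, 0, 1, 4, 0]),
   ((58, true), [1, 1, 0, 1, 3]),
   ((62, true), [1, 2, 1, 2, 3]),
   ((67, true), [1, 0, 1, 0, 1, 1, 4]),
   ((71, true), [1, 3]),
   ((75, true), [1, 0]),
   ((78, true), [1, 0, 2, 1, 1, 4]),
   ((83, true), [1, 0, 2]),
   ((86, true), [1, 0, 1, 3, 2, 0]),
   ((90, true), [1, 3, 3, 4, 1]),
   ((94, true), [1, 0, 1, 0, 1]),
   ((99, true), [1, 1, 3]),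
   ((102, true), [1, 2, 1, 0, 3]),
   ((106, true), [1, 0, 1, 3, 2, 4]),
   ((110, true), [1, 0, 1]),
   ((114, true), [1, 1, 0, 1, 0, 4]),
   ((118, true), [1, 0, 2, 1]),
   ((122, true), [1, 0, 1, 0, 3, 3]),
   ((127, true), [1, 1, 0, 4, 0]),
   ((131, true), [1, 0, 1, 4, 0, 1]),
   ((135, true), [1, 3, 3]),
   ((139, true), [1, 0, 3]),
   ((142, true), [1, 0, 1, 4, 0, 2]),
   ((147, true), [1, 0, 0]),
   ((150, true), [1, 2, 2, 1, 0]),
   ((154, true), [1, 1, 0, 1]),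
   ((158, true), [1, 2, 1, 2]),
   ((163, true), [1, 0, 0, 2]),
   ((166, true), [1, 0, 1, 4, 0]),
   ((170, true), [1, 1, 2, 0, 1, 3]),
   ((174, true), [1, 0, 1, 4]),
   ((178, true), [1, 1, 0, 1, 2]),
   ((182, true), [1, 0, 2, 1, 4]),
   ((186, true), [1, 2, 0, 1, 1]),
   ((191, true), [1, 1, 0]),
   ((195, true), [1, 1, 0, 4]),
   ((198, true), [1, 0, 1, 0, 3, 4]),
   ((202, true), [1, 0, 0, 4, 1]),
   ((206, true), [1, 0, 1, 3]),
   ((210, true), [1, 2, 1, 4]),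
   ((214, true), [1, 0, 1, 3, 2]),
   ((218, true), [1, 0, 1, 0]),
   ((223, true), [1, 0, 0, 0]),
   ((226, true), [1, 2, 1, 2, 4]),
   ((230, true), [1, 3, 1]),
   ((234, true), [1, 0, 2, 1, 0]),
   ((239, true), [1, 1, 2, 0]),
   ((242, true), [1, 0, 1, 0, 2]),
   ((247, true), [1, 0, 3, 4]),
   ((251, true), [1, 1, 0, 4, 0, 0]),
   ((255, true), [1, 0, 1, 0, 1, 1])]

theorem tri_K : Tri rK 8 := by decide +kernel
theorem nd_K : Nondeg rK 8 := by decide +kernel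
theorem sq_K : AutBound.sqOne (XG rK 8) = 272 := by
  rw [sqOne_eq_fintype]; decide +kernel

theorem chkK : Chk rK 8 F0 ⟨4, false⟩ [2, 3, 4] [[0], [1], [4]]
    [[], [0], [0, 0], [0, 0, 0], [0, 0, 0, 0], [0, 0, 0, 0, 0]] where
  tri := tri_K
  nd := nd_K
  two := by decide
  odd := by decide +kernel
  id := by decide +kernel
  a0c := by decide +kernel
  a0V := by decide +kernel
  moved := by decide +kernel
  fixw := by decide +kernel
  fix := by decide +kernel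
  gen := by decide +kernel
  bit := by decide +kernel
  ex := by decide +kernel

theorem trK : Tr rK 8 F1 T1 where
  tri := tri_K
  nd := nd_K
  odd := by decide +kernel
  run := by decide +kernel
  all := by decide +kernel

theorem tr2K : Tr2 rK 8 F0 T2 where
  tri := tri_K
  nd := nd_K
  two := by decide
  odd := by decide +kernel
  run := by decide +kernel
  all := by decide +kernel

end Cfsg.Agent.LargeExtra.CoModel
end

-- part: LargeExtra/CoFour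
section
/-!
# The Conway type: summary of the local information inside `C(z)`

`CoHyp Q z` is all that is used of the hypotheses of S1718 apart from the conjugate of `z` in `Q`.
-/

set_option autoImplicit false

namespace Cfsg.Agent.LargeExtra

open Cfsg.Agent.LargeExtra.Model Cfsg.Agent.LargeExtra.Pres Cfsg.Agent.LargeExtra.Models
open Cfsg.Agent.LargeExtra.AutBound Cfsg.Agent.LargeExtra.Lift
open Cfsg.Agent.LargeExtra.FourGroup Cfsg.Agent.LargeExtra.Check Cfsg.Agent.LargeExtra.CoModel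
open Cfsg.Agent.ClassificationK.LargeSymplectic

/-- `Q = 2₊^(1+8)`, `C(z)/Q = Ω⁺(8,2)`, in coordinates. -/
structure CoHyp {G : Type*} [Group G] (Q : Subgroup G) (z : G) : Prop where
  pin : ∃ φ : XG rK 8 ≃* Q, GPin Q z φ
  card : Nat.card (Subgroup.centralizer ({z} : Set G)) = 89181388800

/-- The hypotheses of S1718, with `C_C(Q) ≤ Q` instead of `F*(C) = Q`. -/
theorem CoHyp.of_self_centralizing {G : Type*} [Group G] [Finite G] (z : G) (hz : orderOf z = 2)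
    (Q : Subgroup (Subgroup.centralizer ({z} : Set G))) [Q.Normal]
    (hself : Subgroup.centralizer (Q : Set (Subgroup.centralizer ({z} : Set G))) ≤ Q)
    (hQ : Cfsg.IsExtraspecial 2 Q) (hcard : Nat.card Q = 2 ^ 9)
    (e : (Subgroup.centralizer ({z} : Set G)) ⧸ Q ≃*
      Cfsg.Omega (ZMod 2) (Cfsg.quadFormPlus 4 (ZMod 2))) :
    CoHyp (Q.map (Subgroup.centralizer ({z} : Set G)).subtype) z where
  pin := exists_gpin_co hz Q hself hQ hcard e nd_K sq_K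
  card := card_centralizer_co Q hcard e

/-- The hypotheses of S1718. -/
theorem CoHyp.of_statement {G : Type*} [Group G] [Finite G] (z : G) (hz : orderOf z = 2)
    (Q : Subgroup (Subgroup.centralizer ({z} : Set G))) [Q.Normal]
    (hF : Cfsg.generalizedFittingSubgroup (Subgroup.centralizer ({z} : Set G)) = Q)
    (hQ : Cfsg.IsExtraspecial 2 Q) (hcard : Nat.card Q = 2 ^ 9)
    (e : (Subgroup.centralizer ({z} : Set G)) ⧸ Q ≃*
      Cfsg.Omega (ZMod 2) (Cfsg.quadFormPlus 4 (ZMod 2))) :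
    CoHyp (Q.map (Subgroup.centralizer ({z} : Set G)).subtype) z :=
  CoHyp.of_self_centralizing z hz Q (self_centralizing hF) hQ hcard e

section

variable {G : Type*} [Group G]

variable {Q P : Subgroup G} {z y w : G}

theorem card_noncentral_K :
    Nat.card {x : XG rK 8 // x * x = 1 ∧ x ≠ 1 ∧ x ≠ Model.zz} = 270 := by
  rw [Nat.card_eq_fintype_card]; decide +kernel

theorem card_noncomm_K :
    Nat.card {x : XG rK 8 // x * x = 1 ∧ x * idim rK 8 0 ≠ idim rK 8 0 * x} = 128 := by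
  rw [Nat.card_eq_fintype_card]; decide +kernel

namespace CoHyp

theorem data (H : CoHyp Q z) : Data Q z := by
  obtain ⟨φ, P⟩ := H.pin
  exact GPin.data P nd_K

theorem z_ne (H : CoHyp Q z) : z ≠ 1 := by
  obtain ⟨φ, P⟩ := H.pin
  exact P.z_ne

theorem card_Q (H : CoHyp Q z) : Nat.card Q = 512 := by
  obtain ⟨φ, P⟩ := H.pin
  rw [← Nat.card_congr φ.toEquiv, card_XG]
  norm_num

/-- `Z(Q) = ⟨z⟩`. -/
theorem center (H : CoHyp Q z) {x : G} (hx : x ∈ Q) (h : ∀ q ∈ Q, q * x * q⁻¹ = x) :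
    x = 1 ∨ x = z := by
  obtain ⟨φ, P⟩ := H.pin
  exact GPin.center P nd_K hx h

/-- `C(z)` is transitive on the 270 noncentral involutions of `Q`. -/
theorem conj_inv (H : CoHyp Q z) {x y : G} (hx : x ∈ Q) (hx2 : x * x = 1)
    (hx1 : x ≠ 1) (hxz : x ≠ z) (hy : y ∈ Q) (hy2 : y * y = 1)
    (h1 : y ≠ 1) (hz : y ≠ z) : ∃ c, c * z = z * c ∧ c * x * c⁻¹ = y := by
  obtain ⟨φ, P⟩ := H.pin
  exact P.conj_inv trK hx hx2 hx1 hxz hy hy2 h1 hz

/-- `C(z)` is transitive on the 34560 ordered pairs of noncommuting involutions of `Q`. -/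
theorem conj_pair (H : CoHyp Q z) {x v y w : G}
    (hx : x ∈ Q) (hx2 : x * x = 1) (hv : v ∈ Q) (hv2 : v * v = 1) (hxv : v * x ≠ x * v)
    (hy : y ∈ Q) (hy2 : y * y = 1) (hw : w ∈ Q) (hw2 : w * w = 1) (hyw : w * y ≠ y * w) :
    ∃ c, c * z = z * c ∧ c * x * c⁻¹ = y ∧ c * v * c⁻¹ = w := by
  obtain ⟨φ, P⟩ := H.pin
  exact P.conj_pair trK tr2K hx hx2 hv hv2 hxv hy hy2 hw hw2 hyw

/-- Coordinates adapted to a noncentral involution. -/
theorem adapt (H : CoHyp Q z) (hy : y ∈ Q) (hy2 : y * y = 1) (h1 : y ≠ 1) (hz : y ≠ z) :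
    ∃ φ : XG rK 8 ≃* Q, GPin Q z φ ∧ (φ (idim rK 8 0) : G) = y := by
  obtain ⟨φ, P⟩ := H.pin
  exact P.adapt trK hy hy2 h1 hz

/-- Coordinates adapted to a pair of noncommuting involutions `y`, `w`: the images of `q 2, …, q 7` are
pairwise anticommuting elements of order four generating `C_Q(⟨y, w⟩)` together with `z`. -/
theorem adapt₂ (H : CoHyp Q z) (hy : y ∈ Q) (hy2 : y * y = 1) (hw : w ∈ Q) (hw2 : w * w = 1)
    (hyw : w * y ≠ y * w) :
    ∃ φ : XG rK 8 ≃* Q, GPin Q z φ ∧ (φ (idim rK 8 0) : G) = y ∧ (φ (idim rK 8 1) : G) = w := by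
  obtain ⟨φ, P⟩ := H.pin
  exact P.adapt₂ trK tr2K hy hy2 hw hw2 hyw

/-- `|C(z) ∩ C(y)| = 2¹⁴ · 20160`. -/
theorem card_CV (H : CoHyp Q z) (hy : y ∈ Q) (hy2 : y * y = 1) (h1 : y ≠ 1) (hz : y ≠ z) :
    Nat.card (CV z y) = 330301440 := by
  obtain ⟨φ, P⟩ := H.pin
  have h2 := card_inf_centralizer_mul (Subgroup.centralizer ({z} : Set G)) y
  rw [P.card_orbit trK hy hy2 h1 hz, card_noncentral_K, H.card] at h2
  have h3 : Nat.card (CV z y) * 270 = 89181388800 := h2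
  omega

/-- `|C(z) ∩ C(y) ∩ C(w)| = 2⁷ · 20160`. -/
theorem card_CVw (H : CoHyp Q z) (hy : y ∈ Q) (hy2 : y * y = 1) (hw : w ∈ Q) (hw2 : w * w = 1)
    (hyw : w * y ≠ y * w) :
    Nat.card ↥(CV z y ⊓ Subgroup.centralizer ({w} : Set G)) = 2580480 := by
  obtain ⟨φ, P⟩ := H.pin
  have h1 : y ≠ 1 := by rintro rfl; simp at hyw
  have hz : y ≠ z := by rintro rfl; exact hyw (GPin.comm_z P hw)
  have h2 := card_inf_centralizer_mul (CV z y) w
  rw [P.card_orbit₂ trK tr2K hy hy2 hw hw2 hyw, card_noncomm_K, H.card_CV hy hy2 h1 hz] at h2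
  omega

/-- All the hypotheses of `Ctx.main_four` hold; `|R| = 2¹⁴`. -/
theorem chk [Finite G] (H : CoHyp Q z) (h : Ctx Q P z y) : ∃ a0 : G,
    (∀ x ∈ Q, x ∈ P → x ∈ h.V) ∧ h.Vec a0 ∧
    (∀ c ∈ CV z y, (∀ d ∈ CV z y, c * d * c⁻¹ * d⁻¹ ∈ h.R) → c ∈ h.R) ∧
    (∃ a ∈ h.A, a ∉ h.V ∧ a * a0 ∉ h.V) ∧ Nat.card h.R = 16384 := by
  obtain ⟨φ, P', hφ⟩ := H.adapt h.yQ h.yy h.y1 h.ne
  obtain ⟨h1, h2, h3, h4, h5⟩ := chk_all chkK P' hφ h
  exact ⟨_, h1, h2, h3, h4, by rw [h5]; norm_num⟩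

/-- **The four-group for the Conway type**: `N_G(V)` contains `R : (L × ⟨f, τ⟩)`, `|L| = 20160`. -/
theorem four [Finite G] (H : CoHyp Q z) (h : Ctx Q P z y) :
    ∃ f τ : G, h.IsF f ∧ τ ∈ Q ∧ τ * τ = 1 ∧ τ * f * τ⁻¹ = f⁻¹ ∧ τ * y * τ⁻¹ = z * y ∧
      (∀ l ∈ h.L f, τ * l = l * τ) ∧ (∀ l ∈ h.L f, l * f = f * l) ∧
      (∀ x ∈ h.L f, x ∈ h.R → x = 1) ∧
      (∀ c ∈ CV z y, ∃ x ∈ h.R, ∃ l ∈ h.L f, c = x * l) ∧
      (∀ x ∈ h.R, x * (f * x * f⁻¹) * (f⁻¹ * x * f) = 1) ∧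
      (∀ x ∈ Q, (∀ l ∈ h.L f, x * l = l * x) → x ∈ h.V ∨ x * τ ∈ h.V) ∧
      (∀ x ∈ Q, x ∈ P → x ∈ h.V) ∧ Nat.card h.R = 16384 ∧ Nat.card (h.L f) = 20160 ∧
      Nat.card (CV z y) = 330301440 := by
  obtain ⟨a0, h1, h2, h3, h4, h5⟩ := H.chk h
  obtain ⟨f, τ, k1, k2, k3, k4, k5, k6, k7, k8, k9, k10, k11⟩ := h.main_four h1 h2 h3 h4
  have h6 := H.card_CV h.yQ h.yy h.y1 h.ne
  have h7 := card_mul_of_compl h.R_le_CV (fun x hx => (h.mem_L.mp hx).1) k8 k9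
  refine ⟨f, τ, k1, k2, k3, k4, k5, k6, k7, k8, k9, k10, k11, h1, h5, ?_, h6⟩
  rw [h6, h5] at h7
  omega

end CoHyp

end

end Cfsg.Agent.LargeExtra
end
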