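import Cfsg.Agent.CoOneType.CoOneE
import Cfsg.Agent.CoOneType.ClosingFacts
import Cfsg.Agent.CoOneType.InvBridge
set_option linter.all false

/-!
# Closing step for the recognition of `Co1` (helper249)

`closing` : an injective homomorphism `φ : Co1 → G` (`G` finite) whose range contains the
centraliser of the image of an octad involution, of order prime to `11` and `13`, is surjective.
-/

set_option autoImplicit false
open Cfsg

namespace Cfsg.Agent.CoOneType.ClosingCo1

open Cfsg.Agent.SporadicA.Co0Mono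
open Cfsg.Agent.SporadicA.Co1Simple
open Cfsg.Agent.CoOneType.SignFacts
open Cfsg.Agent.CoOneType.CoOneE
open Cfsg.Agent.CoOneType.ClosingFacts
open Cfsg.Agent.CoOneType.Thirteen

theorem a1 : A1 := Cfsg.Agent.CoOneType.InvMain.conj_sign_of_sq_one

theorem a1' : A1' := Cfsg.Agent.CoOneType.InvBridge.conj_b0

theorem exists_octad : ∃ o : golayCode, wt o = 8 := by
  have h1 := Cfsg.Agent.S0360.result
  obtain ⟨x, hx⟩ : octads.Nonempty := by
    rw [Set.nonempty_iff_ne_empty]
    intro h0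
    rw [h0, Set.ncard_empty] at h1
    norm_num at h1
  obtain ⟨w, hw, hwx⟩ := hx.1
  exact ⟨⟨w, hw⟩, by unfold wt sup; rw [hwx]; exact hx.2⟩

theorem exists_dodecad : ∃ d : golayCode, wt d = 12 :=
  ⟨⟨qrWord 0, Submodule.subset_span (Set.mem_union_left _ ⟨0, rfl⟩)⟩, by
    unfold wt sup
    rw [Cfsg.Agent.SporadicStructure.GolayEven.support₂_qrWord]
    exact Cfsg.Agent.SporadicStructure.GolayEven.gen_wt 0⟩

instance : Finite Spor.Co1 := by
  unfold Spor.Co1
  infer_instance

/-- The closing theorem for `Co1`. -/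
theorem closing {G : Type*} [Group G] [Finite G] (φ : Spor.Co1 →* G)
    (hφ : Function.Injective φ) (o : golayCode) (ho : wt o = 8)
    (hC : ∀ g : G, g * φ (mk (signCo0 o)) * g⁻¹ = φ (mk (signCo0 o)) → g ∈ φ.range)
    (h11 : ¬ 11 ∣ Nat.card (Subgroup.centralizer ({φ (mk (signCo0 o))} : Set G)))
    (h13 : ¬ 13 ∣ Nat.card (Subgroup.centralizer ({φ (mk (signCo0 o))} : Set G))) :
    Function.Surjective φ := by
  obtain ⟨d, hd⟩ := exists_dodecad
  have hcard := Cfsg.Agent.SporRec.Closing249.card_centralizer_eq φ hφ (mk (signCo0 o)) hC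
  rw [hcard] at h11 h13
  have hz1 : mk (signCo0 o) ≠ 1 := by
    show pr (signCo0 o) ≠ 1
    rw [Ne, pr_sign_eq_one_iff]; omega
  have hc1 : mk (signCo0 d) ≠ 1 := by
    show pr (signCo0 d) ≠ 1
    rw [Ne, pr_sign_eq_one_iff]; omega
  exact Cfsg.Agent.SporRec.Closing249.surjective_of_facts Cfsg.Agent.S0399.result.1 φ hφ
    (mk (signCo0 o)) (mk (signCo0 d)) E (E_sq _ ⟨o, rfl⟩) hz1 (E_sq _ ⟨d, rfl⟩) hc1 hC
    (not_isConj o d ho hd) (hLz o d a1 a1' ho hd h11 h13)
    (hLc o d a1 a1' ho hd (not_dvd_centralizer_dodecad d hd)) E_sq ⟨d, rfl⟩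
    (E_normal o ho) (E_count o ho) (C4 o d a1 ho hd)

/-- If `|C_G(φ z)| ≤ |C_K(z)|`, the centraliser of `φ z` is contained in the range of `φ`. -/
theorem mem_range_of_card {K G : Type*} [Group K] [Group G] [Finite G] (φ : K →* G)
    (hφ : Function.Injective φ) (z : K)
    (hcard : Nat.card (Subgroup.centralizer ({φ z} : Set G)) ≤
      Nat.card (Subgroup.centralizer ({z} : Set K))) (g : G)
    (hg : g * φ z * g⁻¹ = φ z) : g ∈ φ.range := by
  have h1 : (Subgroup.centralizer ({z} : Set K)).map φ ≤ Subgroup.centralizer ({φ z} : Set G) := by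
    rintro _ ⟨x, hx, rfl⟩
    rw [Subgroup.mem_centralizer_singleton_iff]
    have hx' : x * z = z * x := Subgroup.mem_centralizer_singleton_iff.1 hx
    rw [← map_mul, hx', map_mul]
  have h2 : Nat.card ((Subgroup.centralizer ({z} : Set K)).map φ) =
      Nat.card (Subgroup.centralizer ({z} : Set K)) :=
    (Nat.card_congr ((Subgroup.centralizer ({z} : Set K)).equivMapOfInjective φ hφ).toEquiv).symm
  have h3 : (Subgroup.centralizer ({z} : Set K)).map φ = Subgroup.centralizer ({φ z} : Set G) :=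
    Subgroup.eq_of_le_of_card_ge h1 (by rw [h2]; exact hcard)
  have h4 : g ∈ (Subgroup.centralizer ({z} : Set K)).map φ := by
    rw [h3, Subgroup.mem_centralizer_singleton_iff]
    rw [mul_inv_eq_iff_eq_mul] at hg
    exact hg
  obtain ⟨x, -, rfl⟩ := h4
  exact ⟨x, rfl⟩

/-- The closing theorem for `Co1`, for an arbitrary involution `z` of `Co1`. -/
theorem closing' {G : Type*} [Group G] [Finite G] (φ : Spor.Co1 →* G)
    (hφ : Function.Injective φ) (z : Spor.Co1) (hz2 : z * z = 1) (hz1 : z ≠ 1)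
    (hC : ∀ g : G, g * φ z * g⁻¹ = φ z → g ∈ φ.range)
    (h11 : ¬ 11 ∣ Nat.card (Subgroup.centralizer ({φ z} : Set G)))
    (h13 : ¬ 13 ∣ Nat.card (Subgroup.centralizer ({φ z} : Set G))) :
    Function.Surjective φ := by
  obtain ⟨o, ho⟩ := exists_octad
  obtain ⟨d, hd⟩ := exists_dodecad
  have hcard := Cfsg.Agent.SporRec.Closing249.card_centralizer_eq φ hφ z hC
  rcases co1_cases o d a1 a1' ho hd z hz2 hz1 with h | h | ⟨t, rfl, h⟩
  · obtain ⟨m, hm⟩ := isConj_iff.1 h
    have hdvd := Cfsg.Agent.SporRec.Closing249.card_centralizer_dvd (MonoidHom.id G)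
      Function.injective_id (φ (mk (signCo0 o))) (φ z) (φ m)⁻¹ (by
        rw [← hm, map_mul, map_mul, map_inv, MonoidHom.id_apply]; group)
    refine closing φ hφ o ho ?_ (fun h => h11 (h.trans hdvd)) (fun h => h13 (h.trans hdvd))
    intro g hg
    have h1 : φ m * g * (φ m)⁻¹ ∈ φ.range := by
      apply hC
      have h2 : φ m * g * (φ m)⁻¹ * φ z * (φ m * g * (φ m)⁻¹)⁻¹ =
          φ m * (g * ((φ m)⁻¹ * φ z * φ m) * g⁻¹) * (φ m)⁻¹ := by group
      have h3 : (φ m)⁻¹ * φ z * φ m = φ (mk (signCo0 o)) := by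
        rw [← hm, map_mul, map_mul, map_inv]; group
      rw [h2, h3, hg, ← h3]
      group
    have h4 : g = (φ m)⁻¹ * (φ m * g * (φ m)⁻¹) * φ m := by group
    rw [h4]
    exact φ.range.mul_mem (φ.range.mul_mem (φ.range.inv_mem ⟨m, rfl⟩) h1) ⟨m, rfl⟩
  · exfalso
    apply h11
    rw [hcard]
    exact isConj_dvd h (eleven_dvd d hd)
  · exfalso
    apply h13
    rw [hcard]
    exact thirteen_dvd_of_conj t h

end Cfsg.Agent.CoOneType.ClosingCo1
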