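import Cfsg.Agent.CoOneType.CoEval
import Cfsg.Agent.SporadicA.Co0Mono
set_option linter.all false

/-!
Recognizing a word in explicit elements of `Co0` as a monomial map.
-/

set_option autoImplicit false

namespace Cfsg.Agent.CoOneType.MonoWord

open Cfsg Cfsg.Agent.SporadicA Cfsg.Agent.SporadicStructure.Co0Matrix Cfsg.Agent.CoOneType.CoEval
  Cfsg.Agent.SporadicA.Co0Mono

/-- The code word with a given mask. -/
def cw (m : ℕ) (hm : GolayBase.isCode m = true) : golayCode :=
  ⟨GolayBase.word m, word_mem_of_isCode hm⟩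

theorem sgn_word (m : ℕ) (p : GolayPt) :
    sgn (GolayBase.word m p) = if m.testBit (GolayBase.idx p) then -1 else 1 := by
  rw [GolayBase.word_apply]
  split_ifs
  · exact sgn_one
  · exact sgn_zero

/-- A word whose value on `beta` is that of a monomial map is this monomial map. -/
theorem mono_eq {e : ℕ → Co0} {M : ℕ → List (List ℤ)} (hM : ∀ i, Rep (e i) (M i)) (w : List ℕ) (m : ℕ)
    (hm : GolayBase.isCode m = true) (σ : M24) (φ : GolayPt → GolayPt)
    (hφ : ∀ p, (σ : Equiv.Perm GolayPt) p = φ p)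
    (h : ∀ p, (fold M w betaL).getD (GolayBase.idx (φ p)) 0 =
      (if m.testBit (GolayBase.idx (φ p)) then -1 else 1) * (8 * 64 ^ GolayBase.idx p)) :
    (w.map e).prod = signCo0 (cw m hm) * permCo0 σ := by
  apply eq_of_fix
  apply Subtype.ext
  funext j
  rw [(fold_spec hM w (l := betaL) (v := beta) (by decide) rfl).2]
  obtain ⟨p, rfl⟩ := (σ : Equiv.Perm GolayPt).surjective j
  have h1 : (((signCo0 (cw m hm) * permCo0 σ).1 beta : leechLattice) : GolayPt → ℤ)
      ((σ : Equiv.Perm GolayPt) p) =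
      sgn (GolayBase.word m ((σ : Equiv.Perm GolayPt) p)) *
        vec betaL ((σ : Equiv.Perm GolayPt).symm ((σ : Equiv.Perm GolayPt) p)) := rfl
  rw [h1, Equiv.symm_apply_apply, sgn_word, vec_betaL, hφ, vec_apply]
  exact h p

end Cfsg.Agent.CoOneType.MonoWord
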