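import Cfsg.Agent.CoOneType.CoEval
import Cfsg.Agent.CoOneType.CoFast
set_option linter.all false

/-!
Explicit matrices (times 8) of elements of `Co0` satisfying the presentation `P957` modulo `-1`: letters `w`, `d`, `e`, `f`, `g`, `h`.
-/

set_option autoImplicit false

namespace Cfsg.Agent.CoOneType.LettersB

open Cfsg Cfsg.Agent.SporadicA Cfsg.Agent.SporadicStructure.Co0Matrix Cfsg.Agent.CoOneType.CoEval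

/-- Rows of `w`. -/
def wR : List (List ℤ) :=
  [[0,0,0,-4,-4,0,0,0,0,0,-4,0,-4,0,0,0,0,0,0,0,0,0,0,0],
  [0,0,0,-4,4,0,0,0,0,0,4,0,-4,0,0,0,0,0,0,0,0,0,0,0],
  [0,0,0,-4,-4,0,0,0,0,0,4,0,4,0,0,0,0,0,0,0,0,0,0,0],
  [4,4,4,0,0,0,0,4,0,0,0,0,0,0,0,0,0,0,0,0,0,0,0,0],
  [4,-4,4,0,0,0,0,-4,0,0,0,0,0,0,0,0,0,0,0,0,0,0,0,0],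
  [0,0,0,0,0,0,0,0,0,0,0,0,0,0,-4,-4,0,0,-4,0,0,0,-4,0],
  [0,0,0,0,0,0,0,0,-4,4,0,0,0,-4,0,0,0,4,0,0,0,0,0,0],
  [0,0,0,-4,4,0,0,0,0,0,-4,0,4,0,0,0,0,0,0,0,0,0,0,0],
  [0,0,0,0,0,0,4,0,0,0,0,0,0,0,0,0,0,0,0,4,0,-4,0,-4],
  [0,0,0,0,0,0,-4,0,0,0,0,0,0,0,0,0,0,0,0,-4,0,-4,0,-4],
  [4,-4,-4,0,0,0,0,4,0,0,0,0,0,0,0,0,0,0,0,0,0,0,0,0],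
  [0,0,0,0,0,0,0,0,0,0,0,0,0,0,-4,-4,0,0,4,0,0,0,4,0],
  [4,4,-4,0,0,0,0,-4,0,0,0,0,0,0,0,0,0,0,0,0,0,0,0,0],
  [0,0,0,0,0,0,4,0,0,0,0,0,0,0,0,0,0,0,0,-4,0,-4,0,4],
  [0,0,0,0,0,4,0,0,0,0,0,4,0,0,0,0,-4,0,0,0,-4,0,0,0],
  [0,0,0,0,0,4,0,0,0,0,0,4,0,0,0,0,4,0,0,0,4,0,0,0],
  [0,0,0,0,0,0,0,0,0,0,0,0,0,0,4,-4,0,0,-4,0,0,0,4,0],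
  [0,0,0,0,0,0,-4,0,0,0,0,0,0,0,0,0,0,0,0,4,0,-4,0,4],
  [0,0,0,0,0,4,0,0,0,0,0,-4,0,0,0,0,4,0,0,0,-4,0,0,0],
  [0,0,0,0,0,0,0,0,-4,4,0,0,0,4,0,0,0,-4,0,0,0,0,0,0],
  [0,0,0,0,0,0,0,0,0,0,0,0,0,0,4,-4,0,0,4,0,0,0,-4,0],
  [0,0,0,0,0,0,0,0,4,4,0,0,0,4,0,0,0,4,0,0,0,0,0,0],
  [0,0,0,0,0,4,0,0,0,0,0,-4,0,0,0,0,-4,0,0,0,4,0,0,0],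
  [0,0,0,0,0,0,0,0,4,4,0,0,0,-4,0,0,0,-4,0,0,0,0,0,0]]

/-- Columns of `w`. -/
def wC : List (List ℤ) :=
  [[0,0,0,4,4,0,0,0,0,0,4,0,4,0,0,0,0,0,0,0,0,0,0,0],
  [0,0,0,4,-4,0,0,0,0,0,-4,0,4,0,0,0,0,0,0,0,0,0,0,0],
  [0,0,0,4,4,0,0,0,0,0,-4,0,-4,0,0,0,0,0,0,0,0,0,0,0],
  [-4,-4,-4,0,0,0,0,-4,0,0,0,0,0,0,0,0,0,0,0,0,0,0,0,0],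
  [-4,4,-4,0,0,0,0,4,0,0,0,0,0,0,0,0,0,0,0,0,0,0,0,0],
  [0,0,0,0,0,0,0,0,0,0,0,0,0,0,4,4,0,0,4,0,0,0,4,0],
  [0,0,0,0,0,0,0,0,4,-4,0,0,0,4,0,0,0,-4,0,0,0,0,0,0],
  [0,0,0,4,-4,0,0,0,0,0,4,0,-4,0,0,0,0,0,0,0,0,0,0,0],
  [0,0,0,0,0,0,-4,0,0,0,0,0,0,0,0,0,0,0,0,-4,0,4,0,4],
  [0,0,0,0,0,0,4,0,0,0,0,0,0,0,0,0,0,0,0,4,0,4,0,4],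
  [-4,4,4,0,0,0,0,-4,0,0,0,0,0,0,0,0,0,0,0,0,0,0,0,0],
  [0,0,0,0,0,0,0,0,0,0,0,0,0,0,4,4,0,0,-4,0,0,0,-4,0],
  [-4,-4,4,0,0,0,0,4,0,0,0,0,0,0,0,0,0,0,0,0,0,0,0,0],
  [0,0,0,0,0,0,-4,0,0,0,0,0,0,0,0,0,0,0,0,4,0,4,0,-4],
  [0,0,0,0,0,-4,0,0,0,0,0,-4,0,0,0,0,4,0,0,0,4,0,0,0],
  [0,0,0,0,0,-4,0,0,0,0,0,-4,0,0,0,0,-4,0,0,0,-4,0,0,0],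
  [0,0,0,0,0,0,0,0,0,0,0,0,0,0,-4,4,0,0,4,0,0,0,-4,0],
  [0,0,0,0,0,0,4,0,0,0,0,0,0,0,0,0,0,0,0,-4,0,4,0,-4],
  [0,0,0,0,0,-4,0,0,0,0,0,4,0,0,0,0,-4,0,0,0,4,0,0,0],
  [0,0,0,0,0,0,0,0,4,-4,0,0,0,-4,0,0,0,4,0,0,0,0,0,0],
  [0,0,0,0,0,0,0,0,0,0,0,0,0,0,-4,4,0,0,-4,0,0,0,4,0],
  [0,0,0,0,0,0,0,0,-4,-4,0,0,0,-4,0,0,0,-4,0,0,0,0,0,0],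
  [0,0,0,0,0,-4,0,0,0,0,0,4,0,0,0,0,4,0,0,0,-4,0,0,0],
  [0,0,0,0,0,0,0,0,-4,-4,0,0,0,4,0,0,0,4,0,0,0,0,0,0]]

theorem ok_w : Ok wR wC := CoFast.ok_of_okZ (by decide +kernel)

/-- Rows of `d`. -/
def dR : List (List ℤ) :=
  [[0,0,0,-4,4,0,0,0,0,0,4,0,4,0,0,0,0,0,0,0,0,0,0,0],
  [0,0,0,4,-4,0,0,0,0,0,4,0,4,0,0,0,0,0,0,0,0,0,0,0],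
  [0,0,0,4,4,0,0,0,0,0,-4,0,4,0,0,0,0,0,0,0,0,0,0,0],
  [4,-4,-4,0,0,0,0,-4,0,0,0,0,0,0,0,0,0,0,0,0,0,0,0,0],
  [-4,4,-4,0,0,0,0,-4,0,0,0,0,0,0,0,0,0,0,0,0,0,0,0,0],
  [0,0,0,0,0,0,0,0,0,0,0,0,0,0,4,-4,0,0,4,0,0,0,4,0],
  [0,0,0,0,0,0,0,0,-4,-4,0,0,0,4,0,0,0,-4,0,0,0,0,0,0],
  [0,0,0,4,4,0,0,0,0,0,4,0,-4,0,0,0,0,0,0,0,0,0,0,0],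
  [0,0,0,0,0,0,4,0,0,0,0,0,0,0,0,0,0,0,0,-4,0,4,0,4],
  [0,0,0,0,0,0,4,0,0,0,0,0,0,0,0,0,0,0,0,4,0,-4,0,4],
  [-4,-4,4,0,0,0,0,-4,0,0,0,0,0,0,0,0,0,0,0,0,0,0,0,0],
  [0,0,0,0,0,0,0,0,0,0,0,0,0,0,4,4,0,0,4,0,0,0,-4,0],
  [-4,-4,-4,0,0,0,0,4,0,0,0,0,0,0,0,0,0,0,0,0,0,0,0,0],
  [0,0,0,0,0,0,-4,0,0,0,0,0,0,0,0,0,0,0,0,4,0,4,0,4],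
  [0,0,0,0,0,-4,0,0,0,0,0,-4,0,0,0,0,4,0,0,0,-4,0,0,0],
  [0,0,0,0,0,4,0,0,0,0,0,-4,0,0,0,0,-4,0,0,0,-4,0,0,0],
  [0,0,0,0,0,0,0,0,0,0,0,0,0,0,-4,4,0,0,4,0,0,0,4,0],
  [0,0,0,0,0,0,4,0,0,0,0,0,0,0,0,0,0,0,0,4,0,4,0,-4],
  [0,0,0,0,0,-4,0,0,0,0,0,-4,0,0,0,0,-4,0,0,0,4,0,0,0],
  [0,0,0,0,0,0,0,0,4,-4,0,0,0,-4,0,0,0,-4,0,0,0,0,0,0],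
  [0,0,0,0,0,0,0,0,0,0,0,0,0,0,4,4,0,0,-4,0,0,0,4,0],
  [0,0,0,0,0,0,0,0,-4,4,0,0,0,-4,0,0,0,-4,0,0,0,0,0,0],
  [0,0,0,0,0,-4,0,0,0,0,0,4,0,0,0,0,-4,0,0,0,-4,0,0,0],
  [0,0,0,0,0,0,0,0,-4,-4,0,0,0,-4,0,0,0,4,0,0,0,0,0,0]]

/-- Columns of `d`. -/
def dC : List (List ℤ) :=
  [[0,0,0,4,-4,0,0,0,0,0,-4,0,-4,0,0,0,0,0,0,0,0,0,0,0],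
  [0,0,0,-4,4,0,0,0,0,0,-4,0,-4,0,0,0,0,0,0,0,0,0,0,0],
  [0,0,0,-4,-4,0,0,0,0,0,4,0,-4,0,0,0,0,0,0,0,0,0,0,0],
  [-4,4,4,0,0,0,0,4,0,0,0,0,0,0,0,0,0,0,0,0,0,0,0,0],
  [4,-4,4,0,0,0,0,4,0,0,0,0,0,0,0,0,0,0,0,0,0,0,0,0],
  [0,0,0,0,0,0,0,0,0,0,0,0,0,0,-4,4,0,0,-4,0,0,0,-4,0],
  [0,0,0,0,0,0,0,0,4,4,0,0,0,-4,0,0,0,4,0,0,0,0,0,0],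
  [0,0,0,-4,-4,0,0,0,0,0,-4,0,4,0,0,0,0,0,0,0,0,0,0,0],
  [0,0,0,0,0,0,-4,0,0,0,0,0,0,0,0,0,0,0,0,4,0,-4,0,-4],
  [0,0,0,0,0,0,-4,0,0,0,0,0,0,0,0,0,0,0,0,-4,0,4,0,-4],
  [4,4,-4,0,0,0,0,4,0,0,0,0,0,0,0,0,0,0,0,0,0,0,0,0],
  [0,0,0,0,0,0,0,0,0,0,0,0,0,0,-4,-4,0,0,-4,0,0,0,4,0],
  [4,4,4,0,0,0,0,-4,0,0,0,0,0,0,0,0,0,0,0,0,0,0,0,0],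
  [0,0,0,0,0,0,4,0,0,0,0,0,0,0,0,0,0,0,0,-4,0,-4,0,-4],
  [0,0,0,0,0,4,0,0,0,0,0,4,0,0,0,0,-4,0,0,0,4,0,0,0],
  [0,0,0,0,0,-4,0,0,0,0,0,4,0,0,0,0,4,0,0,0,4,0,0,0],
  [0,0,0,0,0,0,0,0,0,0,0,0,0,0,4,-4,0,0,-4,0,0,0,-4,0],
  [0,0,0,0,0,0,-4,0,0,0,0,0,0,0,0,0,0,0,0,-4,0,-4,0,4],
  [0,0,0,0,0,4,0,0,0,0,0,4,0,0,0,0,4,0,0,0,-4,0,0,0],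
  [0,0,0,0,0,0,0,0,-4,4,0,0,0,4,0,0,0,4,0,0,0,0,0,0],
  [0,0,0,0,0,0,0,0,0,0,0,0,0,0,-4,-4,0,0,4,0,0,0,-4,0],
  [0,0,0,0,0,0,0,0,4,-4,0,0,0,4,0,0,0,4,0,0,0,0,0,0],
  [0,0,0,0,0,4,0,0,0,0,0,-4,0,0,0,0,4,0,0,0,4,0,0,0],
  [0,0,0,0,0,0,0,0,4,4,0,0,0,4,0,0,0,-4,0,0,0,0,0,0]]

theorem ok_d : Ok dR dC := CoFast.ok_of_okZ (by decide +kernel)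

/-- Rows of `e`. -/
def eR : List (List ℤ) :=
  [[0,0,-4,4,0,0,0,-4,0,0,-4,0,0,0,0,0,0,0,0,0,0,0,0,0],
  [0,0,4,-4,0,0,0,-4,0,0,-4,0,0,0,0,0,0,0,0,0,0,0,0,0],
  [4,-4,0,0,-4,0,0,0,0,0,0,0,-4,0,0,0,0,0,0,0,0,0,0,0],
  [-4,4,0,0,-4,0,0,0,0,0,0,0,-4,0,0,0,0,0,0,0,0,0,0,0],
  [0,0,4,4,0,0,0,4,0,0,-4,0,0,0,0,0,0,0,0,0,0,0,0,0],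
  [0,0,0,0,0,0,0,0,0,0,0,0,0,0,0,4,-4,0,-4,0,-4,0,0,0],
  [0,0,0,0,0,0,0,0,4,0,0,0,0,-4,0,0,0,0,0,4,0,4,0,0],
  [4,4,0,0,-4,0,0,0,0,0,0,0,4,0,0,0,0,0,0,0,0,0,0,0],
  [0,0,0,0,0,0,-4,0,0,4,0,0,0,0,0,0,0,-4,0,0,0,0,0,-4],
  [0,0,0,0,0,0,0,0,-4,0,0,0,0,-4,0,0,0,0,0,-4,0,4,0,0],
  [4,4,0,0,4,0,0,0,0,0,0,0,-4,0,0,0,0,0,0,0,0,0,0,0],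
  [0,0,0,0,0,0,0,0,0,0,0,0,0,0,0,-4,-4,0,-4,0,4,0,0,0],
  [0,0,4,4,0,0,0,-4,0,0,4,0,0,0,0,0,0,0,0,0,0,0,0,0],
  [0,0,0,0,0,0,4,0,0,4,0,0,0,0,0,0,0,4,0,0,0,0,0,-4],
  [0,0,0,0,0,0,0,0,0,0,0,0,0,0,0,4,-4,0,4,0,4,0,0,0],
  [0,0,0,0,0,-4,0,0,0,0,0,4,0,0,-4,0,0,0,0,0,0,0,-4,0],
  [0,0,0,0,0,4,0,0,0,0,0,4,0,0,4,0,0,0,0,0,0,0,-4,0],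
  [0,0,0,0,0,0,0,0,4,0,0,0,0,-4,0,0,0,0,0,-4,0,-4,0,0],
  [0,0,0,0,0,4,0,0,0,0,0,4,0,0,-4,0,0,0,0,0,0,0,4,0],
  [0,0,0,0,0,0,-4,0,0,4,0,0,0,0,0,0,0,4,0,0,0,0,0,4],
  [0,0,0,0,0,4,0,0,0,0,0,-4,0,0,-4,0,0,0,0,0,0,0,-4,0],
  [0,0,0,0,0,0,-4,0,0,-4,0,0,0,0,0,0,0,4,0,0,0,0,0,-4],
  [0,0,0,0,0,0,0,0,0,0,0,0,0,0,0,4,4,0,-4,0,4,0,0,0],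
  [0,0,0,0,0,0,0,0,4,0,0,0,0,4,0,0,0,0,0,-4,0,4,0,0]]

/-- Columns of `e`. -/
def eC : List (List ℤ) :=
  [[0,0,4,-4,0,0,0,4,0,0,4,0,0,0,0,0,0,0,0,0,0,0,0,0],
  [0,0,-4,4,0,0,0,4,0,0,4,0,0,0,0,0,0,0,0,0,0,0,0,0],
  [-4,4,0,0,4,0,0,0,0,0,0,0,4,0,0,0,0,0,0,0,0,0,0,0],
  [4,-4,0,0,4,0,0,0,0,0,0,0,4,0,0,0,0,0,0,0,0,0,0,0],
  [0,0,-4,-4,0,0,0,-4,0,0,4,0,0,0,0,0,0,0,0,0,0,0,0,0],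
  [0,0,0,0,0,0,0,0,0,0,0,0,0,0,0,-4,4,0,4,0,4,0,0,0],
  [0,0,0,0,0,0,0,0,-4,0,0,0,0,4,0,0,0,0,0,-4,0,-4,0,0],
  [-4,-4,0,0,4,0,0,0,0,0,0,0,-4,0,0,0,0,0,0,0,0,0,0,0],
  [0,0,0,0,0,0,4,0,0,-4,0,0,0,0,0,0,0,4,0,0,0,0,0,4],
  [0,0,0,0,0,0,0,0,4,0,0,0,0,4,0,0,0,0,0,4,0,-4,0,0],
  [-4,-4,0,0,-4,0,0,0,0,0,0,0,4,0,0,0,0,0,0,0,0,0,0,0],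
  [0,0,0,0,0,0,0,0,0,0,0,0,0,0,0,4,4,0,4,0,-4,0,0,0],
  [0,0,-4,-4,0,0,0,4,0,0,-4,0,0,0,0,0,0,0,0,0,0,0,0,0],
  [0,0,0,0,0,0,-4,0,0,-4,0,0,0,0,0,0,0,-4,0,0,0,0,0,4],
  [0,0,0,0,0,0,0,0,0,0,0,0,0,0,0,-4,4,0,-4,0,-4,0,0,0],
  [0,0,0,0,0,4,0,0,0,0,0,-4,0,0,4,0,0,0,0,0,0,0,4,0],
  [0,0,0,0,0,-4,0,0,0,0,0,-4,0,0,-4,0,0,0,0,0,0,0,4,0],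
  [0,0,0,0,0,0,0,0,-4,0,0,0,0,4,0,0,0,0,0,4,0,4,0,0],
  [0,0,0,0,0,-4,0,0,0,0,0,-4,0,0,4,0,0,0,0,0,0,0,-4,0],
  [0,0,0,0,0,0,4,0,0,-4,0,0,0,0,0,0,0,-4,0,0,0,0,0,-4],
  [0,0,0,0,0,-4,0,0,0,0,0,4,0,0,4,0,0,0,0,0,0,0,4,0],
  [0,0,0,0,0,0,4,0,0,4,0,0,0,0,0,0,0,-4,0,0,0,0,0,4],
  [0,0,0,0,0,0,0,0,0,0,0,0,0,0,0,-4,-4,0,4,0,-4,0,0,0],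
  [0,0,0,0,0,0,0,0,-4,0,0,0,0,-4,0,0,0,0,0,4,0,-4,0,0]]

theorem ok_e : Ok eR eC := CoFast.ok_of_okZ (by decide +kernel)

/-- Rows of `f`. -/
def fR : List (List ℤ) :=
  [[0,0,4,0,4,0,0,4,0,0,0,0,-4,0,0,0,0,0,0,0,0,0,0,0],
  [0,0,-4,0,4,0,0,4,0,0,0,0,4,0,0,0,0,0,0,0,0,0,0,0],
  [-4,4,0,-4,0,0,0,0,0,0,-4,0,0,0,0,0,0,0,0,0,0,0,0,0],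
  [0,0,4,0,4,0,0,-4,0,0,0,0,4,0,0,0,0,0,0,0,0,0,0,0],
  [-4,-4,0,-4,0,0,0,0,0,0,4,0,0,0,0,0,0,0,0,0,0,0,0,0],
  [0,0,0,0,0,0,0,0,0,0,0,0,0,0,-4,0,4,0,0,0,4,0,4,0],
  [0,0,0,0,0,0,0,0,0,4,0,0,0,0,0,0,0,-4,0,-4,0,-4,0,0],
  [-4,-4,0,4,0,0,0,0,0,0,-4,0,0,0,0,0,0,0,0,0,0,0,0,0],
  [0,0,0,0,0,0,0,0,0,-4,0,0,0,0,0,0,0,4,0,-4,0,-4,0,0],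
  [0,0,0,0,0,0,-4,0,4,0,0,0,0,4,0,0,0,0,0,0,0,0,0,4],
  [0,0,4,0,-4,0,0,4,0,0,0,0,4,0,0,0,0,0,0,0,0,0,0,0],
  [0,0,0,0,0,0,0,0,0,0,0,0,0,0,4,0,4,0,0,0,-4,0,4,0],
  [4,-4,0,-4,0,0,0,0,0,0,-4,0,0,0,0,0,0,0,0,0,0,0,0,0],
  [0,0,0,0,0,0,0,0,0,-4,0,0,0,0,0,0,0,-4,0,-4,0,4,0,0],
  [0,0,0,0,0,4,0,0,0,0,0,-4,0,0,0,-4,0,0,-4,0,0,0,0,0],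
  [0,0,0,0,0,0,0,0,0,0,0,0,0,0,4,0,-4,0,0,0,4,0,4,0],
  [0,0,0,0,0,-4,0,0,0,0,0,-4,0,0,0,4,0,0,-4,0,0,0,0,0],
  [0,0,0,0,0,0,4,0,-4,0,0,0,0,4,0,0,0,0,0,0,0,0,0,4],
  [0,0,0,0,0,0,0,0,0,0,0,0,0,0,4,0,4,0,0,0,4,0,-4,0],
  [0,0,0,0,0,0,4,0,4,0,0,0,0,4,0,0,0,0,0,0,0,0,0,-4],
  [0,0,0,0,0,-4,0,0,0,0,0,4,0,0,0,-4,0,0,-4,0,0,0,0,0],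
  [0,0,0,0,0,0,4,0,4,0,0,0,0,-4,0,0,0,0,0,0,0,0,0,4],
  [0,0,0,0,0,-4,0,0,0,0,0,-4,0,0,0,-4,0,0,4,0,0,0,0,0],
  [0,0,0,0,0,0,0,0,0,-4,0,0,0,0,0,0,0,-4,0,4,0,-4,0,0]]

/-- Columns of `f`. -/
def fC : List (List ℤ) :=
  [[0,0,-4,0,-4,0,0,-4,0,0,0,0,4,0,0,0,0,0,0,0,0,0,0,0],
  [0,0,4,0,-4,0,0,-4,0,0,0,0,-4,0,0,0,0,0,0,0,0,0,0,0],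
  [4,-4,0,4,0,0,0,0,0,0,4,0,0,0,0,0,0,0,0,0,0,0,0,0],
  [0,0,-4,0,-4,0,0,4,0,0,0,0,-4,0,0,0,0,0,0,0,0,0,0,0],
  [4,4,0,4,0,0,0,0,0,0,-4,0,0,0,0,0,0,0,0,0,0,0,0,0],
  [0,0,0,0,0,0,0,0,0,0,0,0,0,0,4,0,-4,0,0,0,-4,0,-4,0],
  [0,0,0,0,0,0,0,0,0,-4,0,0,0,0,0,0,0,4,0,4,0,4,0,0],
  [4,4,0,-4,0,0,0,0,0,0,4,0,0,0,0,0,0,0,0,0,0,0,0,0],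
  [0,0,0,0,0,0,0,0,0,4,0,0,0,0,0,0,0,-4,0,4,0,4,0,0],
  [0,0,0,0,0,0,4,0,-4,0,0,0,0,-4,0,0,0,0,0,0,0,0,0,-4],
  [0,0,-4,0,4,0,0,-4,0,0,0,0,-4,0,0,0,0,0,0,0,0,0,0,0],
  [0,0,0,0,0,0,0,0,0,0,0,0,0,0,-4,0,-4,0,0,0,4,0,-4,0],
  [-4,4,0,4,0,0,0,0,0,0,4,0,0,0,0,0,0,0,0,0,0,0,0,0],
  [0,0,0,0,0,0,0,0,0,4,0,0,0,0,0,0,0,4,0,4,0,-4,0,0],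
  [0,0,0,0,0,-4,0,0,0,0,0,4,0,0,0,4,0,0,4,0,0,0,0,0],
  [0,0,0,0,0,0,0,0,0,0,0,0,0,0,-4,0,4,0,0,0,-4,0,-4,0],
  [0,0,0,0,0,4,0,0,0,0,0,4,0,0,0,-4,0,0,4,0,0,0,0,0],
  [0,0,0,0,0,0,-4,0,4,0,0,0,0,-4,0,0,0,0,0,0,0,0,0,-4],
  [0,0,0,0,0,0,0,0,0,0,0,0,0,0,-4,0,-4,0,0,0,-4,0,4,0],
  [0,0,0,0,0,0,-4,0,-4,0,0,0,0,-4,0,0,0,0,0,0,0,0,0,4],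
  [0,0,0,0,0,4,0,0,0,0,0,-4,0,0,0,4,0,0,4,0,0,0,0,0],
  [0,0,0,0,0,0,-4,0,-4,0,0,0,0,4,0,0,0,0,0,0,0,0,0,-4],
  [0,0,0,0,0,4,0,0,0,0,0,4,0,0,0,4,0,0,-4,0,0,0,0,0],
  [0,0,0,0,0,0,0,0,0,4,0,0,0,0,0,0,0,4,0,-4,0,4,0,0]]

theorem ok_f : Ok fR fC := CoFast.ok_of_okZ (by decide +kernel)

/-- Rows of `g`. -/
def gR : List (List ℤ) :=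
  [[0,0,-4,0,-4,0,0,4,0,0,0,0,4,0,0,0,0,0,0,0,0,0,0,0],
  [0,0,-4,0,-4,0,0,-4,0,0,0,0,-4,0,0,0,0,0,0,0,0,0,0,0],
  [4,4,0,4,0,0,0,0,0,0,4,0,0,0,0,0,0,0,0,0,0,0,0,0],
  [0,0,-4,0,4,0,0,4,0,0,0,0,-4,0,0,0,0,0,0,0,0,0,0,0],
  [4,4,0,-4,0,0,0,0,0,0,-4,0,0,0,0,0,0,0,0,0,0,0,0,0],
  [0,0,0,0,0,0,0,0,0,0,0,0,0,0,4,0,4,0,0,0,-4,0,-4,0],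
  [0,0,0,0,0,0,0,0,0,-4,0,0,0,0,0,0,0,4,0,-4,0,4,0,0],
  [-4,4,0,-4,0,0,0,0,0,0,4,0,0,0,0,0,0,0,0,0,0,0,0,0],
  [0,0,0,0,0,0,0,0,0,4,0,0,0,0,0,0,0,4,0,4,0,4,0,0],
  [0,0,0,0,0,0,4,0,-4,0,0,0,0,4,0,0,0,0,0,0,0,0,0,-4],
  [0,0,-4,0,4,0,0,-4,0,0,0,0,4,0,0,0,0,0,0,0,0,0,0,0],
  [0,0,0,0,0,0,0,0,0,0,0,0,0,0,-4,0,-4,0,0,0,-4,0,-4,0],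
  [-4,4,0,4,0,0,0,0,0,0,-4,0,0,0,0,0,0,0,0,0,0,0,0,0],
  [0,0,0,0,0,0,0,0,0,-4,0,0,0,0,0,0,0,4,0,4,0,-4,0,0],
  [0,0,0,0,0,-4,0,0,0,0,0,4,0,0,0,4,0,0,-4,0,0,0,0,0],
  [0,0,0,0,0,0,0,0,0,0,0,0,0,0,-4,0,4,0,0,0,-4,0,4,0],
  [0,0,0,0,0,-4,0,0,0,0,0,4,0,0,0,-4,0,0,4,0,0,0,0,0],
  [0,0,0,0,0,0,-4,0,-4,0,0,0,0,-4,0,0,0,0,0,0,0,0,0,-4],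
  [0,0,0,0,0,0,0,0,0,0,0,0,0,0,4,0,-4,0,0,0,-4,0,4,0],
  [0,0,0,0,0,0,4,0,-4,0,0,0,0,-4,0,0,0,0,0,0,0,0,0,4],
  [0,0,0,0,0,4,0,0,0,0,0,4,0,0,0,4,0,0,4,0,0,0,0,0],
  [0,0,0,0,0,0,-4,0,-4,0,0,0,0,4,0,0,0,0,0,0,0,0,0,4],
  [0,0,0,0,0,4,0,0,0,0,0,4,0,0,0,-4,0,0,-4,0,0,0,0,0],
  [0,0,0,0,0,0,0,0,0,4,0,0,0,0,0,0,0,4,0,-4,0,-4,0,0]]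

/-- Columns of `g`. -/
def gC : List (List ℤ) :=
  [[0,0,4,0,4,0,0,-4,0,0,0,0,-4,0,0,0,0,0,0,0,0,0,0,0],
  [0,0,4,0,4,0,0,4,0,0,0,0,4,0,0,0,0,0,0,0,0,0,0,0],
  [-4,-4,0,-4,0,0,0,0,0,0,-4,0,0,0,0,0,0,0,0,0,0,0,0,0],
  [0,0,4,0,-4,0,0,-4,0,0,0,0,4,0,0,0,0,0,0,0,0,0,0,0],
  [-4,-4,0,4,0,0,0,0,0,0,4,0,0,0,0,0,0,0,0,0,0,0,0,0],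
  [0,0,0,0,0,0,0,0,0,0,0,0,0,0,-4,0,-4,0,0,0,4,0,4,0],
  [0,0,0,0,0,0,0,0,0,4,0,0,0,0,0,0,0,-4,0,4,0,-4,0,0],
  [4,-4,0,4,0,0,0,0,0,0,-4,0,0,0,0,0,0,0,0,0,0,0,0,0],
  [0,0,0,0,0,0,0,0,0,-4,0,0,0,0,0,0,0,-4,0,-4,0,-4,0,0],
  [0,0,0,0,0,0,-4,0,4,0,0,0,0,-4,0,0,0,0,0,0,0,0,0,4],
  [0,0,4,0,-4,0,0,4,0,0,0,0,-4,0,0,0,0,0,0,0,0,0,0,0],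
  [0,0,0,0,0,0,0,0,0,0,0,0,0,0,4,0,4,0,0,0,4,0,4,0],
  [4,-4,0,-4,0,0,0,0,0,0,4,0,0,0,0,0,0,0,0,0,0,0,0,0],
  [0,0,0,0,0,0,0,0,0,4,0,0,0,0,0,0,0,-4,0,-4,0,4,0,0],
  [0,0,0,0,0,4,0,0,0,0,0,-4,0,0,0,-4,0,0,4,0,0,0,0,0],
  [0,0,0,0,0,0,0,0,0,0,0,0,0,0,4,0,-4,0,0,0,4,0,-4,0],
  [0,0,0,0,0,4,0,0,0,0,0,-4,0,0,0,4,0,0,-4,0,0,0,0,0],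
  [0,0,0,0,0,0,4,0,4,0,0,0,0,4,0,0,0,0,0,0,0,0,0,4],
  [0,0,0,0,0,0,0,0,0,0,0,0,0,0,-4,0,4,0,0,0,4,0,-4,0],
  [0,0,0,0,0,0,-4,0,4,0,0,0,0,4,0,0,0,0,0,0,0,0,0,-4],
  [0,0,0,0,0,-4,0,0,0,0,0,-4,0,0,0,-4,0,0,-4,0,0,0,0,0],
  [0,0,0,0,0,0,4,0,4,0,0,0,0,-4,0,0,0,0,0,0,0,0,0,-4],
  [0,0,0,0,0,-4,0,0,0,0,0,-4,0,0,0,4,0,0,4,0,0,0,0,0],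
  [0,0,0,0,0,0,0,0,0,-4,0,0,0,0,0,0,0,-4,0,4,0,4,0,0]]

theorem ok_g : Ok gR gC := CoFast.ok_of_okZ (by decide +kernel)

/-- Rows of `h`. -/
def hR : List (List ℤ) :=
  [[0,0,-4,0,-4,0,0,4,0,0,0,0,4,0,0,0,0,0,0,0,0,0,0,0],
  [0,0,-4,0,-4,0,0,-4,0,0,0,0,-4,0,0,0,0,0,0,0,0,0,0,0],
  [4,4,0,4,0,0,0,0,0,0,4,0,0,0,0,0,0,0,0,0,0,0,0,0],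
  [0,0,-4,0,4,0,0,4,0,0,0,0,-4,0,0,0,0,0,0,0,0,0,0,0],
  [4,4,0,-4,0,0,0,0,0,0,-4,0,0,0,0,0,0,0,0,0,0,0,0,0],
  [0,0,0,0,0,0,0,0,0,0,0,0,0,0,4,0,-4,0,0,0,4,0,-4,0],
  [0,0,0,0,0,0,0,0,0,-4,0,0,0,0,0,0,0,4,0,4,0,-4,0,0],
  [-4,4,0,-4,0,0,0,0,0,0,4,0,0,0,0,0,0,0,0,0,0,0,0,0],
  [0,0,0,0,0,0,0,0,0,-4,0,0,0,0,0,0,0,-4,0,4,0,4,0,0],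
  [0,0,0,0,0,0,4,0,4,0,0,0,0,-4,0,0,0,0,0,0,0,0,0,-4],
  [0,0,-4,0,4,0,0,-4,0,0,0,0,4,0,0,0,0,0,0,0,0,0,0,0],
  [0,0,0,0,0,0,0,0,0,0,0,0,0,0,-4,0,4,0,0,0,4,0,-4,0],
  [-4,4,0,4,0,0,0,0,0,0,-4,0,0,0,0,0,0,0,0,0,0,0,0,0],
  [0,0,0,0,0,0,0,0,0,4,0,0,0,0,0,0,0,-4,0,4,0,-4,0,0],
  [0,0,0,0,0,-4,0,0,0,0,0,4,0,0,0,-4,0,0,4,0,0,0,0,0],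
  [0,0,0,0,0,0,0,0,0,0,0,0,0,0,4,0,4,0,0,0,-4,0,-4,0],
  [0,0,0,0,0,4,0,0,0,0,0,-4,0,0,0,-4,0,0,4,0,0,0,0,0],
  [0,0,0,0,0,0,-4,0,4,0,0,0,0,4,0,0,0,0,0,0,0,0,0,-4],
  [0,0,0,0,0,0,0,0,0,0,0,0,0,0,-4,0,-4,0,0,0,-4,0,-4,0],
  [0,0,0,0,0,0,-4,0,-4,0,0,0,0,-4,0,0,0,0,0,0,0,0,0,-4],
  [0,0,0,0,0,-4,0,0,0,0,0,-4,0,0,0,4,0,0,4,0,0,0,0,0],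
  [0,0,0,0,0,0,4,0,-4,0,0,0,0,4,0,0,0,0,0,0,0,0,0,-4],
  [0,0,0,0,0,4,0,0,0,0,0,4,0,0,0,4,0,0,4,0,0,0,0,0],
  [0,0,0,0,0,0,0,0,0,4,0,0,0,0,0,0,0,4,0,4,0,4,0,0]]

/-- Columns of `h`. -/
def hC : List (List ℤ) :=
  [[0,0,4,0,4,0,0,-4,0,0,0,0,-4,0,0,0,0,0,0,0,0,0,0,0],
  [0,0,4,0,4,0,0,4,0,0,0,0,4,0,0,0,0,0,0,0,0,0,0,0],
  [-4,-4,0,-4,0,0,0,0,0,0,-4,0,0,0,0,0,0,0,0,0,0,0,0,0],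
  [0,0,4,0,-4,0,0,-4,0,0,0,0,4,0,0,0,0,0,0,0,0,0,0,0],
  [-4,-4,0,4,0,0,0,0,0,0,4,0,0,0,0,0,0,0,0,0,0,0,0,0],
  [0,0,0,0,0,0,0,0,0,0,0,0,0,0,-4,0,4,0,0,0,-4,0,4,0],
  [0,0,0,0,0,0,0,0,0,4,0,0,0,0,0,0,0,-4,0,-4,0,4,0,0],
  [4,-4,0,4,0,0,0,0,0,0,-4,0,0,0,0,0,0,0,0,0,0,0,0,0],
  [0,0,0,0,0,0,0,0,0,4,0,0,0,0,0,0,0,4,0,-4,0,-4,0,0],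
  [0,0,0,0,0,0,-4,0,-4,0,0,0,0,4,0,0,0,0,0,0,0,0,0,4],
  [0,0,4,0,-4,0,0,4,0,0,0,0,-4,0,0,0,0,0,0,0,0,0,0,0],
  [0,0,0,0,0,0,0,0,0,0,0,0,0,0,4,0,-4,0,0,0,-4,0,4,0],
  [4,-4,0,-4,0,0,0,0,0,0,4,0,0,0,0,0,0,0,0,0,0,0,0,0],
  [0,0,0,0,0,0,0,0,0,-4,0,0,0,0,0,0,0,4,0,-4,0,4,0,0],
  [0,0,0,0,0,4,0,0,0,0,0,-4,0,0,0,4,0,0,-4,0,0,0,0,0],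
  [0,0,0,0,0,0,0,0,0,0,0,0,0,0,-4,0,-4,0,0,0,4,0,4,0],
  [0,0,0,0,0,-4,0,0,0,0,0,4,0,0,0,4,0,0,-4,0,0,0,0,0],
  [0,0,0,0,0,0,4,0,-4,0,0,0,0,-4,0,0,0,0,0,0,0,0,0,4],
  [0,0,0,0,0,0,0,0,0,0,0,0,0,0,4,0,4,0,0,0,4,0,4,0],
  [0,0,0,0,0,0,4,0,4,0,0,0,0,4,0,0,0,0,0,0,0,0,0,4],
  [0,0,0,0,0,4,0,0,0,0,0,4,0,0,0,-4,0,0,-4,0,0,0,0,0],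
  [0,0,0,0,0,0,-4,0,4,0,0,0,0,-4,0,0,0,0,0,0,0,0,0,4],
  [0,0,0,0,0,-4,0,0,0,0,0,-4,0,0,0,-4,0,0,-4,0,0,0,0,0],
  [0,0,0,0,0,0,0,0,0,-4,0,0,0,0,0,0,0,-4,0,-4,0,-4,0,0]]

theorem ok_h : Ok hR hC := CoFast.ok_of_okZ (by decide +kernel)

end Cfsg.Agent.CoOneType.LettersB
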