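import Cfsg.Agent.CoOneType.CoEval
import Cfsg.Agent.CoOneType.CoFast
import Cfsg.Agent.CoOneType.LettersB
import Cfsg.Agent.CoOneType.Pres
set_option linter.all false

-- part: CoOneType/LettersA
section
/-!
Explicit matrices (times 8) of elements of `Co0` satisfying the presentation `P957` modulo `-1`: letters `s`, `t`, `x`, `y`.
-/

set_option autoImplicit false

namespace Cfsg.Agent.CoOneType.LettersA

open Cfsg Cfsg.Agent.SporadicA Cfsg.Agent.SporadicStructure.Co0Matrix Cfsg.Agent.CoOneType.CoEval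

/-- Rows of `s`. -/
def sR : List (List ℤ) :=
  [[-8,0,0,0,0,0,0,0,0,0,0,0,0,0,0,0,0,0,0,0,0,0,0,0],
  [0,-8,0,0,0,0,0,0,0,0,0,0,0,0,0,0,0,0,0,0,0,0,0,0],
  [0,0,-8,0,0,0,0,0,0,0,0,0,0,0,0,0,0,0,0,0,0,0,0,0],
  [0,0,0,-8,0,0,0,0,0,0,0,0,0,0,0,0,0,0,0,0,0,0,0,0],
  [0,0,0,0,-8,0,0,0,0,0,0,0,0,0,0,0,0,0,0,0,0,0,0,0],
  [0,0,0,0,0,-8,0,0,0,0,0,0,0,0,0,0,0,0,0,0,0,0,0,0],
  [0,0,0,0,0,0,8,0,0,0,0,0,0,0,0,0,0,0,0,0,0,0,0,0],
  [0,0,0,0,0,0,0,-8,0,0,0,0,0,0,0,0,0,0,0,0,0,0,0,0],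
  [0,0,0,0,0,0,0,0,8,0,0,0,0,0,0,0,0,0,0,0,0,0,0,0],
  [0,0,0,0,0,0,0,0,0,8,0,0,0,0,0,0,0,0,0,0,0,0,0,0],
  [0,0,0,0,0,0,0,0,0,0,-8,0,0,0,0,0,0,0,0,0,0,0,0,0],
  [0,0,0,0,0,0,0,0,0,0,0,-8,0,0,0,0,0,0,0,0,0,0,0,0],
  [0,0,0,0,0,0,0,0,0,0,0,0,-8,0,0,0,0,0,0,0,0,0,0,0],
  [0,0,0,0,0,0,0,0,0,0,0,0,0,8,0,0,0,0,0,0,0,0,0,0],
  [0,0,0,0,0,0,0,0,0,0,0,0,0,0,-8,0,0,0,0,0,0,0,0,0],
  [0,0,0,0,0,0,0,0,0,0,0,0,0,0,0,-8,0,0,0,0,0,0,0,0],
  [0,0,0,0,0,0,0,0,0,0,0,0,0,0,0,0,-8,0,0,0,0,0,0,0],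
  [0,0,0,0,0,0,0,0,0,0,0,0,0,0,0,0,0,8,0,0,0,0,0,0],
  [0,0,0,0,0,0,0,0,0,0,0,0,0,0,0,0,0,0,-8,0,0,0,0,0],
  [0,0,0,0,0,0,0,0,0,0,0,0,0,0,0,0,0,0,0,8,0,0,0,0],
  [0,0,0,0,0,0,0,0,0,0,0,0,0,0,0,0,0,0,0,0,-8,0,0,0],
  [0,0,0,0,0,0,0,0,0,0,0,0,0,0,0,0,0,0,0,0,0,8,0,0],
  [0,0,0,0,0,0,0,0,0,0,0,0,0,0,0,0,0,0,0,0,0,0,-8,0],
  [0,0,0,0,0,0,0,0,0,0,0,0,0,0,0,0,0,0,0,0,0,0,0,8]]

/-- Columns of `s`. -/
def sC : List (List ℤ) := sR

theorem ok_s : Ok sR sC := CoFast.ok_of_okZ (by decide +kernel)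

/-- Rows of `t`. -/
def tR : List (List ℤ) :=
  [[-8,0,0,0,0,0,0,0,0,0,0,0,0,0,0,0,0,0,0,0,0,0,0,0],
  [0,-8,0,0,0,0,0,0,0,0,0,0,0,0,0,0,0,0,0,0,0,0,0,0],
  [0,0,-8,0,0,0,0,0,0,0,0,0,0,0,0,0,0,0,0,0,0,0,0,0],
  [0,0,0,-8,0,0,0,0,0,0,0,0,0,0,0,0,0,0,0,0,0,0,0,0],
  [0,0,0,0,-8,0,0,0,0,0,0,0,0,0,0,0,0,0,0,0,0,0,0,0],
  [0,0,0,0,0,0,0,0,0,8,0,0,0,0,0,0,0,0,0,0,0,0,0,0],
  [0,0,0,0,0,0,0,0,0,0,0,0,0,0,8,0,0,0,0,0,0,0,0,0],
  [0,0,0,0,0,0,0,-8,0,0,0,0,0,0,0,0,0,0,0,0,0,0,0,0],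
  [0,0,0,0,0,0,0,0,0,0,0,0,0,0,0,0,0,0,0,0,8,0,0,0],
  [0,0,0,0,0,8,0,0,0,0,0,0,0,0,0,0,0,0,0,0,0,0,0,0],
  [0,0,0,0,0,0,0,0,0,0,-8,0,0,0,0,0,0,0,0,0,0,0,0,0],
  [0,0,0,0,0,0,0,0,0,0,0,0,0,0,0,0,0,8,0,0,0,0,0,0],
  [0,0,0,0,0,0,0,0,0,0,0,0,-8,0,0,0,0,0,0,0,0,0,0,0],
  [0,0,0,0,0,0,0,0,0,0,0,0,0,0,0,0,8,0,0,0,0,0,0,0],
  [0,0,0,0,0,0,8,0,0,0,0,0,0,0,0,0,0,0,0,0,0,0,0,0],
  [0,0,0,0,0,0,0,0,0,0,0,0,0,0,0,0,0,0,0,0,0,8,0,0],
  [0,0,0,0,0,0,0,0,0,0,0,0,0,8,0,0,0,0,0,0,0,0,0,0],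
  [0,0,0,0,0,0,0,0,0,0,0,8,0,0,0,0,0,0,0,0,0,0,0,0],
  [0,0,0,0,0,0,0,0,0,0,0,0,0,0,0,0,0,0,0,8,0,0,0,0],
  [0,0,0,0,0,0,0,0,0,0,0,0,0,0,0,0,0,0,8,0,0,0,0,0],
  [0,0,0,0,0,0,0,0,8,0,0,0,0,0,0,0,0,0,0,0,0,0,0,0],
  [0,0,0,0,0,0,0,0,0,0,0,0,0,0,0,8,0,0,0,0,0,0,0,0],
  [0,0,0,0,0,0,0,0,0,0,0,0,0,0,0,0,0,0,0,0,0,0,0,8],
  [0,0,0,0,0,0,0,0,0,0,0,0,0,0,0,0,0,0,0,0,0,0,8,0]]

/-- Columns of `t`. -/
def tC : List (List ℤ) := tR

theorem ok_t : Ok tR tC := CoFast.ok_of_okZ (by decide +kernel)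

/-- Rows of `x`. -/
def xR : List (List ℤ) :=
  [[0,0,0,0,0,0,0,0,0,8,0,0,0,0,0,0,0,0,0,0,0,0,0,0],
  [0,0,0,0,0,0,0,0,0,0,0,0,0,0,0,0,0,8,0,0,0,0,0,0],
  [0,0,0,0,0,0,0,0,8,0,0,0,0,0,0,0,0,0,0,0,0,0,0,0],
  [0,0,0,0,0,0,0,0,0,0,0,0,0,0,0,0,0,0,0,0,0,8,0,0],
  [0,0,0,0,0,0,0,0,0,0,0,0,0,0,0,0,0,0,0,0,0,0,0,8],
  [8,0,0,0,0,0,0,0,0,0,0,0,0,0,0,0,0,0,0,0,0,0,0,0],
  [0,0,0,0,0,0,0,0,0,0,0,0,0,0,8,0,0,0,0,0,0,0,0,0],
  [0,0,0,0,0,0,0,0,0,0,0,0,0,8,0,0,0,0,0,0,0,0,0,0],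
  [0,0,0,0,0,0,0,0,0,0,0,0,0,0,0,0,0,0,0,0,8,0,0,0],
  [0,0,0,0,0,8,0,0,0,0,0,0,0,0,0,0,0,0,0,0,0,0,0,0],
  [0,0,0,0,0,0,0,0,0,0,0,0,0,0,0,0,0,0,0,8,0,0,0,0],
  [0,8,0,0,0,0,0,0,0,0,0,0,0,0,0,0,0,0,0,0,0,0,0,0],
  [0,0,0,0,0,0,8,0,0,0,0,0,0,0,0,0,0,0,0,0,0,0,0,0],
  [0,0,0,0,0,0,0,0,0,0,0,0,0,0,0,0,8,0,0,0,0,0,0,0],
  [0,0,0,0,0,0,0,0,0,0,0,0,8,0,0,0,0,0,0,0,0,0,0,0],
  [0,0,0,8,0,0,0,0,0,0,0,0,0,0,0,0,0,0,0,0,0,0,0,0],
  [0,0,0,0,0,0,0,8,0,0,0,0,0,0,0,0,0,0,0,0,0,0,0,0],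
  [0,0,0,0,0,0,0,0,0,0,0,8,0,0,0,0,0,0,0,0,0,0,0,0],
  [0,0,0,0,0,0,0,0,0,0,8,0,0,0,0,0,0,0,0,0,0,0,0,0],
  [0,0,0,0,0,0,0,0,0,0,0,0,0,0,0,0,0,0,8,0,0,0,0,0],
  [0,0,8,0,0,0,0,0,0,0,0,0,0,0,0,0,0,0,0,0,0,0,0,0],
  [0,0,0,0,0,0,0,0,0,0,0,0,0,0,0,8,0,0,0,0,0,0,0,0],
  [0,0,0,0,8,0,0,0,0,0,0,0,0,0,0,0,0,0,0,0,0,0,0,0],
  [0,0,0,0,0,0,0,0,0,0,0,0,0,0,0,0,0,0,0,0,0,0,8,0]]

/-- Columns of `x`. -/
def xC : List (List ℤ) :=
  [[0,0,0,0,0,8,0,0,0,0,0,0,0,0,0,0,0,0,0,0,0,0,0,0],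
  [0,0,0,0,0,0,0,0,0,0,0,8,0,0,0,0,0,0,0,0,0,0,0,0],
  [0,0,0,0,0,0,0,0,0,0,0,0,0,0,0,0,0,0,0,0,8,0,0,0],
  [0,0,0,0,0,0,0,0,0,0,0,0,0,0,0,8,0,0,0,0,0,0,0,0],
  [0,0,0,0,0,0,0,0,0,0,0,0,0,0,0,0,0,0,0,0,0,0,8,0],
  [0,0,0,0,0,0,0,0,0,8,0,0,0,0,0,0,0,0,0,0,0,0,0,0],
  [0,0,0,0,0,0,0,0,0,0,0,0,8,0,0,0,0,0,0,0,0,0,0,0],
  [0,0,0,0,0,0,0,0,0,0,0,0,0,0,0,0,8,0,0,0,0,0,0,0],
  [0,0,8,0,0,0,0,0,0,0,0,0,0,0,0,0,0,0,0,0,0,0,0,0],
  [8,0,0,0,0,0,0,0,0,0,0,0,0,0,0,0,0,0,0,0,0,0,0,0],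
  [0,0,0,0,0,0,0,0,0,0,0,0,0,0,0,0,0,0,8,0,0,0,0,0],
  [0,0,0,0,0,0,0,0,0,0,0,0,0,0,0,0,0,8,0,0,0,0,0,0],
  [0,0,0,0,0,0,0,0,0,0,0,0,0,0,8,0,0,0,0,0,0,0,0,0],
  [0,0,0,0,0,0,0,8,0,0,0,0,0,0,0,0,0,0,0,0,0,0,0,0],
  [0,0,0,0,0,0,8,0,0,0,0,0,0,0,0,0,0,0,0,0,0,0,0,0],
  [0,0,0,0,0,0,0,0,0,0,0,0,0,0,0,0,0,0,0,0,0,8,0,0],
  [0,0,0,0,0,0,0,0,0,0,0,0,0,8,0,0,0,0,0,0,0,0,0,0],
  [0,8,0,0,0,0,0,0,0,0,0,0,0,0,0,0,0,0,0,0,0,0,0,0],
  [0,0,0,0,0,0,0,0,0,0,0,0,0,0,0,0,0,0,0,8,0,0,0,0],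
  [0,0,0,0,0,0,0,0,0,0,8,0,0,0,0,0,0,0,0,0,0,0,0,0],
  [0,0,0,0,0,0,0,0,8,0,0,0,0,0,0,0,0,0,0,0,0,0,0,0],
  [0,0,0,8,0,0,0,0,0,0,0,0,0,0,0,0,0,0,0,0,0,0,0,0],
  [0,0,0,0,0,0,0,0,0,0,0,0,0,0,0,0,0,0,0,0,0,0,0,8],
  [0,0,0,0,8,0,0,0,0,0,0,0,0,0,0,0,0,0,0,0,0,0,0,0]]

theorem ok_x : Ok xR xC := CoFast.ok_of_okZ (by decide +kernel)

/-- Rows of `y`. -/
def yR : List (List ℤ) :=
  [[0,0,0,0,0,2,-2,0,2,2,0,2,0,2,-2,2,2,2,-2,-2,2,2,-2,-2],
  [0,0,0,0,0,-2,2,0,-2,-2,0,2,0,2,2,2,2,2,2,2,-2,2,-2,-2],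
  [0,0,0,0,0,-2,-2,0,2,-2,0,2,0,-2,-2,2,-2,2,2,2,2,2,2,2],
  [0,0,0,0,0,-2,-2,0,-2,-2,0,-2,0,-2,-2,2,-2,-2,-2,-2,-2,2,-2,-2],
  [0,0,0,0,0,2,2,0,-2,2,0,2,0,-2,2,2,-2,2,-2,-2,-2,2,2,2],
  [-2,2,2,2,-2,-4,0,2,0,4,-2,0,-2,0,0,0,0,0,0,0,0,0,0,0],
  [-2,2,-2,-2,2,0,4,2,0,0,-2,0,2,0,-4,0,0,0,0,0,0,0,0,0],
  [0,0,0,0,0,-2,2,0,2,-2,0,-2,0,2,2,2,2,-2,-2,-2,2,2,2,2],
  [2,-2,2,-2,-2,0,0,2,4,0,-2,0,2,0,0,0,0,0,0,0,-4,0,0,0],
  [2,-2,-2,-2,2,-4,0,-2,0,4,2,0,2,0,0,0,0,0,0,0,0,0,0,0],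
  [0,0,0,0,0,2,-2,0,-2,2,0,-2,0,2,-2,2,2,-2,2,2,-2,2,2,2],
  [-2,-2,-2,2,-2,0,0,2,0,0,2,-4,2,0,0,0,0,4,0,0,0,0,0,0],
  [0,0,0,0,0,2,2,0,2,2,0,-2,0,-2,2,2,-2,-2,2,2,2,2,-2,-2],
  [2,2,-2,-2,-2,0,0,2,0,0,2,0,-2,4,0,0,-4,0,0,0,0,0,0,0],
  [2,-2,2,2,-2,0,4,-2,0,0,2,0,-2,0,-4,0,0,0,0,0,0,0,0,0],
  [-2,-2,-2,-2,-2,0,0,-2,0,0,-2,0,-2,0,0,-4,0,0,0,0,0,4,0,0],
  [-2,-2,2,2,2,0,0,-2,0,0,-2,0,2,4,0,0,-4,0,0,0,0,0,0,0],
  [2,2,2,-2,2,0,0,-2,0,0,-2,-4,-2,0,0,0,0,4,0,0,0,0,0,0],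
  [2,-2,-2,2,2,0,0,2,0,0,-2,0,-2,0,0,0,0,0,-4,4,0,0,0,0],
  [-2,2,2,-2,-2,0,0,-2,0,0,2,0,2,0,0,0,0,0,-4,4,0,0,0,0],
  [-2,2,-2,2,2,0,0,-2,4,0,2,0,-2,0,0,0,0,0,0,0,-4,0,0,0],
  [2,2,2,2,2,0,0,2,0,0,2,0,2,0,0,-4,0,0,0,0,0,4,0,0],
  [2,2,-2,2,-2,0,0,-2,0,0,-2,0,2,0,0,0,0,0,0,0,0,0,-4,4],
  [-2,-2,2,-2,2,0,0,2,0,0,2,0,-2,0,0,0,0,0,0,0,0,0,-4,4]]

/-- Columns of `y`. -/
def yC : List (List ℤ) :=
  [[0,0,0,0,0,-2,-2,0,2,2,0,-2,0,2,2,-2,-2,2,2,-2,-2,2,2,-2],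
  [0,0,0,0,0,2,2,0,-2,-2,0,-2,0,2,-2,-2,-2,2,-2,2,2,2,2,-2],
  [0,0,0,0,0,2,-2,0,2,-2,0,-2,0,-2,2,-2,2,2,-2,2,-2,2,-2,2],
  [0,0,0,0,0,2,-2,0,-2,-2,0,2,0,-2,2,-2,2,-2,2,-2,2,2,2,-2],
  [0,0,0,0,0,-2,2,0,-2,2,0,-2,0,-2,-2,-2,2,2,2,-2,2,2,-2,2],
  [2,-2,-2,-2,2,-4,0,-2,0,-4,2,0,2,0,0,0,0,0,0,0,0,0,0,0],
  [-2,2,-2,-2,2,0,4,2,0,0,-2,0,2,0,4,0,0,0,0,0,0,0,0,0],
  [0,0,0,0,0,2,2,0,2,-2,0,2,0,2,-2,-2,-2,-2,2,-2,-2,2,-2,2],
  [2,-2,2,-2,-2,0,0,2,4,0,-2,0,2,0,0,0,0,0,0,0,4,0,0,0],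
  [2,-2,-2,-2,2,4,0,-2,0,4,2,0,2,0,0,0,0,0,0,0,0,0,0,0],
  [0,0,0,0,0,-2,-2,0,-2,2,0,2,0,2,2,-2,-2,-2,-2,2,2,2,-2,2],
  [2,2,2,-2,2,0,0,-2,0,0,-2,-4,-2,0,0,0,0,-4,0,0,0,0,0,0],
  [0,0,0,0,0,-2,2,0,2,2,0,2,0,-2,-2,-2,2,-2,-2,2,-2,2,2,-2],
  [2,2,-2,-2,-2,0,0,2,0,0,2,0,-2,4,0,0,4,0,0,0,0,0,0,0],
  [-2,2,-2,-2,2,0,-4,2,0,0,-2,0,2,0,-4,0,0,0,0,0,0,0,0,0],
  [2,2,2,2,2,0,0,2,0,0,2,0,2,0,0,-4,0,0,0,0,0,-4,0,0],
  [2,2,-2,-2,-2,0,0,2,0,0,2,0,-2,-4,0,0,-4,0,0,0,0,0,0,0],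
  [2,2,2,-2,2,0,0,-2,0,0,-2,4,-2,0,0,0,0,4,0,0,0,0,0,0],
  [-2,2,2,-2,-2,0,0,-2,0,0,2,0,2,0,0,0,0,0,-4,-4,0,0,0,0],
  [-2,2,2,-2,-2,0,0,-2,0,0,2,0,2,0,0,0,0,0,4,4,0,0,0,0],
  [2,-2,2,-2,-2,0,0,2,-4,0,-2,0,2,0,0,0,0,0,0,0,-4,0,0,0],
  [2,2,2,2,2,0,0,2,0,0,2,0,2,0,0,4,0,0,0,0,0,4,0,0],
  [-2,-2,2,-2,2,0,0,2,0,0,2,0,-2,0,0,0,0,0,0,0,0,0,-4,-4],
  [-2,-2,2,-2,2,0,0,2,0,0,2,0,-2,0,0,0,0,0,0,0,0,0,4,4]]

theorem ok_y : Ok yR yC := CoFast.ok_of_okZ (by decide +kernel)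

end Cfsg.Agent.CoOneType.LettersA
end

-- part: CoOneType/Model
section
/-!
The group `Cfsg.Spor.Co1` contains elements satisfying the presentation `P957`.
-/

set_option autoImplicit false

namespace Cfsg.Agent.CoOneType.Model

open Cfsg Cfsg.Agent.SporadicA Cfsg.Agent.SporadicStructure.Co0Matrix Cfsg.Agent.CoOneType.CoEval
  Cfsg.Agent.CoOneType.LettersA Cfsg.Agent.CoOneType.LettersB

/-- The matrices of the letters `s t x x⁻¹ y y⁻¹ w d e f g h`. -/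
def M : ℕ → List (List ℤ)
  | 0 => sR
  | 1 => tR
  | 2 => xR
  | 3 => xC
  | 4 => yR
  | 5 => yC
  | 6 => wR
  | 7 => dR
  | 8 => eR
  | 9 => fR
  | 10 => gR
  | _ => hR

/-- The letters in `Co0`. -/
def e : ℕ → Co0
  | 0 => mk ok_s
  | 1 => mk ok_t
  | 2 => mk ok_x
  | 3 => (mk ok_x)⁻¹
  | 4 => mk ok_y
  | 5 => (mk ok_y)⁻¹
  | 6 => mk ok_w
  | 7 => mk ok_d
  | 8 => mk ok_e
  | 9 => mk ok_f
  | 10 => mk ok_g
  | _ => mk ok_h

theorem hM : ∀ i, Rep (e i) (M i)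
  | 0 => rep_mk ok_s
  | 1 => rep_mk ok_t
  | 2 => rep_mk ok_x
  | 3 => rep_inv ok_x
  | 4 => rep_mk ok_y
  | 5 => rep_inv ok_y
  | 6 => rep_mk ok_w
  | 7 => rep_mk ok_d
  | 8 => rep_mk ok_e
  | 9 => rep_mk ok_f
  | 10 => rep_mk ok_g
  | _ + 11 => rep_mk ok_h

/-- The letters in `Co1`. -/
def s : Spor.Co1 := pr (e 0)
/-- The letters in `Co1`. -/
def t : Spor.Co1 := pr (e 1)
/-- The letters in `Co1`. -/
def x : Spor.Co1 := pr (e 2)
/-- The letters in `Co1`. -/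
def y : Spor.Co1 := pr (e 4)
/-- The letters in `Co1`. -/
def w : Spor.Co1 := pr (e 6)
/-- The letters in `Co1`. -/
def d : Spor.Co1 := pr (e 7)
/-- The letters in `Co1`. -/
def e' : Spor.Co1 := pr (e 8)
/-- The letters in `Co1`. -/
def f : Spor.Co1 := pr (e 9)
/-- The letters in `Co1`. -/
def g : Spor.Co1 := pr (e 10)
/-- The letters in `Co1`. -/
def h : Spor.Co1 := pr (e 11)

theorem pr_inv (a : Co0) : pr a⁻¹ = (pr a)⁻¹ := map_inv (QuotientGroup.mk' (Subgroup.center Co0)) a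

/-- Value of a word. -/
abbrev val (w : List ℕ) : Spor.Co1 := (w.map fun i => pr (e i)).prod

theorem rel {u v : List ℕ} (h : sameB M u v = true) : val u = val v := eq_of_sameB hM h

theorem v_s2 : s * s = 1 := by
  have h := rel (u := [0, 0]) (v := []) (by decide +kernel)
  simpa [val, e, mul_assoc, s, t, x, y, w, d, e', f, g, Model.h, pr_inv] using h

theorem v_t2 : t * t = 1 := by
  have h := rel (u := [1, 1]) (v := []) (by decide +kernel)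
  simpa [val, e, mul_assoc, s, t, x, y, w, d, e', f, g, Model.h, pr_inv] using h

theorem v_st4 : s * t * s * t * s * t * s * t = 1 := by
  have h := rel (u := [0, 1, 0, 1, 0, 1, 0, 1]) (v := []) (by decide +kernel)
  simpa [val, e, mul_assoc, s, t, x, y, w, d, e', f, g, Model.h, pr_inv] using h

theorem v_x3 : x * x * x = 1 := by
  have h := rel (u := [2, 2, 2]) (v := []) (by decide +kernel)
  simpa [val, e, mul_assoc, s, t, x, y, w, d, e', f, g, Model.h, pr_inv] using h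

theorem v_y3 : y * y * y = 1 := by
  have h := rel (u := [4, 4, 4]) (v := []) (by decide +kernel)
  simpa [val, e, mul_assoc, s, t, x, y, w, d, e', f, g, Model.h, pr_inv] using h

theorem v_zx : x⁻¹ * s * t * s * t * x = s := by
  have h := rel (u := [3, 0, 1, 0, 1, 2]) (v := [0]) (by decide +kernel)
  simpa [val, e, mul_assoc, s, t, x, y, w, d, e', f, g, Model.h, pr_inv] using h

theorem v_sx : x⁻¹ * s * x = s * t * s * t * s := by
  have h := rel (u := [3, 0, 2]) (v := [0, 1, 0, 1, 0]) (by decide +kernel)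
  simpa [val, e, mul_assoc, s, t, x, y, w, d, e', f, g, Model.h, pr_inv] using h

theorem v_zy : y⁻¹ * s * t * s * t * y = t := by
  have h := rel (u := [5, 0, 1, 0, 1, 4]) (v := [1]) (by decide +kernel)
  simpa [val, e, mul_assoc, s, t, x, y, w, d, e', f, g, Model.h, pr_inv] using h

theorem v_ty : y⁻¹ * t * y = s * t * s * t * t := by
  have h := rel (u := [5, 1, 4]) (v := [0, 1, 0, 1, 1]) (by decide +kernel)
  simpa [val, e, mul_assoc, s, t, x, y, w, d, e', f, g, Model.h, pr_inv] using h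

theorem v_xi : s * t * s * t * t * x * s * t * s * t * t = x⁻¹ := by
  have h := rel (u := [0, 1, 0, 1, 1, 2, 0, 1, 0, 1, 1]) (v := [3]) (by decide +kernel)
  simpa [val, e, mul_assoc, s, t, x, y, w, d, e', f, g, Model.h, pr_inv] using h

theorem v_yi : s * t * s * t * s * y * s * t * s * t * s = y⁻¹ := by
  have h := rel (u := [0, 1, 0, 1, 0, 4, 0, 1, 0, 1, 0]) (v := [5]) (by decide +kernel)
  simpa [val, e, mul_assoc, s, t, x, y, w, d, e', f, g, Model.h, pr_inv] using h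

theorem v_xY : x * y⁻¹ * x * y⁻¹ * x * y⁻¹ * x * y⁻¹ * x * y⁻¹ * x * y⁻¹ * x * y⁻¹ = 1 := by
  have h := rel (u := [2, 5, 2, 5, 2, 5, 2, 5, 2, 5, 2, 5, 2, 5]) (v := []) (by decide +kernel)
  simpa [val, e, mul_assoc, s, t, x, y, w, d, e', f, g, Model.h, pr_inv] using h

theorem v_xy : x * y * x * y * x * y * x * y = 1 := by
  have h := rel (u := [2, 4, 2, 4, 2, 4, 2, 4]) (v := []) (by decide +kernel)
  simpa [val, e, mul_assoc, s, t, x, y, w, d, e', f, g, Model.h, pr_inv] using h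

theorem v_w2 : w * w = 1 := by
  have h := rel (u := [6, 6]) (v := []) (by decide +kernel)
  simpa [val, e, mul_assoc, s, t, x, y, w, d, e', f, g, Model.h, pr_inv] using h

theorem v_d2 : d * d = 1 := by
  have h := rel (u := [7, 7]) (v := []) (by decide +kernel)
  simpa [val, e, mul_assoc, s, t, x, y, w, d, e', f, g, Model.h, pr_inv] using h

theorem v_e2 : e' * e' = 1 := by
  have h := rel (u := [8, 8]) (v := []) (by decide +kernel)
  simpa [val, e, mul_assoc, s, t, x, y, w, d, e', f, g, Model.h, pr_inv] using h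

theorem v_f2 : f * f = 1 := by
  have h := rel (u := [9, 9]) (v := []) (by decide +kernel)
  simpa [val, e, mul_assoc, s, t, x, y, w, d, e', f, g, Model.h, pr_inv] using h

theorem v_g2 : g * g = 1 := by
  have h := rel (u := [10, 10]) (v := []) (by decide +kernel)
  simpa [val, e, mul_assoc, s, t, x, y, w, d, e', f, g, Model.h, pr_inv] using h

theorem v_h2 : h * h = 1 := by
  have h := rel (u := [11, 11]) (v := []) (by decide +kernel)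
  simpa [val, e, mul_assoc, s, t, x, y, w, d, e', f, g, Model.h, pr_inv] using h

theorem v_wd : w * d * w * d * w * d = 1 := by
  have h := rel (u := [6, 7, 6, 7, 6, 7]) (v := []) (by decide +kernel)
  simpa [val, e, mul_assoc, s, t, x, y, w, d, e', f, g, Model.h, pr_inv] using h

theorem v_de : d * e' * d * e' * d * e' = 1 := by
  have h := rel (u := [7, 8, 7, 8, 7, 8]) (v := []) (by decide +kernel)
  simpa [val, e, mul_assoc, s, t, x, y, w, d, e', f, g, Model.h, pr_inv] using h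

theorem v_ef : e' * f * e' * f * e' * f = 1 := by
  have h := rel (u := [8, 9, 8, 9, 8, 9]) (v := []) (by decide +kernel)
  simpa [val, e, mul_assoc, s, t, x, y, w, d, e', f, g, Model.h, pr_inv] using h

theorem v_fg : f * g * f * g * f * g = 1 := by
  have h := rel (u := [9, 10, 9, 10, 9, 10]) (v := []) (by decide +kernel)
  simpa [val, e, mul_assoc, s, t, x, y, w, d, e', f, g, Model.h, pr_inv] using h

theorem v_fh : f * h * f * h * f * h = 1 := by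
  have h := rel (u := [9, 11, 9, 11, 9, 11]) (v := []) (by decide +kernel)
  simpa [val, e, mul_assoc, s, t, x, y, w, d, e', f, g, Model.h, pr_inv] using h

theorem v_we : w * e' = e' * w := by
  have h := rel (u := [6, 8]) (v := [8, 6]) (by decide +kernel)
  simpa [val, e, mul_assoc, s, t, x, y, w, d, e', f, g, Model.h, pr_inv] using h

theorem v_wf : w * f = f * w := by
  have h := rel (u := [6, 9]) (v := [9, 6]) (by decide +kernel)
  simpa [val, e, mul_assoc, s, t, x, y, w, d, e', f, g, Model.h, pr_inv] using h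

theorem v_wg : w * g = g * w := by
  have h := rel (u := [6, 10]) (v := [10, 6]) (by decide +kernel)
  simpa [val, e, mul_assoc, s, t, x, y, w, d, e', f, g, Model.h, pr_inv] using h

theorem v_wh : w * h = h * w := by
  have h := rel (u := [6, 11]) (v := [11, 6]) (by decide +kernel)
  simpa [val, e, mul_assoc, s, t, x, y, w, d, e', f, g, Model.h, pr_inv] using h

theorem v_df : d * f = f * d := by
  have h := rel (u := [7, 9]) (v := [9, 7]) (by decide +kernel)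
  simpa [val, e, mul_assoc, s, t, x, y, w, d, e', f, g, Model.h, pr_inv] using h

theorem v_dg : d * g = g * d := by
  have h := rel (u := [7, 10]) (v := [10, 7]) (by decide +kernel)
  simpa [val, e, mul_assoc, s, t, x, y, w, d, e', f, g, Model.h, pr_inv] using h

theorem v_dh : d * h = h * d := by
  have h := rel (u := [7, 11]) (v := [11, 7]) (by decide +kernel)
  simpa [val, e, mul_assoc, s, t, x, y, w, d, e', f, g, Model.h, pr_inv] using h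

theorem v_eg : e' * g = g * e' := by
  have h := rel (u := [8, 10]) (v := [10, 8]) (by decide +kernel)
  simpa [val, e, mul_assoc, s, t, x, y, w, d, e', f, g, Model.h, pr_inv] using h

theorem v_eh : e' * h = h * e' := by
  have h := rel (u := [8, 11]) (v := [11, 8]) (by decide +kernel)
  simpa [val, e, mul_assoc, s, t, x, y, w, d, e', f, g, Model.h, pr_inv] using h

theorem v_ws : w * s = s * w := by
  have h := rel (u := [6, 0]) (v := [0, 6]) (by decide +kernel)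
  simpa [val, e, mul_assoc, s, t, x, y, w, d, e', f, g, Model.h, pr_inv] using h

theorem v_wt : w * t = t * w := by
  have h := rel (u := [6, 1]) (v := [1, 6]) (by decide +kernel)
  simpa [val, e, mul_assoc, s, t, x, y, w, d, e', f, g, Model.h, pr_inv] using h

theorem v_wx : w * x = x * w := by
  have h := rel (u := [6, 2]) (v := [2, 6]) (by decide +kernel)
  simpa [val, e, mul_assoc, s, t, x, y, w, d, e', f, g, Model.h, pr_inv] using h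

theorem v_wy : w * y = y * w := by
  have h := rel (u := [6, 4]) (v := [4, 6]) (by decide +kernel)
  simpa [val, e, mul_assoc, s, t, x, y, w, d, e', f, g, Model.h, pr_inv] using h

theorem v_ds : d * s = s * d := by
  have h := rel (u := [7, 0]) (v := [0, 7]) (by decide +kernel)
  simpa [val, e, mul_assoc, s, t, x, y, w, d, e', f, g, Model.h, pr_inv] using h

theorem v_dt : d * t = t * d := by
  have h := rel (u := [7, 1]) (v := [1, 7]) (by decide +kernel)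
  simpa [val, e, mul_assoc, s, t, x, y, w, d, e', f, g, Model.h, pr_inv] using h

theorem v_dx : d * x = x * d := by
  have h := rel (u := [7, 2]) (v := [2, 7]) (by decide +kernel)
  simpa [val, e, mul_assoc, s, t, x, y, w, d, e', f, g, Model.h, pr_inv] using h

theorem v_dy : d * y = y * d := by
  have h := rel (u := [7, 4]) (v := [4, 7]) (by decide +kernel)
  simpa [val, e, mul_assoc, s, t, x, y, w, d, e', f, g, Model.h, pr_inv] using h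

theorem v_es : e' * s = s * e' := by
  have h := rel (u := [8, 0]) (v := [0, 8]) (by decide +kernel)
  simpa [val, e, mul_assoc, s, t, x, y, w, d, e', f, g, Model.h, pr_inv] using h

theorem v_et : e' * t = t * e' := by
  have h := rel (u := [8, 1]) (v := [1, 8]) (by decide +kernel)
  simpa [val, e, mul_assoc, s, t, x, y, w, d, e', f, g, Model.h, pr_inv] using h

theorem v_ex : e' * x = x * e' := by
  have h := rel (u := [8, 2]) (v := [2, 8]) (by decide +kernel)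
  simpa [val, e, mul_assoc, s, t, x, y, w, d, e', f, g, Model.h, pr_inv] using h

theorem v_ey : e' * y = y * e' := by
  have h := rel (u := [8, 4]) (v := [4, 8]) (by decide +kernel)
  simpa [val, e, mul_assoc, s, t, x, y, w, d, e', f, g, Model.h, pr_inv] using h

theorem v_fs : f * s = s * f := by
  have h := rel (u := [9, 0]) (v := [0, 9]) (by decide +kernel)
  simpa [val, e, mul_assoc, s, t, x, y, w, d, e', f, g, Model.h, pr_inv] using h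

theorem v_ft : f * t = t * f := by
  have h := rel (u := [9, 1]) (v := [1, 9]) (by decide +kernel)
  simpa [val, e, mul_assoc, s, t, x, y, w, d, e', f, g, Model.h, pr_inv] using h

theorem v_fx : f * x = x * f := by
  have h := rel (u := [9, 2]) (v := [2, 9]) (by decide +kernel)
  simpa [val, e, mul_assoc, s, t, x, y, w, d, e', f, g, Model.h, pr_inv] using h

theorem v_fy : f * y = y * f := by
  have h := rel (u := [9, 4]) (v := [4, 9]) (by decide +kernel)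
  simpa [val, e, mul_assoc, s, t, x, y, w, d, e', f, g, Model.h, pr_inv] using h

theorem v_gs : g * s = s * g := by
  have h := rel (u := [10, 0]) (v := [0, 10]) (by decide +kernel)
  simpa [val, e, mul_assoc, s, t, x, y, w, d, e', f, g, Model.h, pr_inv] using h

theorem v_gt : g * t = t * g := by
  have h := rel (u := [10, 1]) (v := [1, 10]) (by decide +kernel)
  simpa [val, e, mul_assoc, s, t, x, y, w, d, e', f, g, Model.h, pr_inv] using h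

theorem v_gx : g * x = x * g := by
  have h := rel (u := [10, 2]) (v := [2, 10]) (by decide +kernel)
  simpa [val, e, mul_assoc, s, t, x, y, w, d, e', f, g, Model.h, pr_inv] using h

theorem v_hs : h * s = s * h := by
  have h := rel (u := [11, 0]) (v := [0, 11]) (by decide +kernel)
  simpa [val, e, mul_assoc, s, t, x, y, w, d, e', f, g, Model.h, pr_inv] using h

theorem v_ht : h * t = t * h := by
  have h := rel (u := [11, 1]) (v := [1, 11]) (by decide +kernel)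
  simpa [val, e, mul_assoc, s, t, x, y, w, d, e', f, g, Model.h, pr_inv] using h

theorem v_hy : h * y = y * h := by
  have h := rel (u := [11, 4]) (v := [4, 11]) (by decide +kernel)
  simpa [val, e, mul_assoc, s, t, x, y, w, d, e', f, g, Model.h, pr_inv] using h

theorem v_q2 : g * h * g * h = s * t * s * t := by
  have h := rel (u := [10, 11, 10, 11]) (v := [0, 1, 0, 1]) (by decide +kernel)
  simpa [val, e, mul_assoc, s, t, x, y, w, d, e', f, g, Model.h, pr_inv] using h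

theorem v_qx3 : g * h * x⁻¹ * g * h * x * x * g * h * x⁻¹ = 1 := by
  have h := rel (u := [10, 11, 3, 10, 11, 2, 2, 10, 11, 3]) (v := []) (by decide +kernel)
  simpa [val, e, mul_assoc, s, t, x, y, w, d, e', f, g, Model.h, pr_inv] using h

theorem v_qx : g * h * x⁻¹ * g * h * x = x⁻¹ * g * h * x * g * h := by
  have h := rel (u := [10, 11, 3, 10, 11, 2]) (v := [3, 10, 11, 2, 10, 11]) (by decide +kernel)
  simpa [val, e, mul_assoc, s, t, x, y, w, d, e', f, g, Model.h, pr_inv] using h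

theorem v_qy3 : g * h * y⁻¹ * g * h * y * y * g * h * y⁻¹ = 1 := by
  have h := rel (u := [10, 11, 5, 10, 11, 4, 4, 10, 11, 5]) (v := []) (by decide +kernel)
  simpa [val, e, mul_assoc, s, t, x, y, w, d, e', f, g, Model.h, pr_inv] using h

theorem v_qy : g * h * y⁻¹ * g * h * y = y⁻¹ * g * h * y * g * h := by
  have h := rel (u := [10, 11, 5, 10, 11, 4]) (v := [5, 10, 11, 4, 10, 11]) (by decide +kernel)
  simpa [val, e, mul_assoc, s, t, x, y, w, d, e', f, g, Model.h, pr_inv] using h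

theorem v_r5 : x * y * f * g * x * y * f * g * x * y * f * g * x * y * f * g * x * y * f * g * x * y * f * g * x * y * f * g = 1 := by
  have h := rel (u := [2, 4, 9, 10, 2, 4, 9, 10, 2, 4, 9, 10, 2, 4, 9, 10, 2, 4, 9, 10, 2, 4, 9, 10, 2, 4, 9, 10]) (v := []) (by decide +kernel)
  simpa [val, e, mul_assoc, s, t, x, y, w, d, e', f, g, Model.h, pr_inv] using h

theorem pow2 (a b : Spor.Co1) : (a * b) ^ 2 = a * b * a * b := by simp only [pow_succ, pow_zero, one_mul, mul_assoc]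

theorem pow3 (a : Spor.Co1) : a ^ 3 = a * a * a := by simp only [pow_succ, pow_zero, one_mul, mul_assoc]

/-- The relations of `M`. -/
theorem presM : PresM s t x y where
  s2 := by simpa only [mul_assoc] using v_s2
  t2 := by simpa only [mul_assoc] using v_t2
  st4 := by simpa only [pow_succ, pow_zero, one_mul, mul_assoc] using v_st4
  x3 := by simpa only [pow_succ, pow_zero, one_mul, mul_assoc] using v_x3
  y3 := by simpa only [pow_succ, pow_zero, one_mul, mul_assoc] using v_y3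
  zx := by simpa only [pow_succ, pow_zero, one_mul, mul_assoc] using v_zx
  sx := by simpa only [pow_succ, pow_zero, one_mul, mul_assoc] using v_sx
  zy := by simpa only [pow_succ, pow_zero, one_mul, mul_assoc] using v_zy
  ty := by simpa only [pow_succ, pow_zero, one_mul, mul_assoc] using v_ty
  xi := by simpa only [pow_succ, pow_zero, one_mul, mul_assoc] using v_xi
  yi := by simpa only [pow_succ, pow_zero, one_mul, mul_assoc] using v_yi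
  xY := by simpa only [pow_succ, pow_zero, one_mul, mul_assoc] using v_xY
  xy := by simpa only [pow_succ, pow_zero, one_mul, mul_assoc] using v_xy

/-- The ten elements of `Co1` satisfy the presentation. -/
theorem p957 : P957 s t x y w d e' f g h :=
  { presM with
    w2 := by simpa only [Commute, SemiconjBy, pow_succ, pow_zero, one_mul, mul_assoc] using v_w2
    d2 := by simpa only [Commute, SemiconjBy, pow_succ, pow_zero, one_mul, mul_assoc] using v_d2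
    e2 := by simpa only [Commute, SemiconjBy, pow_succ, pow_zero, one_mul, mul_assoc] using v_e2
    f2 := by simpa only [Commute, SemiconjBy, pow_succ, pow_zero, one_mul, mul_assoc] using v_f2
    g2 := by simpa only [Commute, SemiconjBy, pow_succ, pow_zero, one_mul, mul_assoc] using v_g2
    h2 := by simpa only [Commute, SemiconjBy, pow_succ, pow_zero, one_mul, mul_assoc] using v_h2
    wd := by simpa only [Commute, SemiconjBy, pow_succ, pow_zero, one_mul, mul_assoc] using v_wd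
    de := by simpa only [Commute, SemiconjBy, pow_succ, pow_zero, one_mul, mul_assoc] using v_de
    ef := by simpa only [Commute, SemiconjBy, pow_succ, pow_zero, one_mul, mul_assoc] using v_ef
    fg := by simpa only [Commute, SemiconjBy, pow_succ, pow_zero, one_mul, mul_assoc] using v_fg
    fh := by simpa only [Commute, SemiconjBy, pow_succ, pow_zero, one_mul, mul_assoc] using v_fh
    we := by simpa only [Commute, SemiconjBy, pow_succ, pow_zero, one_mul, mul_assoc] using v_we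
    wf := by simpa only [Commute, SemiconjBy, pow_succ, pow_zero, one_mul, mul_assoc] using v_wf
    wg := by simpa only [Commute, SemiconjBy, pow_succ, pow_zero, one_mul, mul_assoc] using v_wg
    wh := by simpa only [Commute, SemiconjBy, pow_succ, pow_zero, one_mul, mul_assoc] using v_wh
    df := by simpa only [Commute, SemiconjBy, pow_succ, pow_zero, one_mul, mul_assoc] using v_df
    dg := by simpa only [Commute, SemiconjBy, pow_succ, pow_zero, one_mul, mul_assoc] using v_dg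
    dh := by simpa only [Commute, SemiconjBy, pow_succ, pow_zero, one_mul, mul_assoc] using v_dh
    eg := by simpa only [Commute, SemiconjBy, pow_succ, pow_zero, one_mul, mul_assoc] using v_eg
    eh := by simpa only [Commute, SemiconjBy, pow_succ, pow_zero, one_mul, mul_assoc] using v_eh
    ws := by simpa only [Commute, SemiconjBy, pow_succ, pow_zero, one_mul, mul_assoc] using v_ws
    wt := by simpa only [Commute, SemiconjBy, pow_succ, pow_zero, one_mul, mul_assoc] using v_wt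
    wx := by simpa only [Commute, SemiconjBy, pow_succ, pow_zero, one_mul, mul_assoc] using v_wx
    wy := by simpa only [Commute, SemiconjBy, pow_succ, pow_zero, one_mul, mul_assoc] using v_wy
    ds := by simpa only [Commute, SemiconjBy, pow_succ, pow_zero, one_mul, mul_assoc] using v_ds
    dt := by simpa only [Commute, SemiconjBy, pow_succ, pow_zero, one_mul, mul_assoc] using v_dt
    dx := by simpa only [Commute, SemiconjBy, pow_succ, pow_zero, one_mul, mul_assoc] using v_dx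
    dy := by simpa only [Commute, SemiconjBy, pow_succ, pow_zero, one_mul, mul_assoc] using v_dy
    es := by simpa only [Commute, SemiconjBy, pow_succ, pow_zero, one_mul, mul_assoc] using v_es
    et := by simpa only [Commute, SemiconjBy, pow_succ, pow_zero, one_mul, mul_assoc] using v_et
    ex := by simpa only [Commute, SemiconjBy, pow_succ, pow_zero, one_mul, mul_assoc] using v_ex
    ey := by simpa only [Commute, SemiconjBy, pow_succ, pow_zero, one_mul, mul_assoc] using v_ey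
    fs := by simpa only [Commute, SemiconjBy, pow_succ, pow_zero, one_mul, mul_assoc] using v_fs
    ft := by simpa only [Commute, SemiconjBy, pow_succ, pow_zero, one_mul, mul_assoc] using v_ft
    fx := by simpa only [Commute, SemiconjBy, pow_succ, pow_zero, one_mul, mul_assoc] using v_fx
    fy := by simpa only [Commute, SemiconjBy, pow_succ, pow_zero, one_mul, mul_assoc] using v_fy
    gs := by simpa only [Commute, SemiconjBy, pow_succ, pow_zero, one_mul, mul_assoc] using v_gs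
    gt := by simpa only [Commute, SemiconjBy, pow_succ, pow_zero, one_mul, mul_assoc] using v_gt
    gx := by simpa only [Commute, SemiconjBy, pow_succ, pow_zero, one_mul, mul_assoc] using v_gx
    hs := by simpa only [Commute, SemiconjBy, pow_succ, pow_zero, one_mul, mul_assoc] using v_hs
    ht := by simpa only [Commute, SemiconjBy, pow_succ, pow_zero, one_mul, mul_assoc] using v_ht
    hy := by simpa only [Commute, SemiconjBy, pow_succ, pow_zero, one_mul, mul_assoc] using v_hy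
    q2 := by simpa only [Commute, SemiconjBy, pow_succ, pow_zero, one_mul, mul_assoc] using v_q2
    qx3 := by simpa only [Commute, SemiconjBy, pow_succ, pow_zero, one_mul, mul_assoc] using v_qx3
    qx := by simpa only [Commute, SemiconjBy, pow_succ, pow_zero, one_mul, mul_assoc] using v_qx
    qy3 := by simpa only [Commute, SemiconjBy, pow_succ, pow_zero, one_mul, mul_assoc] using v_qy3
    qy := by simpa only [Commute, SemiconjBy, pow_succ, pow_zero, one_mul, mul_assoc] using v_qy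
    r5 := by simpa only [Commute, SemiconjBy, pow_succ, pow_zero, one_mul, mul_assoc] using v_r5 }

end Cfsg.Agent.CoOneType.Model
end
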