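import Cfsg.Agent.CoOneType.GenCrit
import Cfsg.Agent.CoOneType.Model
set_option linter.all false

/-!
The ten elements of `Co1` satisfying `P957` generate `Co1`; the involution `(s t)²` is the image of the sign change on
an octad.
-/

set_option autoImplicit false

namespace Cfsg.Agent.CoOneType.Gen

open Cfsg Cfsg.Agent.SporadicA Cfsg.Agent.SporadicStructure.Co0Matrix Cfsg.Agent.CoOneType.CoEval
  Cfsg.Agent.CoOneType.Model Cfsg.Agent.CoOneType.MonoWord Cfsg.Agent.CoOneType.GenCrit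
open Cfsg.Agent.SporadicA.Co0Mono (signCo0 permCo0 signCo0_add signCo0_smul signMap_apply permCo0_smul permMap_apply)
open Cfsg.Agent.SporadicA.Co1Simple (N permPart allOne shift exists_sign_perm allOne_smul allOne_mem_center)

/-- Word for the shift. -/
def wS : List ℕ := [5, 3, 11, 9, 8, 7, 10, 5, 11, 9, 8, 10, 9, 11, 3, 10, 4, 10, 9, 5, 2, 11, 8, 9, 5, 10, 7, 8, 9, 2, 5, 10, 9, 11, 6, 11, 9, 8, 7, 6, 10, 9, 8, 11, 2, 4, 9, 11, 2, 10, 5, 9, 8, 7, 9, 10, 11, 9, 3, 5, 10, 8, 9, 11, 6, 7, 8, 9, 2, 11, 7, 8, 6, 2, 10, 4, 2, 4, 9, 2, 9, 5, 10, 2, 5]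

/-- Word for the inversion. -/
def wI : List ℕ := [5, 3, 6, 10, 4, 2, 9, 8, 7, 10, 9, 8, 11, 3, 9, 10, 4, 2, 11, 7, 8, 9, 10, 4, 10, 9, 2, 11, 8, 9, 10, 7, 8, 9, 2, 11, 6, 10, 5, 9, 8, 7, 6, 10, 9, 8, 11, 3, 4, 9, 10, 11, 9, 8, 9, 5, 10, 4, 3, 5, 10, 9, 11, 8, 9, 10, 7, 8, 9, 4, 10, 6, 2, 11, 2, 11, 9, 8, 7, 10, 9, 8, 11, 2, 5, 3, 11, 2, 9, 8, 10, 5, 3, 5, 10, 9, 11, 8, 9, 5, 2, 11, 7, 8, 9, 10, 8, 9, 5, 10, 6, 2, 4]

/-- Word for the third generator. -/
def wC : List ℕ := [5, 2, 8, 11, 3, 9, 8, 7, 11, 2, 9, 8, 10, 4, 10, 9, 8, 7, 11, 3, 5, 3, 11, 9, 10, 11, 8, 9, 10, 4, 10, 7, 8, 9, 11, 10, 8, 6, 9, 11, 9, 8, 7, 6, 10, 9, 8, 7, 11, 2, 5, 9, 8, 10, 4, 11, 9, 10, 3, 5, 10, 8, 9, 4, 3, 11, 7, 8, 9, 10, 6, 7, 8, 9, 3, 4, 9, 8, 7, 10, 9, 11, 3, 5, 2, 8, 5, 10, 9, 4, 10, 7, 8, 9, 4, 2, 11, 6, 2, 4]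

set_option maxRecDepth 100000 in
theorem checkS : ∀ p : GolayPt, (fold M wS betaL).getD (GolayBase.idx
    (match p with | none => none | some a => some (a + 1))) 0 =
    (if Nat.testBit 7402519 (GolayBase.idx (match p with | none => none | some a => some (a + 1))) then -1
      else 1) * (8 * 64 ^ GolayBase.idx p) := by
  decide +kernel

set_option maxRecDepth 100000 in
theorem checkI : ∀ p : GolayPt, (fold M wI betaL).getD (GolayBase.idx (projInvFun p)) 0 =
    (if Nat.testBit 520899 (GolayBase.idx (projInvFun p)) then -1 else 1) * (8 * 64 ^ GolayBase.idx p) := by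
  decide +kernel

set_option maxRecDepth 100000 in
theorem checkC : ∀ p : GolayPt, (fold M wC betaL).getD (GolayBase.idx (cubeTwistFun p)) 0 =
    (if Nat.testBit 752946 (GolayBase.idx (cubeTwistFun p)) then -1 else 1) * (8 * 64 ^ GolayBase.idx p) := by
  decide +kernel

set_option maxRecDepth 100000 in
theorem checkZ : ∀ p : GolayPt, (fold M [0, 1, 0, 1] betaL).getD (GolayBase.idx p) 0 =
    (if Nat.testBit 16771936 (GolayBase.idx p) then -1 else 1) * (8 * 64 ^ GolayBase.idx p) := by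
  decide +kernel

theorem mS : GolayBase.isCode 7402519 = true := by decide +kernel
theorem mI : GolayBase.isCode 520899 = true := by decide +kernel
theorem mC : GolayBase.isCode 752946 = true := by decide +kernel
theorem mZ : GolayBase.isCode 16771936 = true := by decide +kernel

theorem eqS : (wS.map e).prod = signCo0 (cw _ mS) * permCo0 shift :=
  mono_eq hM wS _ mS shift _ (fun p => by cases p <;> rfl) checkS

theorem eqI : (wI.map e).prod = signCo0 (cw _ mI) * permCo0 inv24 :=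
  mono_eq hM wI _ mI inv24 projInvFun (fun _ => rfl) checkI

theorem eqC : (wC.map e).prod = signCo0 (cw _ mC) * permCo0 cub24 :=
  mono_eq hM wC _ mC cub24 cubeTwistFun (fun _ => rfl) checkC

theorem eqZ : (([0, 1, 0, 1] : List ℕ).map e).prod = signCo0 (cw _ mZ) := by
  rw [mono_eq hM [0, 1, 0, 1] _ mZ 1 id (fun _ => rfl) checkZ, map_one, mul_one]

/-- The complement of the octad. -/
theorem cwZ : cw _ mZ = c0 + allOne := by
  apply Subtype.ext
  show GolayBase.word 16771936 = GolayBase.word m0 + 1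
  rw [← GolayBase.word_all, ← GolayBase.word_xor]
  rfl

theorem prod_mem {K : Subgroup Co0} (hK : ∀ i, e i ∈ K) (w : List ℕ) : (w.map e).prod ∈ K := by
  apply Subgroup.list_prod_mem
  intro g hg
  obtain ⟨i, -, rfl⟩ := List.mem_map.mp hg
  exact hK i

/-- The matrix `y` moves the standard cross. -/
theorem y_notMem : e 4 ∉ N := by
  intro h
  obtain ⟨c, σ, hcs⟩ := exists_sign_perm h
  have h1 : (((e 4).1 (Co0Basic.e8 none) : leechLattice) : GolayPt → ℤ) (some 0) = -2 := by
    have h2 : ((Co0Basic.e8 none : leechLattice) : GolayPt → ℤ) =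
        vec ((List.range 24).map fun i => if i = 23 then (8 : ℤ) else 0) := by
      funext p
      rw [Co0Basic.e8_apply, getD_range_map]
      congr 1
      apply propext
      constructor
      · rintro rfl; rfl
      · intro hp
        have : GolayBase.pt (GolayBase.idx p) = GolayBase.pt 23 := by rw [hp]
        rw [GolayBase.pt_idx] at this
        exact this
    rw [(hM 4).apply (by decide) h2, vec_apply]
    decide +kernel
  rw [hcs] at h1
  have h3 : (((signCo0 c * permCo0 σ).1 (Co0Basic.e8 none) : leechLattice) : GolayPt → ℤ) (some 0) =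
      Co0Mono.sgn ((c : GolayPt → ZMod 2) (some 0)) *
        ((Co0Basic.e8 none : leechLattice) : GolayPt → ℤ) ((σ : Equiv.Perm GolayPt).symm (some 0)) := rfl
  rw [h3, Co0Basic.e8_apply] at h1
  have h4 : Co0Mono.sgn ((c : GolayPt → ZMod 2) (some 0)) = 1 ∨
      Co0Mono.sgn ((c : GolayPt → ZMod 2) (some 0)) = -1 := by
    unfold Co0Mono.sgn
    split_ifs <;> simp
  split_ifs at h1 <;> rcases h4 with h4 | h4 <;> rw [h4] at h1 <;> norm_num at h1

theorem top_of_letters {K : Subgroup Co0} (hneg : signCo0 allOne ∈ K) (hK : ∀ i, e i ∈ K) : K = ⊤ := by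
  have h1 : signCo0 (cw _ mS) * permCo0 shift ∈ K := by rw [← eqS]; exact prod_mem hK _
  have h2 : signCo0 (cw _ mI) * permCo0 inv24 ∈ K := by rw [← eqI]; exact prod_mem hK _
  have h3 : signCo0 (cw _ mC) * permCo0 cub24 ∈ K := by rw [← eqC]; exact prod_mem hK _
  refine GenCrit.eq_top hneg ?_ ⟨_, h1⟩ ⟨_, h2⟩ ⟨_, h3⟩ (hK 4) y_notMem
  have h := prod_mem hK [0, 1, 0, 1]
  rw [eqZ, cwZ, signCo0_add] at h
  exact (K.mul_mem_cancel_right hneg).1 h

/-- The ten elements generate `Co1`. -/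
theorem closure_eq_top : Subgroup.closure ({s, t, x, y, w, d, e', f, g, h} : Set Spor.Co1) = ⊤ := by
  set H := Subgroup.closure ({s, t, x, y, w, d, e', f, g, h} : Set Spor.Co1) with hH
  have hsub : ∀ a ∈ ({s, t, x, y, w, d, e', f, g, h} : Set Spor.Co1), a ∈ H := fun a ha =>
    Subgroup.subset_closure ha
  have hK : ∀ i, e i ∈ H.comap (QuotientGroup.mk' (Subgroup.center Co0)) := by
    intro i
    rw [Subgroup.mem_comap]
    match i with
    | 0 => exact hsub s (by simp)
    | 1 => exact hsub t (by simp)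
    | 2 => exact hsub x (by simp)
    | 3 =>
      have h3 : pr (mk LettersA.ok_x)⁻¹ ∈ H := by rw [pr_inv]; exact H.inv_mem (hsub x (by simp))
      exact h3
    | 4 => exact hsub y (by simp)
    | 5 =>
      have h5 : pr (mk LettersA.ok_y)⁻¹ ∈ H := by rw [pr_inv]; exact H.inv_mem (hsub y (by simp))
      exact h5
    | 6 => exact hsub w (by simp)
    | 7 => exact hsub d (by simp)
    | 8 => exact hsub e' (by simp)
    | 9 => exact hsub f (by simp)
    | 10 => exact hsub g (by simp)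
    | _ + 11 => exact hsub Model.h (by simp)
  have hneg : signCo0 allOne ∈ H.comap (QuotientGroup.mk' (Subgroup.center Co0)) := by
    rw [Subgroup.mem_comap]
    have : QuotientGroup.mk' (Subgroup.center Co0) (signCo0 allOne) = 1 :=
      (QuotientGroup.eq_one_iff _).mpr allOne_mem_center
    rw [this]; exact H.one_mem
  have htop := top_of_letters hneg hK
  rw [eq_top_iff]
  intro a _
  obtain ⟨b, rfl⟩ := QuotientGroup.mk'_surjective _ a
  have : b ∈ H.comap (QuotientGroup.mk' (Subgroup.center Co0)) := by rw [htop]; trivial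
  exact this

/-- The involution `z` is the image of the sign change on the octad `c0`. -/
theorem z_eq : (s * t) ^ 2 = pr (signCo0 c0) := by
  have h1 : pr (([0, 1, 0, 1] : List ℕ).map e).prod = pr (signCo0 c0) := by
    rw [eqZ, cwZ, signCo0_add, pr, map_mul]
    have : QuotientGroup.mk' (Subgroup.center Co0) (signCo0 allOne) = 1 :=
      (QuotientGroup.eq_one_iff _).mpr allOne_mem_center
    rw [this, mul_one]
  rw [← h1, ← map_prod_pr]
  show (s * t) ^ 2 = s * (t * (s * (t * 1)))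
  rw [mul_one, pow_two, mul_assoc]

end Cfsg.Agent.CoOneType.Gen
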