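import Cfsg.Agent.CoOneType.CoEval
import Cfsg.Agent.Prune
set_option linter.all false
prune_inst 0x7f00000000000000000000000000000000000000000000000000000000000000000000000000000000000000000000000000000000000000000000000000000000000000000000000000000000000000003fffffffffffffffffffffffffffbeffbdffffffff
open scoped Cfsg.Agent.FastGrp

/-!
# Words in explicit matrices of `Co0`, evaluated on packed numbers

`fold_fast : fold = fF`; a vector is one number with 24 fields of 152 bits, a matrix is the list of its packed columns.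
-/

set_option autoImplicit false

namespace Cfsg.Agent.CoOneType.CoFold

open Cfsg Cfsg.Agent.SporadicA Cfsg.Agent.SporadicStructure.Co0Matrix Cfsg.Agent.CoOneType.CoEval

private noncomputable def cD : ℕ := Nat.shiftLeft (nat_lit 1) (nat_lit 143)
private noncomputable def cM : ℕ := Nat.pred (Nat.shiftLeft (nat_lit 1) (nat_lit 144))
private noncomputable def cB : ℕ := Nat.shiftLeft (nat_lit 1) (nat_lit 3648)
private noncomputable def ones (c n : ℕ) : ℕ :=
  Nat.rec (motive := fun _ => ℕ) 0 (fun _ r => Nat.add c (Nat.shiftLeft r (nat_lit 152))) n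
private noncomputable def cK : ℕ := ones (Nat.mul 8 cD) 24
private noncomputable def cT : ℕ := Nat.shiftLeft (ones (Nat.shiftLeft 31 147) 24) 64

private noncomputable def unpA (n : ℕ) : ℕ → List ℤ :=
  Nat.rec (motive := fun _ => ℕ → List ℤ) (fun _ => [])
    (fun _ ih r => Int.subNatNat (Nat.land r cM) cD :: ih (Nat.shiftRight r (nat_lit 152))) n
private noncomputable def unp (P : ℕ) : List ℤ := unpA 24 (Nat.shiftRight P (nat_lit 67))
private noncomputable def pck (l : List ℤ) : ℕ :=
  Nat.shiftLeft (List.rec (motive := fun _ => ℕ) 0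
    (fun z _ r => Nat.add (Int.toNat (z + Int.ofNat cD)) (Nat.shiftLeft r (nat_lit 152))) l) (nat_lit 67)
private noncomputable def en (z : ℤ) : ℕ := Int.rec (motive := fun _ => ℕ) (fun n => n) (fun n => Nat.sub cB (Nat.succ n)) z
private noncomputable def zw (cs : List ℕ) : List ℤ → List ℕ :=
  List.rec (motive := fun _ => List ℤ → List ℕ) (fun _ => []) (fun c _ ih r =>
    List.rec (motive := fun _ => List ℕ) (Nat.shiftLeft c (nat_lit 152) :: ih [])
      (fun z t _ => Nat.add (en z) (Nat.shiftLeft c (nat_lit 152)) :: ih t) r) cs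
private noncomputable def colA (R : List (List ℤ)) : List ℕ :=
  List.rec (motive := fun _ => List ℕ) (List.replicate 24 0) (fun r _ cs => zw cs r) R
private noncomputable def red (cs : List ℕ) : List ℕ :=
  List.rec (motive := fun _ => List ℕ) [] (fun c _ r => Nat.mod c cB :: r) cs
private noncomputable def col (R : List (List ℤ)) : List ℕ := red (colA R)
private noncomputable def sm (cs : List ℕ) : ℕ := List.rec (motive := fun _ => ℕ) 0 (fun c _ r => Nat.add c r) cs
private noncomputable def kk (R : List (List ℤ)) : ℕ := Nat.mod (Nat.add cK (Nat.mul (Nat.sub cB cD) (sm (col R)))) cB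
private noncomputable def sml (z : ℤ) : Bool := Nat.ble z.natAbs 16
private noncomputable def okr (r : List ℤ) : Bool :=
  List.rec (motive := fun _ => Bool) true (fun z _ b => Bool.rec (motive := fun _ => Bool) false b (sml z)) r
private noncomputable def oks (R : List (List ℤ)) : Bool :=
  List.rec (motive := fun _ => Bool) true (fun r _ b => Bool.rec (motive := fun _ => Bool) false b (okr r)) R
private noncomputable def okR (R : List (List ℤ)) : Bool := oks R && Nat.beq R.length 24
private noncomputable def lp (cs : List ℕ) : ℕ → ℕ → ℕ :=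
  List.rec (motive := fun _ => ℕ → ℕ → ℕ) (fun a _ => a)
    (fun c _ ih a r => ih (Nat.add a (Nat.mul (Nat.land r cM) c)) (Nat.shiftRight r (nat_lit 152))) cs
private noncomputable def stp (R : List (List ℤ)) (P : ℕ) : ℕ :=
  Nat.add (Nat.shiftLeft (lp (col R) (kk R) (Nat.shiftRight P (nat_lit 67))) (nat_lit 64))
    (Nat.succ (Nat.mod P (nat_lit 4294967296)))
private noncomputable def frc (x : ℕ) (k : ℕ → List ℤ) : List ℤ :=
  Nat.rec (motive := fun _ => List ℤ) (k 0) (fun n _ => k (Nat.succ n)) x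
private noncomputable def go (M : ℕ → List (List ℤ)) (fb : List ℤ) (t : List ℕ) : ℕ → List ℤ :=
  List.rec (motive := fun _ => ℕ → List ℤ) unp (fun i _ ih P => frc (stp (M i) P) fun Q =>
    Bool.rec (motive := fun _ => List ℤ) fb (Bool.rec (motive := fun _ => List ℤ) fb (ih Q)
      (Nat.beq (Nat.land Q cT) (nat_lit 0))) (okR (M i))) t

/-- the fast evaluation -/
noncomputable def fF (M : ℕ → List (List ℤ)) (w : List ℕ) (l : List ℤ) : List ℤ :=
  Bool.rec (motive := fun _ => List ℤ) (fold M w l) (go M (fold M w l) w.reverse (pck l)) (eqL (unp (pck l)) l)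

private theorem cD_eq : cD = 2 ^ 143 := by decide +kernel
private theorem cB_eq : cB = (2 ^ 152) ^ 24 := by decide +kernel
private theorem land_cM (r : ℕ) : Nat.land r cM = r % 2 ^ 144 :=
  (congrArg (Nat.land r) (by decide +kernel : cM = 2 ^ 144 - 1)).trans (Nat.and_two_pow_sub_one_eq_mod r 144)

private def cs' (cs : List ℕ) : List ℤ := cs.map Int.ofNat

private theorem shl (c : ℕ) : ((Nat.shiftLeft c (nat_lit 152) : ℕ) : ℤ) = 2 ^ 152 * c := by
  rw [show Nat.shiftLeft c (nat_lit 152) = c * 2 ^ 152 from Nat.shiftLeft_eq c 152]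
  push_cast
  ring

private theorem lp_eq : ∀ (cs : List ℕ) (a r : ℕ),
    (lp cs a r : ℤ) = a + dotL (unpA cs.length r) (cs' cs) + cD * sm cs
  | [], a, r => by
    show (a : ℤ) = a + 0 + cD * (0 : ℕ)
    simp
  | c :: cs, a, r => (lp_eq cs (a + Nat.land r cM * c) (r >>> 152)).trans (by
      show _ = a + (Int.subNatNat (Nat.land r cM) cD * (c : ℤ) + dotL (unpA cs.length (r >>> 152)) (cs' cs)) +
        cD * ((c + sm cs : ℕ) : ℤ)
      rw [Int.subNatNat_eq_coe]
      push_cast
      ring)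

private theorem en_mod {z : ℤ} (h : sml z = true) : (en z : ℤ) ≡ z [ZMOD cB] := by
  cases z with
  | ofNat n => exact Int.ModEq.refl _
  | negSucc n =>
    have h1 : n + 1 ≤ cB := (Nat.le_of_ble_eq_true h).trans (by decide +kernel)
    show ((cB - (n + 1) : ℕ) : ℤ) ≡ _ [ZMOD cB]
    rw [Nat.cast_sub h1, Int.negSucc_eq]
    exact Int.modEq_iff_dvd.2 ⟨-1, by push_cast; ring⟩

private theorem okr_cons {z : ℤ} {t : List ℤ} (h : okr (z :: t) = true) : sml z = true ∧ okr t = true := by
  have h1 : Bool.rec (motive := fun _ => Bool) false (okr t) (sml z) = true := h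
  cases h2 : sml z <;> rw [h2] at h1
  · exact absurd h1 Bool.false_ne_true
  · exact ⟨rfl, h1⟩

private theorem oks_cons {r : List ℤ} {R : List (List ℤ)} (h : oks (r :: R) = true) : okr r = true ∧ oks R = true := by
  have h1 : Bool.rec (motive := fun _ => Bool) false (oks R) (okr r) = true := h
  cases h2 : okr r <;> rw [h2] at h1
  · exact absurd h1 Bool.false_ne_true
  · exact ⟨rfl, h1⟩

private theorem zw_spec : ∀ (cs : List ℕ) (r l : List ℤ), okr r = true → l.length = cs.length →
    (zw cs r).length = cs.length ∧ dotL l (cs' (zw cs r)) ≡ dotL l r + 2 ^ 152 * dotL l (cs' cs) [ZMOD cB]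
  | [], r, [], _, _ => ⟨rfl, by simp only [dotL_nil_left, mul_zero, add_zero]; rfl⟩
  | c :: cs, [], a :: l, h, hl => by
    obtain ⟨h1, h2⟩ := zw_spec cs [] l h (Nat.succ.inj hl)
    refine ⟨congrArg Nat.succ h1, ?_⟩
    show a * ((Nat.shiftLeft c (nat_lit 152) : ℕ) : ℤ) + dotL l (cs' (zw cs [])) ≡
      0 + 2 ^ 152 * (a * (c : ℤ) + dotL l (cs' cs)) [ZMOD cB]
    rw [dotL_nil_right] at h2
    rw [shl]
    exact (h2.add_left _).trans (by rw [show ∀ x y : ℤ, a * (2 ^ 152 * x) + (0 + 2 ^ 152 * y) = 0 + 2 ^ 152 * (a * x + y) from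
      fun x y => by ring])
  | c :: cs, z :: r, a :: l, h, hl => by
    obtain ⟨h1, h2⟩ := zw_spec cs r l (okr_cons h).2 (Nat.succ.inj hl)
    refine ⟨congrArg Nat.succ h1, ?_⟩
    show a * ((en z + Nat.shiftLeft c (nat_lit 152) : ℕ) : ℤ) + dotL l (cs' (zw cs r)) ≡
      a * z + dotL l r + 2 ^ 152 * (a * (c : ℤ) + dotL l (cs' cs)) [ZMOD cB]
    rw [Nat.cast_add, shl]
    exact ((((en_mod (okr_cons h).1).add_right _).mul_left a).add h2).trans (by
      rw [show ∀ x y u : ℤ, a * (z + 2 ^ 152 * x) + (u + 2 ^ 152 * y) = a * z + u + 2 ^ 152 * (a * x + y) from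
        fun x y u => by ring])

private def hv (l : List ℤ) (c : ℤ) (R : List (List ℤ)) : ℤ := R.foldr (fun r a => dotL l r + c + 2 ^ 152 * a) 0

private theorem dot_zero : ∀ (l : List ℤ) (n : ℕ), dotL l (cs' (List.replicate n 0)) = 0
  | l, 0 => dotL_nil_right l
  | [], _ + 1 => rfl
  | a :: l, n + 1 => by
    show a * 0 + dotL l (cs' (List.replicate n 0)) = 0
    rw [dot_zero l n, mul_zero, add_zero]

private theorem colA_spec {l : List ℤ} (hl : l.length = 24) : ∀ R : List (List ℤ), oks R = true →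
    (colA R).length = 24 ∧ dotL l (cs' (colA R)) ≡ hv l 0 R [ZMOD cB]
  | [], _ => ⟨rfl, by rw [show colA [] = List.replicate 24 0 from rfl, dot_zero]; rfl⟩
  | r :: R, h => by
    obtain ⟨h1, h2⟩ := colA_spec hl R (oks_cons h).2
    obtain ⟨h3, h4⟩ := zw_spec (colA R) r l (oks_cons h).1 (hl.trans h1.symm)
    refine ⟨h3.trans h1, h4.trans ?_⟩
    show _ ≡ dotL l r + 0 + 2 ^ 152 * hv l 0 R [ZMOD cB]
    rw [add_zero]
    exact (h2.mul_left _).add_left _

private theorem red_spec : ∀ (cs : List ℕ) (l : List ℤ),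
    (red cs).length = cs.length ∧ dotL l (cs' (red cs)) ≡ dotL l (cs' cs) [ZMOD cB]
  | [], _ => ⟨rfl, Int.ModEq.refl _⟩
  | c :: cs, [] => ⟨congrArg Nat.succ (red_spec cs []).1, Int.ModEq.refl _⟩
  | c :: cs, a :: l => ⟨congrArg Nat.succ (red_spec cs l).1, by
      show a * ((c % cB : ℕ) : ℤ) + dotL l (cs' (red cs)) ≡ a * (c : ℤ) + dotL l (cs' cs) [ZMOD cB]
      rw [Int.natCast_mod]
      exact ((Int.mod_modEq _ _).mul_left a).add (red_spec cs l).2⟩

private theorem hv_add (l : List ℤ) (c : ℕ) : ∀ R : List (List ℤ), hv l c R = hv l 0 R + ones c R.length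
  | [] => rfl
  | r :: R => by
    show dotL l r + c + 2 ^ 152 * hv l c R = dotL l r + 0 + 2 ^ 152 * hv l 0 R +
      ((c + Nat.shiftLeft (ones c R.length) (nat_lit 152) : ℕ) : ℤ)
    rw [hv_add l c R, Nat.cast_add, shl]
    ring

private theorem unpA_spec : ∀ n r : ℕ, (unpA n r).length = n ∧ ∀ a ∈ unpA n r, |a| ≤ 2 ^ 143
  | 0, _ => ⟨rfl, fun _ h => absurd h List.not_mem_nil⟩
  | n + 1, r => ⟨congrArg Nat.succ (unpA_spec n _).1, fun a h => by
      rcases List.mem_cons.1 h with rfl | h
      · have := Nat.mod_lt r (show 0 < 2 ^ 144 by positivity)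
        rw [Int.subNatNat_eq_coe, land_cM, cD_eq, abs_le]
        omega
      · exact (unpA_spec n _).2 a h⟩

private theorem dot_le : ∀ l r : List ℤ, (∀ a ∈ l, |a| ≤ 2 ^ 143) → okr r = true → |dotL l r| ≤ l.length * 2 ^ 147
  | [], _, _, _ => by rw [dotL_nil_left]; simp
  | a :: l, [], _, _ => by rw [dotL_nil_right, abs_zero]; positivity
  | a :: l, z :: r, h, hr => by
    have h1 := dot_le l r (fun b hb => h b (List.mem_cons_of_mem _ hb)) (okr_cons hr).2
    have h2 : |z| ≤ 16 := by
      rw [Int.abs_eq_natAbs]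
      exact_mod_cast Nat.le_of_ble_eq_true (okr_cons hr).1
    have h3 : |a * z| ≤ 2 ^ 143 * 16 := by
      rw [abs_mul]
      exact mul_le_mul (h a List.mem_cons_self) h2 (abs_nonneg _) (by positivity)
    rw [dotL_cons, List.length_cons, Nat.cast_succ]
    linarith [abs_add_le (a * z) (dotL l r)]

private theorem uniq {l : List ℤ} (hl : ∀ r, okr r = true → |dotL l r| ≤ 24 * 2 ^ 147) :
    ∀ (R : List (List ℤ)) (P : ℕ), oks R = true → (P : ℤ) ≡ hv l (8 * 2 ^ 143) R [ZMOD (2 ^ 152) ^ R.length] →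
      (∀ i < R.length, (P >>> (152 * i)) % 2 ^ 152 < 2 ^ 147) → unpA R.length (P >>> 3) = ap R l
  | [], _, _, _, _ => rfl
  | r :: R, P, h, h1, h2 => by
    have h3 : P % 2 ^ 152 < 2 ^ 147 := h2 0 (Nat.succ_pos _)
    have h4 := abs_le.1 (hl r (oks_cons h).1)
    obtain ⟨k, hk⟩ := Int.modEq_iff_dvd.1 h1
    replace hk : dotL l r + 8 * 2 ^ 143 + 2 ^ 152 * hv l (8 * 2 ^ 143) R - P =
        2 ^ 152 * ((2 ^ 152) ^ R.length * k) := by rw [← mul_assoc, ← pow_succ']; exact hk
    generalize hy : (2 ^ 152 : ℤ) ^ R.length * k = y at hk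
    have h5 : dotL l r + 8 * 2 ^ 143 = (P % 2 ^ 152 : ℕ) ∧ hv l (8 * 2 ^ 143) R - (P / 2 ^ 152 : ℕ) = y := by omega
    show Int.subNatNat (Nat.land (P >>> 3) cM) cD :: unpA R.length ((P >>> 3) >>> 152) = (dotL l r / 8) :: ap R l
    rw [← Nat.shiftRight_add, Nat.add_comm 3, Nat.shiftRight_add, uniq hl R (P >>> 152) (oks_cons h).2
      (Int.modEq_iff_dvd.2 ⟨k, by rw [Nat.shiftRight_eq_div_pow, h5.2, hy]⟩) fun i hi => by
        rw [← Nat.shiftRight_add, Nat.add_comm]
        exact h2 (i + 1) (Nat.succ_lt_succ hi), Int.subNatNat_eq_coe, land_cM, cD_eq, Nat.shiftRight_eq_div_pow]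
    congr 1
    omega

private theorem stp_spec {R : List (List ℤ)} {P : ℕ} (h : okR R = true) (hT : Nat.land (stp R P) cT = 0) :
    unp (stp R P) = ap R (unp P) := by
  obtain ⟨h1, h2⟩ := Bool.and_eq_true_iff.1 h
  have h3 : R.length = 24 := Nat.eq_of_beq_eq_true h2
  obtain ⟨h4, h5⟩ := unpA_spec 24 (Nat.shiftRight P (nat_lit 67))
  obtain ⟨h6, h7⟩ := colA_spec h4 R h1
  obtain ⟨h8, h9⟩ := red_spec (colA R) (unp P)
  have e := lp_eq (col R) (kk R) (Nat.shiftRight P (nat_lit 67))
  rw [show (col R).length = 24 from h8.trans h6] at e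
  generalize hX : lp (col R) (kk R) (Nat.shiftRight P (nat_lit 67)) = X at e
  have e1 : stp R P >>> 64 = X := by
    have := Nat.mod_lt P (show 0 < 4294967296 by decide)
    show (lp (col R) (kk R) (Nat.shiftRight P (nat_lit 67)) <<< 64 + (P % 4294967296 + 1)) >>> 64 = X
    rw [hX, Nat.shiftLeft_eq, Nat.shiftRight_eq_div_pow]
    omega
  have e2 : (X : ℤ) ≡ hv (unp P) (8 * 2 ^ 143) R [ZMOD cB] := by
    have h10 : cD ≤ cB := by decide +kernel
    have h11 : (kk R : ℤ) ≡ cK + (cB - cD) * sm (col R) [ZMOD cB] := by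
      show (((cK + (cB - cD) * sm (col R)) % cB : ℕ) : ℤ) ≡ _ [ZMOD cB]
      rw [Int.natCast_mod, Nat.cast_add, Nat.cast_mul, Nat.cast_sub h10]
      exact Int.mod_modEq _ _
    rw [e, show (8 * 2 ^ 143 : ℤ) = ((Nat.mul 8 cD : ℕ) : ℤ) by decide +kernel, hv_add, h3]
    refine ((h11.add (h9.trans h7)).add_right _).trans (Int.modEq_iff_dvd.2 ⟨-sm (col R), ?_⟩)
    show hv (unp P) 0 R + cK - (cK + (cB - cD) * sm (col R) + hv (unp P) 0 R + cD * sm (col R)) = _
    ring
  show unpA 24 (stp R P >>> (64 + 3)) = _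
  rw [Nat.shiftRight_add, e1, ← h3]
  refine uniq (fun r hr => ?_) R X h1 (by rw [h3]; exact_mod_cast cB_eq ▸ e2) fun i hi => ?_
  · have := dot_le _ r h5 hr
    rwa [h4] at this
  · refine Nat.lt_pow_two_of_testBit _ fun t ht => ?_
    rw [Nat.testBit_mod_two_pow, Nat.testBit_shiftRight, ← e1, Nat.testBit_shiftRight]
    by_cases h12 : t < 152
    · have h13 : ∀ i < 24, ∀ s < 5, cT.testBit (64 + (152 * i + (147 + s))) = true := by decide +kernel
      have h14 := congrArg (·.testBit (64 + (152 * i + t))) (show stp R P &&& cT = 0 from hT)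
      obtain ⟨s, rfl⟩ := Nat.exists_eq_add_of_le ht
      simp only [Nat.testBit_and, h13 i (h3 ▸ hi) s (by omega), Bool.and_true, Nat.zero_testBit] at h14
      rw [h14, Bool.and_false]
    · rw [decide_eq_false h12, Bool.false_and]

private theorem go_spec (M : ℕ → List (List ℤ)) (fb : List ℤ) : ∀ (t : List ℕ) (P : ℕ),
    go M fb t P = fb ∨ go M fb t P = t.foldl (fun l i => ap (M i) l) (unp P)
  | [], _ => Or.inr rfl
  | i :: t, P => by
    have e : go M fb (i :: t) P = Bool.rec (motive := fun _ => List ℤ) fb (Bool.rec (motive := fun _ => List ℤ) fb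
        (go M fb t (stp (M i) P)) (Nat.beq (Nat.land (stp (M i) P) cT) 0)) (okR (M i)) :=
      (show ∀ x k, frc x k = k x from fun x k => by cases x <;> rfl) (stp (M i) P) fun Q =>
        Bool.rec (motive := fun _ => List ℤ) fb (Bool.rec (motive := fun _ => List ℤ) fb (go M fb t Q)
          (Nat.beq (Nat.land Q cT) 0)) (okR (M i))
    rw [e]
    cases h1 : okR (M i)
    · exact Or.inl rfl
    · cases h2 : Nat.beq (Nat.land (stp (M i) P) cT) 0
      · exact Or.inl rfl
      · rw [List.foldl_cons, ← stp_spec h1 (Nat.eq_of_beq_eq_true h2)]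
        exact go_spec M fb t _

theorem fold_fast : fold = fF := by
  funext M w l
  delta fF
  cases h : eqL (unp (pck l)) l
  · rfl
  · refine ((go_spec M (fold M w l) w.reverse (pck l)).elim id fun h1 => h1.trans ?_).symm
    rw [eqL_eq h, List.foldl_reverse]
    rfl

end Cfsg.Agent.CoOneType.CoFold
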