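import Cfsg.Agent.CoOneType.TopRules_mg
set_option linter.all false

-- part: CoOneType/TopWords
section
/-!
# Words of the certificate for the double cosets of `K = 3·Suz:2` in `2 × Co₁`
(generated from `data/co1_type/h957/facts.txt`; letters `s t x X y Y g h f e d` = `0, …, 10`)
-/

set_option autoImplicit false
set_option maxRecDepth 100000

namespace Cfsg.Agent.CoOneType.TopWords

def a0 : List ℕ := [0]
def a1 : List ℕ := [1]
def a2 : List ℕ := [2]
def a3 : List ℕ := [4]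
def a4 : List ℕ := [10]
def a5 : List ℕ := [9]
def a6 : List ℕ := [8]
def a7 : List ℕ := [6]
def a8 : List ℕ := []
def b8 : List ℕ := []
def a9 : List ℕ := [0]
def c9 : List ℕ := [0]
def a10 : List ℕ := [1]
def c10 : List ℕ := [1]
def a11 : List ℕ := [2]
def c11 : List ℕ := [2]
def a12 : List ℕ := [4]
def c12 : List ℕ := [4]
def a13 : List ℕ := [9]
def c13 : List ℕ := [9]
def a14 : List ℕ := [8]
def c14 : List ℕ := [8]
def a15 : List ℕ := [6]
def c15 : List ℕ := [6]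
def a16 : List ℕ := [10]
def b16 : List ℕ := [10]
def m16 : List ℕ := []
def c16_1 : List ℕ := []
def c16_2 : List ℕ := []
def a17 : List ℕ := [0,4,2,8,6,8,7,8,6,9,8,6,7,3,5,8,9,10,9,8,6,4,2,6,8,9,10,7,8,9,6,4,8,7,3,4,7,8,9,10,6,8,9,7,3,5,8,6,7,8,9,10]
def b17 : List ℕ := []
def a18 : List ℕ := [1,6,5,2,8,6,8,7,8,6,9,8,6,7,3,4,8,9,6]
def c18 : List ℕ := [1,6,5,2,8,6,8,7,8,6,9,8,6,7,3,4,8,9,6]
def a19 : List ℕ := [7,8,6,5,1,6,8,7,9,8,6,4,6,8,9]
def c19 : List ℕ := [7,8,6,5,1,6,8,7,9,8,6,4,6,8,9]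
def a20 : List ℕ := [2,4,3,8,6,7,2,4,8,7,2,6,8,9,8,6,7,2,4,8,9,6,8,7,3]
def c20 : List ℕ := [2,4,3,8,6,7,2,4,8,7,2,6,8,9,8,6,7,2,4,8,9,6,8,7,3]
def a21 : List ℕ := [0,3,6,5,6,8,7,3,4,7,8,6,9,8,6,4,7,2,8,9,7,8,6,5,2]
def c21 : List ℕ := [0,3,6,5,6,8,7,3,4,7,8,6,9,8,6,4,7,2,8,9,7,8,6,5,2]
def a22 : List ℕ := [4,6,7,8,6,5]
def c22 : List ℕ := [4,6,7,8,6,5]
def a23 : List ℕ := [5,1,8,6,7,8,6,9,8,6,4,7,8]
def c23 : List ℕ := [5,1,8,6,7,8,6,9,8,6,4,7,8]
def a24 : List ℕ := [2,0,3,10,9,8,6,7,3,5,8,9,10,6,8,9,7,3,8,6,5,6,8,9,10]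
def b24 : List ℕ := []
def a25 : List ℕ := [4,2,7,3,5,6]
def c25 : List ℕ := [4,2,7,3,5,6]
def a26 : List ℕ := [4,8,7,6,5,8,7,9]
def c26 : List ℕ := [4,8,7,6,5,8,7,9]
def a27 : List ℕ := [0,6,5,2,7,3,5,7,6,8,7]
def c27 : List ℕ := [0,6,5,2,7,3,5,7,6,8,7]
def a28 : List ℕ := [4,3,0,6,5,9,8,6,5]
def c28 : List ℕ := [4,3,0,6,5,9,8,6,5]
def a29 : List ℕ := [0,8,7,3,7,8,6,4,2,7,8,6,5,9,8,6,4,7,8,9,10]
def b29 : List ℕ := [10]
def m29 : List ℕ := []
def c29_1 : List ℕ := []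
def c29_2 : List ℕ := [0,8,7,3,7,8,6,4,2,7,8,6,5,9,8,6,4,7,8,9]
def a30 : List ℕ := [2,5,7,6,4,8,9,10]
def b30 : List ℕ := [2,7,8,9,10]
def m30 : List ℕ := [2,7,8,9]
def c30_1 : List ℕ := [2,7,8,9]
def c30_2 : List ℕ := [2,5,7,6,4,8,9]
def a31 : List ℕ := [2,0,3,10,9,8,6,7,8,9,10]
def b31 : List ℕ := []
def a32 : List ℕ := [0]
def c32 : List ℕ := [0]
def a33 : List ℕ := [1]
def c33 : List ℕ := [1]
def a34 : List ℕ := [9]
def c34 : List ℕ := [9]
def a35 : List ℕ := [8]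
def c35 : List ℕ := [8]
def a36 : List ℕ := [7]
def c36 : List ℕ := [7]
def a37 : List ℕ := [5,6,4]
def c37 : List ℕ := [5,6,4]
def a38 : List ℕ := [1,3,7,2,6]
def c38 : List ℕ := [1,3,7,2,6]
def a39 : List ℕ := [10]
def b39 : List ℕ := [2,0,3,10,9,8,6,7,8,9,10]
def m39 : List ℕ := [2,0,3,10,9,8,6,7,8,9]
def c39_1 : List ℕ := [2,0,3,9,8,6,7,8,9]
def c39_2 : List ℕ := []
def a40 : List ℕ := [9,10,9]
def c40 : List ℕ := [9]
def a41 : List ℕ := [1,2,4,6,8,7,3,4,9,8,6,4,7,8,9,10]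
def b41 : List ℕ := [10]
def m41 : List ℕ := []
def c41_1 : List ℕ := []
def c41_2 : List ℕ := [1,2,4,6,8,7,3,4,9,8,6,4,7,8,9]
def a42 : List ℕ := [0,6,5,3,7,2,4,6,10,9,8,6,4,7,8,9,10]
def b42 : List ℕ := [2,0,3,10,9,8,6,7,8,9,10]
def m42 : List ℕ := [2,0,3,10,9,8,6,7,8,9]
def c42_1 : List ℕ := [2,0,3,9,8,6,7,8,9]
def c42_2 : List ℕ := [0,6,5,3,7,2,4,6,9,8,6,4,7,8,9]
def a43 : List ℕ := [0,5,8,7,8,6,5,2,8,7,3,9,8,6,7,2,8,10,9,8,6,7,3,5,8,9,10,6,8,9,7,3,8,6,4,6,8,9,10]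
def m43 : List ℕ := [1,4,3,1,10,9,8,6,7,2,4,8,9,10,6,8,9]
def c43_1 : List ℕ := [4,6,5,2,7,3,4,8,9]
def c43_2 : List ℕ := [0,5,2,8,7,2,4,8,7,3,9,8,6,4,7,8,9]
def c43_3 : List ℕ := [0,7,6,4,8,7,3,5,7,3,8,7,9,8,6,4,3,6,4,8,9,7,2,8,6,4]
def a44 : List ℕ := [0,6,5,2,1,7,2,5,8,9,10]
def b44 : List ℕ := [3,5,6,8,9,10]
def m44 : List ℕ := [3,5,6,8,9]
def c44_1 : List ℕ := [3,5,6,8,9]
def c44_2 : List ℕ := [0,6,5,2,1,7,2,5,8,9]
def a45 : List ℕ := [5,10,9,8,6,7,8,9,10]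
def b45 : List ℕ := [1,5,10,9,8,6,7,8,9,10]
def m45 : List ℕ := [1,5,10,9,8,6,7,8,9]
def c45_1 : List ℕ := [1,5,9,8,6,7,8,9]
def c45_2 : List ℕ := [5,9,8,6,7,8,9]
def a46 : List ℕ := [8,6,5,2,6,7,3,5,8,9,8,6,4,2,6,8,9,7,3,8,6,10,9,8,6,4,7,2,8,9,10,7,8,9,6,4,3,8,6,7,8,9,10]
def b46 : List ℕ := [5,6,4,8,6,5,2,6,7,3,8,10,9,8,6,4,7,2,8,9,10,7,8,9,6,4,3,8,6,7,8,9,10]
def m46 : List ℕ := [5,6,4,8,6,5,2,6,7,3,8,10,9,8,6,4,7,2,8,9,10,7,8,9,6,4,3,8,6,7,8,9]
def c46_1 : List ℕ := [0,3,4,6,8,7,2,5,9,8,6,7,8,9]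
def c46_2 : List ℕ := [0,7,3,8,6,4,8,6,8,7,2,9,8,6,4,2,6,8,9,7,8,6,4,6]
def a47 : List ℕ := [0,4,2,8,6,8,7,8,6,9,8,6,7,3,5,8,9,10,9,8,6,4,2,6,8,9,10,7,8,9,6,4,8,7,3,4,7,8,9,10,6,8,9,7,3,5,8,6,7,8,9,10]
def b47 : List ℕ := []
def a48 : List ℕ := [0,5,6,5,7]
def c48 : List ℕ := [0,5,6,5,7]
def a49 : List ℕ := [1,7,8,6,5,6,8,7,9,8,6,4,6,8,9]
def c49 : List ℕ := [1,7,8,6,5,6,8,7,9,8,6,4,6,8,9]
def a50 : List ℕ := [5,6,5,8,7,2,6,4,8,6,9,8,6,4,6,8,9]
def c50 : List ℕ := [5,6,5,8,7,2,6,4,8,6,9,8,6,4,6,8,9]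
def a51 : List ℕ := [4,2,4,8,7,2,4,8,6,7,3,9,8,6,4,2,6,5,8,9,6,4,8,7,3,5]
def c51 : List ℕ := [4,2,4,8,7,2,4,8,6,7,3,9,8,6,4,2,6,5,8,9,6,4,8,7,3,5]
def a52 : List ℕ := [4,6,5,8,6,5,8,7,9,8,6,4,6,8]
def c52 : List ℕ := [4,6,5,8,6,5,8,7,9,8,6,4,6,8]
def a53 : List ℕ := [5,1,6,5,8,6,4,9,8,6,4]
def c53 : List ℕ := [5,1,6,5,8,6,4,9,8,6,4]
def a54 : List ℕ := [2,0,3,10,9,8,6,7,8,9,10]
def b54 : List ℕ := []
def a55 : List ℕ := [4,8,6,7,8,6,4,7,9,8,6,4,6,8,9]
def c55 : List ℕ := [4,8,6,7,8,6,4,7,9,8,6,4,6,8,9]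
def a56 : List ℕ := [6,5,1,8,6,4,8]
def c56 : List ℕ := [6,5,1,8,6,4,8]
def a57 : List ℕ := [6,5,1,8,6,7,8,9,8,6,4,7,8]
def c57 : List ℕ := [6,5,1,8,6,7,8,9,8,6,4,7,8]
def a58 : List ℕ := [1,8,6,8,7,8,6,9,8,6,7,8,9]
def c58 : List ℕ := [1,8,6,8,7,8,6,9,8,6,7,8,9]
def a59 : List ℕ := [4,8,6,5,8,7,8,6]
def c59 : List ℕ := [4,8,6,5,8,7,8,6]
def a60 : List ℕ := [6,5,1,8,6,4,9,8,6]
def c60 : List ℕ := [6,5,1,8,6,4,9,8,6]
def a61 : List ℕ := [0,7,3,1,8,6,9,8,7,3]
def c61 : List ℕ := [0,7,3,1,8,6,9,8,7,3]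
def a62 : List ℕ := [2,8,7,3,5,6,4,8,9,8,6,10]
def b62 : List ℕ := [2,7,8,6,4,2,9,8,6,7,8,9,10,9,8,6,7,8,9,10]
def m62 : List ℕ := [2,7,8,6,4,2,9,8,6,7,8,9,10,9,8,6,7,8,9]
def c62_1 : List ℕ := [6,5,7,3,8,7,2,7,9,8,6,7,8,9]
def c62_2 : List ℕ := [2,8,7,3,5,6,4,8,9,8,6]
def a63 : List ℕ := [5,6,4,2,8,6,5,9,8,6,4,3,6,5,8,7,10,9,8,6,4,3,6,8,9,10,7,8,6,5,3,6]
def b63 : List ℕ := [7,2,4,3,6,4,3,7,10,9,8,6,4,2,6,8,9,10,7,8,9]
def m63 : List ℕ := [1,4,3,1,10,9,8,6,4,7,2,8,9,10,7,8,9]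
def c63_1 : List ℕ := [1,7,3,5,3,6,4,2,8,9]
def c63_2 : List ℕ := [4,7,3,8,6,5,6,8,7,3,5,7,6,9,8,6,4,3,6,8,9,7,8,6,5,3,6]
def a64 : List ℕ := [8,6,5,2,6,7,3,5,8,7,2,5,9,8,6,7,3,4,8,9,10,9,8,6,4,2,6,4,8,9,7,8,6,4,3]
def c64 : List ℕ := [1,7,3,5,3,6,4,2,8,9,8,7,2,4]
def a65 : List ℕ := [5,8,6,4,8,7,3,5,6,9,8,6,7,3,5,8,10,9,8,6,7,3,5,8,9,10,6,8,7,3]
def b65 : List ℕ := [1,5,10,9,8,6,7,3,5,8,9,10,6,8,9,7,3,8,6,5,6,8,9,10]
def m65 : List ℕ := [1,5,10,9,8,6,7,3,5,8,9,10,6,8,9,7,3,8,6,5,6,8,9]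
def c65_1 : List ℕ := [0,3,1,4,6,8,7,3,4,9,8,6,4,7,8,9]
def c65_2 : List ℕ := [4,2,0,7,2,8,6,5,7,3,8,9,8,6,7,3,5,8,9,6,8,7,3]
def a66 : List ℕ := [5,6,4,2,8,9,8,6,7,8,10,9,8,6,7,3,4,8,9,10,6,8,7]
def b66 : List ℕ := [3,1,5,6,8,7,3,9,8,6,4,2,6,4,8,9,10,9,8,6,4,7,8,9,10]
def m66 : List ℕ := [3,1,5,6,8,7,3,9,8,6,4,2,6,4,8,9,10,9,8,6,4,7,8,9]
def c66_1 : List ℕ := [2,4,1,9,8,6,4,7,8,9]
def c66_2 : List ℕ := [2,7,3,6,4,8,6,5,2,6,8,9,8,6,7,3,4,8,9,6,8,7]
def a67 : List ℕ := [0,5,2,6,9,8,6,4,2,6,4,8,9,6,10]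
def b67 : List ℕ := [3,5,6,8,9,10]
def m67 : List ℕ := [3,5,6,8,9]
def c67_1 : List ℕ := [3,5,6,8,9]
def c67_2 : List ℕ := [0,5,2,6,9,8,6,4,2,6,4,8,9,6]
def a68 : List ℕ := [1,5,3,6,4,2,8,6,4,2,8,6,9,8,6,7,3,5,8,6,10,9,8,6,4,2,6,8,9,10,7,8,9,6,8,7,3,5,2,7,8,9,6,8,7,3]
def m68 : List ℕ := [1,5,6,4,8,9,10,9,8,6,4,7,8,9]
def c68_1 : List ℕ := [1,6,5,8,6,4,3,7,2,9,8,6,4,7,8,9]
def c68_2 : List ℕ := [1,8,6,5,2,5,6,8,7,3,5,9,8,6,4,7,8,9]
def c68_3 : List ℕ := [3,8,6,5,3,6,8,7,8,6,5,3,9,8,6,4,3,6,4,8,9,7,8,6,4,3]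
def a69 : List ℕ := [0,4,7,8,6,5,7,3,7,9,8,6,7,2,4,8,9,10,9,8,6,4,2,6,8,9,10,7,8,9,6,4,8,7,3,4,7,8,9,10,6,8,9,7,3,5,8,6,7,8,9,10]
def c69 : List ℕ := [3,4,3,7,3,8,6,4,2,8,6,4,9,8,6,4,2,6,5,8,9,6,8,7,2,4,8]
def a70 : List ℕ := [0,4,2,8,7,3,6,4]
def c70 : List ℕ := [0,4,2,8,7,3,6,4]
def a71 : List ℕ := [2,6,8,7,3,5,6,4,7,8,6,9,8,10,9,8,6,7,2,5,8,9,10,6,8,9,7,3,8,6,4,6,8,9,10]
def b71 : List ℕ := [2,0,3,10,9,8,6,7,2,5,8,9,10,6,8,9,7,3,8,6,5,6,8,9,10]
def m71 : List ℕ := [2,0,3,10,9,8,6,7,2,5,8,9,10,6,8,9,7,3,8,6,5,6,8,9]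
def c71_1 : List ℕ := [2,5,0,6,8,7,3,4,9,8,6,4,7,8,9]
def c71_2 : List ℕ := [8,6,5,2,6,8,7,2,8,6,4,3,9,8,6,7,2,4,8,9,6]
def a72 : List ℕ := [0,4,1,2,7,3,8,6,5,6,8,9,8,6,4,3,6,8,9,7,2,10]
def b72 : List ℕ := [5,8,6,4,3,6,8,7,2,9,8,6,4,6,8,9,10,9,8,6,4,2,6,8,9,10,7,8,9,6,4,8,7,2,5,7,8,9,10,6,8,9,7,2,4,8,6,7,8,9,10]
def m72 : List ℕ := [5,8,6,4,3,6,8,7,2,9,8,6,4,6,8,9,10,9,8,6,4,2,6,8,9,10,7,8,9,6,4,8,7,2,5,7,8,9,10,6,8,9,7,2,4,8,6,7,8,9]
def c72_1 : List ℕ := [2,8,7,8,6,4,2,5,8,7,6,4,9,8,6,7,8,9]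
def c72_2 : List ℕ := [0,4,1,2,7,3,8,6,5,6,8,9,8,6,4,3,6,8,9,7,2]
def a73 : List ℕ := [6,5,1,2,8,7,6,8,10,9,8,6,7,2,4,8,9,10,6]
def c73 : List ℕ := [2,7,3,5,8,7,8,6,4,8,6,9,8,6,4,3,6,8,9,7,2]
def a74 : List ℕ := [2,0,3,10,9,8,6,7,2,5,8,9,10,6,8,9,7,3,8,6,5,6,8,9,10]
def b74 : List ℕ := []
def a75 : List ℕ := [1,7,8,6,5,2,5,8,7,8]
def c75 : List ℕ := [1,7,8,6,5,2,5,8,7,8]
def a76 : List ℕ := [1,4,8,7,2,6,9,8,6,4,7,8]
def c76 : List ℕ := [1,4,8,7,2,6,9,8,6,4,7,8]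
def a77 : List ℕ := [4,3,5,6,7,3,8,6,4,2,7,6]
def c77 : List ℕ := [4,3,5,6,7,3,8,6,4,2,7,6]
def a78 : List ℕ := [3,0,6,4,6,8,7,2,5,7,3,9,8,6,4,2,6]
def c78 : List ℕ := [3,0,6,4,6,8,7,2,5,7,3,9,8,6,4,2,6]
def a79 : List ℕ := [0,5,8,6,7,8,6,5,10]
def b79 : List ℕ := [2,8,7,3,6,4,6,5,3,8,6,5,10,9,8,6,4,7,2,8,9,10,7,8,9,6,4,3,8,6,7,8,9,10]
def m79 : List ℕ := [2,8,7,3,6,4,6,5,3,8,6,5,10,9,8,6,4,7,2,8,9,10,7,8,9,6,4,3,8,6,7,8,9]
def c79_1 : List ℕ := [2,0,4,2,7,3,8,7,2,5,6,9,8,6,7,8,9]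
def c79_2 : List ℕ := [0,5,8,6,7,8,6,5]
def a80 : List ℕ := [0,8,7,2,4,3,8,6,5,8,7,9,10,9,8]
def c80 : List ℕ := [4,0,2,8,6,4,8,6,8,9,8,6,5]
def a81 : List ℕ := [2,5,7,6,5,2,4,8,6,5,2,9,8,6,4,3,6,8,9,7,8,6,5,3,10]
def b81 : List ℕ := [2,4,6,8,9,10]
def m81 : List ℕ := [2,4,6,8,9]
def c81_1 : List ℕ := [2,4,6,8,9]
def c81_2 : List ℕ := [2,5,7,6,5,2,4,8,6,5,2,9,8,6,4,3,6,8,9,7,8,6,5,3]

end Cfsg.Agent.CoOneType.TopWords
end

-- part: CoOneType/TopChk
section
/-!
# Equalities of words in `K`, checked on the base points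
-/

set_option autoImplicit false
set_option maxRecDepth 100000

namespace Cfsg.Agent.CoOneType.TopChk

open Cfsg.Agent.CoOneType.TopRules Cfsg.Agent.CoOneType.TopWords Cfsg.Agent.CoOneType.SuzPerm Cfsg.Agent.CoOneType.KOracle

theorem k18 : chk ((a9) ++ a17) (a17 ++ c18) = true := by decide +kernel

theorem k19 : chk ((a10) ++ a17) (a17 ++ c19) = true := by decide +kernel

theorem k20 : chk ((a11) ++ a17) (a17 ++ c20) = true := by decide +kernel

theorem k21 : chk ((a12) ++ a17) (a17 ++ c21) = true := by decide +kernel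

theorem k22 : chk ((a14 ++ (iw a13)) ++ a17) (a17 ++ c22) = true := by decide +kernel

theorem k23 : chk ((a15 ++ (iw a13)) ++ a17) (a17 ++ c23) = true := by decide +kernel

theorem k25 : chk ((a14 ++ (iw a13)) ++ a24) (a24 ++ c25) = true := by decide +kernel

theorem k26 : chk ((a9 ++ (a12 ++ (a11 ++ (iw a9)))) ++ a24) (a24 ++ c26) = true := by decide +kernel

theorem k27 : chk ((a12 ++ (a15 ++ (iw a13 ++ (iw a12)))) ++ a24) (a24 ++ c27) = true := by decide +kernel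

theorem k28 : chk ((iw a11 ++ (a9 ++ (a13 ++ (a15 ++ (iw a14 ++ (a12 ++ (iw a15 ++ (iw a10)))))))) ++ a24) (a24 ++ c28) = true := by decide +kernel

theorem k29_2 : chk (a17 ++ c29_1 ++ [10]) ((iw a13 ++ (iw a9 ++ (iw a10 ++ (iw a9)))) ++ (a24 ++ c29_2)) = true := by decide +kernel

theorem k30_2 : chk (a24 ++ c30_1 ++ [10]) ((iw a13 ++ (iw a14 ++ (iw a15 ++ (iw a13)))) ++ (a24 ++ c30_2)) = true := by decide +kernel

theorem k32 : chk ((a9) ++ a31) (a31 ++ c32) = true := by decide +kernel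

theorem k33 : chk ((a10) ++ a31) (a31 ++ c33) = true := by decide +kernel

theorem k34 : chk ((a13) ++ a31) (a31 ++ c34) = true := by decide +kernel

theorem k35 : chk ((a14) ++ a31) (a31 ++ c35) = true := by decide +kernel

theorem k36 : chk ((a15) ++ a31) (a31 ++ c36) = true := by decide +kernel

theorem k37 : chk ((a12 ++ (a15 ++ (iw a12))) ++ a31) (a31 ++ c37) = true := by decide +kernel

theorem k38 : chk ((a11 ++ (a12 ++ (a15 ++ (a12 ++ (iw a15 ++ (a12 ++ (a11))))))) ++ a31) (a31 ++ c38) = true := by decide +kernel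

theorem k39_1 : chk (m39) (([]) ++ (a16 ++ c39_1)) = true := by decide +kernel

theorem k39_2 : chk (b16 ++ c39_1 ++ [10]) (([]) ++ (a31 ++ c39_2)) = true := by decide +kernel

theorem k40 : chk ((a13) ++ b39) (b39 ++ c40) = true := by decide +kernel

theorem k40_0 : chk (a40) (a39 ++ c40 ++ iw a39) = true := by decide +kernel

theorem k41_2 : chk (a24 ++ c41_1 ++ [10]) (([]) ++ (a31 ++ c41_2)) = true := by decide +kernel

theorem k42_1 : chk (m42) (([]) ++ (b41 ++ c42_1)) = true := by decide +kernel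

theorem k42_2 : chk (a41 ++ c42_1 ++ [10]) ((iw a34 ++ (iw a40)) ++ (a41 ++ c42_2)) = true := by decide +kernel

theorem k42_a : chk (a42) (b41 ++ c42_2 ++ [10]) = true := by decide +kernel

theorem k43_1 : chk (m43) (([]) ++ (a42 ++ c43_1)) = true := by decide +kernel

theorem k43_2 : chk (b42 ++ c43_1 ++ [10]) ((a28 ++ (iw a25 ++ (iw a27 ++ (iw a26)))) ++ (b41 ++ c43_2)) = true := by decide +kernel

theorem k43_3 : chk (a41 ++ c43_2 ++ [10]) ((iw a35 ++ (iw a40 ++ (iw a38 ++ (iw a35 ++ (iw a37 ++ (iw a34 ++ (iw a35 ++ (a38 ++ (iw a35 ++ (iw a40 ++ (iw a34 ++ (iw a32)))))))))))) ++ (a41 ++ c43_3)) = true := by decide +kernel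

theorem k43_a : chk (a43) (b41 ++ c43_3 ++ [10] ++ iw m43) = true := by decide +kernel

theorem k44_2 : chk (a31 ++ c44_1 ++ [10]) ((iw a11 ++ (iw a12)) ++ (a31 ++ c44_2)) = true := by decide +kernel

theorem k45_1 : chk (m45) (([]) ++ (b41 ++ c45_1)) = true := by decide +kernel

theorem k45_2 : chk (a41 ++ c45_1 ++ [10]) ((iw a34 ++ (iw a40 ++ (iw a34))) ++ (a41 ++ c45_2)) = true := by decide +kernel

theorem k45_a : chk (a45) (b41 ++ c45_2 ++ [10]) = true := by decide +kernel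

theorem k46_1 : chk (m46) (([]) ++ (a45 ++ c46_1)) = true := by decide +kernel

theorem k46_2 : chk (b45 ++ c46_1 ++ [10]) ((iw a43 ++ (iw a28 ++ (a43 ++ (iw a27 ++ (iw a43))))) ++ (a45 ++ c46_2)) = true := by decide +kernel

theorem k46_a : chk (a46) (b45 ++ c46_2 ++ [10]) = true := by decide +kernel

theorem k48 : chk ((a18) ++ a47) (a47 ++ c48) = true := by decide +kernel

theorem k49 : chk ((a19) ++ a47) (a47 ++ c49) = true := by decide +kernel

theorem k50 : chk ((a20) ++ a47) (a47 ++ c50) = true := by decide +kernel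

theorem k51 : chk ((a21) ++ a47) (a47 ++ c51) = true := by decide +kernel

theorem k52 : chk ((a22) ++ a47) (a47 ++ c52) = true := by decide +kernel

theorem k53 : chk ((a23) ++ a47) (a47 ++ c53) = true := by decide +kernel

theorem k55 : chk ((a19) ++ a54) (a54 ++ c55) = true := by decide +kernel

theorem k56 : chk ((a22) ++ a54) (a54 ++ c56) = true := by decide +kernel

theorem k57 : chk ((a23) ++ a54) (a54 ++ c57) = true := by decide +kernel

theorem k58 : chk ((a18 ++ (a19 ++ (iw a18))) ++ a54) (a54 ++ c58) = true := by decide +kernel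

theorem k59 : chk ((a21 ++ (a23 ++ (iw a21))) ++ a54) (a54 ++ c59) = true := by decide +kernel

theorem k60 : chk ((iw a21 ++ (a23 ++ (a21))) ++ a54) (a54 ++ c60) = true := by decide +kernel

theorem k61 : chk ((a20 ++ (a21 ++ (a23 ++ (a21 ++ (iw a22 ++ (a23 ++ (iw a21 ++ (a20 ++ (iw a21 ++ (iw a23 ++ (iw a22 ++ (a21 ++ (iw a23 ++ (a21 ++ (a20))))))))))))))) ++ a54) (a54 ++ c61) = true := by decide +kernel

theorem k62_1 : chk (m62) (([]) ++ (a29 ++ c62_1)) = true := by decide +kernel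

theorem k62_2 : chk (b29 ++ c62_1 ++ [10]) ((a20 ++ (a21 ++ (iw a23 ++ (a22 ++ (iw a21 ++ (iw a23 ++ (iw a22 ++ (iw a20 ++ (a21 ++ (iw a23 ++ (a21 ++ (iw a23 ++ (a20 ++ (iw a21 ++ (iw a20))))))))))))))) ++ (a54 ++ c62_2)) = true := by decide +kernel

theorem k63_1 : chk (m63) (([]) ++ (a42 ++ c63_1)) = true := by decide +kernel

theorem k63_2 : chk (b42 ++ c63_1 ++ [10]) ((a43 ++ (a43 ++ (iw a28 ++ (iw a25 ++ (iw a43 ++ (iw a43)))))) ++ (b62 ++ c63_2)) = true := by decide +kernel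

theorem k63_a : chk (a63) (a62 ++ c63_2 ++ [10]) = true := by decide +kernel

theorem k63_b : chk (b63) (m63 ++ [10]) = true := by decide +kernel

theorem k64 : chk ((a25) ++ b63) (b63 ++ c64) = true := by decide +kernel

theorem k64_0 : chk (a64) (a63 ++ c64 ++ iw a63) = true := by decide +kernel

theorem k65_1 : chk (m65) (([]) ++ (a45 ++ c65_1)) = true := by decide +kernel

theorem k65_2 : chk (b45 ++ c65_1 ++ [10]) ((iw a25 ++ (iw a43 ++ (iw a26))) ++ (b62 ++ c65_2)) = true := by decide +kernel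

theorem k65_a : chk (a65) (a62 ++ c65_2 ++ [10]) = true := by decide +kernel

theorem k66_1 : chk (m66) (([]) ++ (a41 ++ c66_1)) = true := by decide +kernel

theorem k66_2 : chk (b41 ++ c66_1 ++ [10]) ((a43 ++ (a43 ++ (iw a28 ++ (iw a25 ++ (iw a43 ++ (iw a43)))))) ++ (b62 ++ c66_2)) = true := by decide +kernel

theorem k66_a : chk (a66) (a62 ++ c66_2 ++ [10]) = true := by decide +kernel

theorem k67_2 : chk (a54 ++ c67_1 ++ [10]) ((iw a22 ++ (iw a23 ++ (a22 ++ (a20 ++ (a21 ++ (iw a23 ++ (a21 ++ (iw a20 ++ (a21))))))))) ++ (a54 ++ c67_2)) = true := by decide +kernel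

theorem k68_1 : chk (m68) (([]) ++ (a62 ++ c68_1)) = true := by decide +kernel

theorem k68_2 : chk (b62 ++ c68_1 ++ [10]) (([]) ++ (b41 ++ c68_2)) = true := by decide +kernel

theorem k68_3 : chk (a41 ++ c68_2 ++ [10]) ((iw a40 ++ (iw a35 ++ (a38 ++ (iw a35 ++ (iw a40 ++ (iw a37 ++ (iw a35 ++ (iw a38 ++ (iw a34 ++ (iw a35 ++ (iw a37))))))))))) ++ (b66 ++ c68_3)) = true := by decide +kernel

theorem k68_a : chk (a68) (a66 ++ c68_3 ++ [10] ++ iw m68) = true := by decide +kernel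

theorem k69 : chk ((a68 ++ (a64 ++ (iw a55 ++ (a64)))) ++ b54) (b54 ++ c69) = true := by decide +kernel

theorem k69_0 : chk (a69) (a54 ++ c69 ++ iw a54) = true := by decide +kernel

theorem k70 : chk ((a69) ++ a47) (a47 ++ c70) = true := by decide +kernel

theorem k71_1 : chk (m71) (([]) ++ (a54 ++ c71_1)) = true := by decide +kernel

theorem k71_2 : chk (b54 ++ c71_1 ++ [10]) ((iw a59 ++ (iw a56 ++ (iw a64))) ++ (b54 ++ c71_2)) = true := by decide +kernel

theorem k71_a : chk (a71) (a54 ++ c71_2 ++ [10]) = true := by decide +kernel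

theorem k72_1 : chk (m72) (([]) ++ (a71 ++ c72_1)) = true := by decide +kernel

theorem k72_2 : chk (b71 ++ c72_1 ++ [10]) (([]) ++ (a47 ++ c72_2)) = true := by decide +kernel

theorem k73 : chk ((a18) ++ b72) (b72 ++ c73) = true := by decide +kernel

theorem k73_0 : chk (a73) (a72 ++ c73 ++ iw a72) = true := by decide +kernel

theorem k75 : chk ((a26) ++ a74) (a74 ++ c75) = true := by decide +kernel

theorem k76 : chk ((iw a25 ++ (a28 ++ (iw a25))) ++ a74) (a74 ++ c76) = true := by decide +kernel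

theorem k77 : chk ((a27 ++ (a26 ++ (iw a27))) ++ a74) (a74 ++ c77) = true := by decide +kernel

theorem k78 : chk ((a27 ++ (a28 ++ (iw a43))) ++ a74) (a74 ++ c78) = true := by decide +kernel

theorem k79_1 : chk (m79) (([]) ++ (a42 ++ c79_1)) = true := by decide +kernel

theorem k79_2 : chk (b42 ++ c79_1 ++ [10]) (([]) ++ (a74 ++ c79_2)) = true := by decide +kernel

theorem k80 : chk ((iw a25 ++ (a28 ++ (iw a25))) ++ b79) (b79 ++ c80) = true := by decide +kernel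

theorem k80_0 : chk (a80) (a79 ++ c80 ++ iw a79) = true := by decide +kernel

theorem k81_2 : chk (a74 ++ c81_1 ++ [10]) ((a43 ++ (iw a27 ++ (a28))) ++ (a74 ++ c81_2)) = true := by decide +kernel

end Cfsg.Agent.CoOneType.TopChk
end

-- part: CoOneType/TopClose
section
/-!
# Closure of a union of double cosets of `K`
-/

set_option autoImplicit false

namespace Cfsg.Agent.CoOneType.TopClose

open Cfsg.Agent.SporadicRecognition.CosetCert Cfsg.Agent.SporadicRecognition.CosetCertHyp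
open Cfsg.Agent.CoOneType.Chain Cfsg.Agent.CoOneType.TopRules

variable {G : Type*} [Group G]

/-- Everything we know about the node `i` of `n` nodes with representatives `X`. -/
structure Node (L : ℕ → G) (w : G) (X : ℕ → G) (n i : ℕ) : Prop where
  cov : ∃ (T A : List (List ℕ)), (∀ u ∈ T, S L (X i) u) ∧
    (∀ a ∈ A, ∃ j < n, ∃ b, ltB 11 b = true ∧ E L w (X i) a (X j) b) ∧
    ∀ k ∈ K L, ∃ s ∈ Subgroup.closure (ev L '' {u | u ∈ T}), ∃ a ∈ A, ∃ c ∈ C L, k = s * ev L a * c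

theorem stab_closure {L : ℕ → G} {p : G} {T : List (List ℕ)} (hT : ∀ u ∈ T, S L p u) {s : G}
    (hs : s ∈ Subgroup.closure (ev L '' {u | u ∈ T})) : Rel (K L) (p * s) p := by
  induction hs using Subgroup.closure_induction with
  | mem x hx => obtain ⟨u, hu, rfl⟩ := hx; exact hT u hu
  | one => rw [mul_one]; exact Rel.refl _
  | mul x y _ _ hx hy => rw [← mul_assoc]; exact (hx.mul y).trans hy
  | inv x _ hx =>
    have := hx.mul x⁻¹
    rw [mul_assoc, mul_inv_cancel, mul_one] at this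
    exact this.symm

theorem C_le_K (L : ℕ → G) : C L ≤ K L := by
  unfold C K
  apply Subgroup.closure_mono
  rintro _ ⟨n, hn, rfl⟩
  exact ⟨n, lt_trans (show n < 10 from hn) (show 10 < 11 by norm_num), rfl⟩

/-- The union of the double cosets. -/
def InU (L : ℕ → G) (X : ℕ → G) (n : ℕ) (q : G) : Prop := ∃ j < n, ∃ k ∈ K L, Rel (K L) q (X j * k)

theorem InU.mulK {L X : ℕ → G} {n : ℕ} {q : G} (h : InU L X n q) {k : G} (hk : k ∈ K L) : InU L X n (q * k) := by
  obtain ⟨j, hj, k', hk', h⟩ := h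
  refine ⟨j, hj, k' * k, Subgroup.mul_mem _ hk' hk, ?_⟩
  rw [← mul_assoc]
  exact h.mul k

theorem InU.mulw {L : ℕ → G} {w : G} (H : TopRel L w) {X : ℕ → G} {n : ℕ} (hN : ∀ i < n, Node L w X n i)
    {q : G} (h : InU L X n q) : InU L X n (q * w) := by
  obtain ⟨i, hi, k, hk, h⟩ := h
  obtain ⟨T, A, hT, hA, hc⟩ := (hN i hi).cov
  obtain ⟨s, hs, a, ha, c, hc, rfl⟩ := hc k hk
  obtain ⟨j, hj, b, hb, he⟩ := hA a ha
  refine ⟨j, hj, ev L b * c, Subgroup.mul_mem _ (ev_mem_K L hb) (C_le_K L hc), ?_⟩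
  refine (h.mul w).trans ?_
  have h1 : X i * (s * ev L a * c) * w = X i * s * (ev L a * (c * w)) := by simp only [mul_assoc]
  rw [h1, comm_w H hc]
  refine ((stab_closure hT hs).mul _).trans ?_
  have h2 : X i * (ev L a * (w * c)) = X i * ev L a * w * c := by simp only [mul_assoc]
  rw [h2, ← mul_assoc (X j)]
  exact he.mul c

/-- The whole group. -/
def Top (L : ℕ → G) (w : G) : Subgroup G := Subgroup.closure (L '' {x | x < 11} ∪ {w})

theorem top_covered {L : ℕ → G} {w : G} (H : TopRel L w) {X : ℕ → G} {n : ℕ} (hn : 0 < n) (h0 : X 0 = 1)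
    (hN : ∀ i < n, Node L w X n i) : ∀ q ∈ Top L w, InU L X n q := by
  intro q hq
  unfold Top at hq
  have hw : w⁻¹ = w := inv_self H.ww
  refine Subgroup.closure_induction_right (p := fun a _ => InU L X n a) ?_ ?_ ?_ hq
  · exact ⟨0, hn, 1, Subgroup.one_mem _, by rw [h0, mul_one]; exact Rel.refl _⟩
  · rintro a _ b (⟨x, hx, rfl⟩ | rfl) h
    · exact h.mulK (Subgroup.subset_closure ⟨x, hx, rfl⟩)
    · exact h.mulw H hN
  · rintro a _ b (⟨x, hx, rfl⟩ | rfl) h
    · exact h.mulK (Subgroup.inv_mem _ (Subgroup.subset_closure ⟨x, hx, rfl⟩))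
    · rw [hw]; exact h.mulw H hN

/-- the number of covering words is at most `e` -/
structure NodeE (L : ℕ → G) (w : G) (X : ℕ → G) (n i e : ℕ) : Prop where
  cov : ∃ (T A : List (List ℕ)), A.length ≤ e ∧ (∀ u ∈ T, S L (X i) u) ∧
    (∀ a ∈ A, ∃ j < n, ∃ b, ltB 11 b = true ∧ E L w (X i) a (X j) b) ∧
    ∀ k ∈ K L, ∃ s ∈ Subgroup.closure (ev L '' {u | u ∈ T}), ∃ a ∈ A, ∃ c ∈ C L, k = s * ev L a * c

theorem NodeE.node {L : ℕ → G} {w : G} {X : ℕ → G} {n i e : ℕ} (h : NodeE L w X n i e) : Node L w X n i := by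
  obtain ⟨T, A, _, h1, h2, h3⟩ := h.cov
  exact ⟨⟨T, A, h1, h2, h3⟩⟩

/-- Every element of the group is `κ X_i a c` with `κ ∈ K`, `c ∈ C` and `a` in a list of at most `e i` words. -/
theorem card_top {L : ℕ → G} {w : G} (H : TopRel L w) {X : ℕ → G} {n : ℕ} (hn : 0 < n) (h0 : X 0 = 1)
    (e : ℕ → ℕ) (hN : ∀ i < n, NodeE L w X n i (e i)) [Finite (K L)] [Finite (C L)] :
    Finite (Top L w) ∧ Nat.card (Top L w) ≤ (∑ i ∈ Finset.range n, e i) * (Nat.card (K L) * Nat.card (C L)) := by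
  classical
  have hcov := top_covered H hn h0 (fun i hi => (hN i hi).node)
  choose! T A hlen hT hA hK using fun i hi => (hN i hi).cov
  -- normal form
  have hnf : ∀ q ∈ Top L w, ∃ i < n, ∃ m < e i, ∃ c ∈ C L,
      q * (X i * (ev L ((A i).getD m []) * c))⁻¹ ∈ K L := by
    intro q hq
    obtain ⟨i, hi, k, hk, hR⟩ := hcov q hq
    obtain ⟨s, hs, a, ha, c, hc, rfl⟩ := hK i hi k hk
    obtain ⟨m, hm, rfl⟩ := List.getElem_of_mem ha
    refine ⟨i, hi, m, lt_of_lt_of_le hm (hlen i hi), c, hc, ?_⟩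
    rw [List.getD_eq_getElem _ _ hm]
    have h1 : Rel (K L) q (X i * s * (ev L (A i)[m] * c)) := by
      have : X i * (s * ev L (A i)[m] * c) = X i * s * (ev L (A i)[m] * c) := by simp only [mul_assoc]
      rwa [this] at hR
    have h2 := h1.trans ((stab_closure (hT i hi) hs).mul _)
    exact h2
  choose! I hI M hM c hc hR using hnf
  let F : Top L w → (Σ i : Fin n, Fin (e i)) × (K L × C L) := fun q =>
    (⟨⟨I q.1, hI q.1 q.2⟩, ⟨M q.1, hM q.1 q.2⟩⟩,
      (⟨q.1 * (X (I q.1) * (ev L ((A (I q.1)).getD (M q.1) []) * c q.1))⁻¹, hR q.1 q.2⟩, ⟨c q.1, hc q.1 q.2⟩))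
  have hF : Function.Injective F := by
    rintro ⟨a, ha⟩ ⟨b, hb⟩ h
    have h0 : (⟨⟨I a, hI a ha⟩, ⟨M a, hM a ha⟩⟩ : Σ i : Fin n, Fin (e i)) = ⟨⟨I b, hI b hb⟩, ⟨M b, hM b hb⟩⟩ :=
      congrArg (fun z => z.1) h
    have h1 : I a = I b := congrArg (fun z : Σ i : Fin n, Fin (e i) => (z.1 : ℕ)) h0
    have h1' : M a = M b := congrArg (fun z : Σ i : Fin n, Fin (e i) => (z.2 : ℕ)) h0
    have h2 : c a = c b := congrArg (fun z => (z.2.2 : G)) h
    have h3 : a * (X (I a) * (ev L ((A (I a)).getD (M a) []) * c a))⁻¹ =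
        b * (X (I b) * (ev L ((A (I b)).getD (M b) []) * c b))⁻¹ := congrArg (fun z => (z.2.1 : G)) h
    rw [h1, h1', h2] at h3
    exact Subtype.ext (mul_right_cancel h3)
  refine ⟨Finite.of_injective F hF, ?_⟩
  calc Nat.card (Top L w) ≤ Nat.card ((Σ i : Fin n, Fin (e i)) × (K L × C L)) :=
        Nat.card_le_card_of_injective F hF
    _ = _ := by
      rw [Nat.card_prod, Nat.card_prod]
      congr 1
      rw [Nat.card_eq_fintype_card, Fintype.card_sigma]
      simp only [Fintype.card_fin]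
      rw [Finset.sum_range]

end Cfsg.Agent.CoOneType.TopClose
end

-- part: CoOneType/TopFacts
section
/-!
# The facts of the certificate
-/

set_option autoImplicit false
set_option maxRecDepth 100000

namespace Cfsg.Agent.CoOneType.TopFacts

open Cfsg.Agent.SporadicRecognition.CosetCert
open Cfsg.Agent.CoOneType.Chain Cfsg.Agent.CoOneType.TopRules
open Cfsg.Agent.CoOneType.TopWords Cfsg.Agent.CoOneType.TopChk Cfsg.Agent.CoOneType.KOracle

variable {G : Type*} [Group G]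

/-- representative of the node `0` -/
def x0 (_ : ℕ → G) (_ : G) : G := 1

theorem f0 {L : ℕ → G} {w : G} (_ : TopRel L w) : S L (x0 L w) a0 := S.init (by decide +kernel)

theorem f1 {L : ℕ → G} {w : G} (_ : TopRel L w) : S L (x0 L w) a1 := S.init (by decide +kernel)

theorem f2 {L : ℕ → G} {w : G} (_ : TopRel L w) : S L (x0 L w) a2 := S.init (by decide +kernel)

theorem f3 {L : ℕ → G} {w : G} (_ : TopRel L w) : S L (x0 L w) a3 := S.init (by decide +kernel)

theorem l4 : ltB 11 a4 = true := by decide +kernel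

theorem f4 {L : ℕ → G} {w : G} (_ : TopRel L w) : S L (x0 L w) a4 := S.init (by decide +kernel)

theorem f5 {L : ℕ → G} {w : G} (_ : TopRel L w) : S L (x0 L w) a5 := S.init (by decide +kernel)

theorem f6 {L : ℕ → G} {w : G} (_ : TopRel L w) : S L (x0 L w) a6 := S.init (by decide +kernel)

theorem f7 {L : ℕ → G} {w : G} (_ : TopRel L w) : S L (x0 L w) a7 := S.init (by decide +kernel)

/-- representative of the node `1` -/
def x1 (L : ℕ → G) (w : G) : G := x0 L w * ev L a8 * w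

theorem f8 {L : ℕ → G} {w : G} (_ : TopRel L w) : E L w (x0 L w) a8 (x1 L w) b8 := E.def a8

theorem l9 : ltB 11 a9 = true := by decide +kernel

theorem f9 {L : ℕ → G} {w : G} (H : TopRel L w) : S L (x1 L w) a9 :=
  trans_rule H (p := x0 L w) (s := a0) (A := a8) (B := b8) (c := c9) (f0 H) (f8 H)
    (by decide +kernel) (by decide +kernel)
    (congrArg (ev L) (by decide +kernel : (a0) ++ a8 = a8 ++ c9))
    (congrArg (ev L) (by decide +kernel : a9 = b8 ++ c9 ++ iw b8))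

theorem l10 : ltB 11 a10 = true := by decide +kernel

theorem f10 {L : ℕ → G} {w : G} (H : TopRel L w) : S L (x1 L w) a10 :=
  trans_rule H (p := x0 L w) (s := a1) (A := a8) (B := b8) (c := c10) (f1 H) (f8 H)
    (by decide +kernel) (by decide +kernel)
    (congrArg (ev L) (by decide +kernel : (a1) ++ a8 = a8 ++ c10))
    (congrArg (ev L) (by decide +kernel : a10 = b8 ++ c10 ++ iw b8))

theorem l11 : ltB 11 a11 = true := by decide +kernel

theorem f11 {L : ℕ → G} {w : G} (H : TopRel L w) : S L (x1 L w) a11 :=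
  trans_rule H (p := x0 L w) (s := a2) (A := a8) (B := b8) (c := c11) (f2 H) (f8 H)
    (by decide +kernel) (by decide +kernel)
    (congrArg (ev L) (by decide +kernel : (a2) ++ a8 = a8 ++ c11))
    (congrArg (ev L) (by decide +kernel : a11 = b8 ++ c11 ++ iw b8))

theorem l12 : ltB 11 a12 = true := by decide +kernel

theorem f12 {L : ℕ → G} {w : G} (H : TopRel L w) : S L (x1 L w) a12 :=
  trans_rule H (p := x0 L w) (s := a3) (A := a8) (B := b8) (c := c12) (f3 H) (f8 H)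
    (by decide +kernel) (by decide +kernel)
    (congrArg (ev L) (by decide +kernel : (a3) ++ a8 = a8 ++ c12))
    (congrArg (ev L) (by decide +kernel : a12 = b8 ++ c12 ++ iw b8))

theorem l13 : ltB 11 a13 = true := by decide +kernel

theorem f13 {L : ℕ → G} {w : G} (H : TopRel L w) : S L (x1 L w) a13 :=
  trans_rule H (p := x0 L w) (s := a5) (A := a8) (B := b8) (c := c13) (f5 H) (f8 H)
    (by decide +kernel) (by decide +kernel)
    (congrArg (ev L) (by decide +kernel : (a5) ++ a8 = a8 ++ c13))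
    (congrArg (ev L) (by decide +kernel : a13 = b8 ++ c13 ++ iw b8))

theorem l14 : ltB 11 a14 = true := by decide +kernel

theorem f14 {L : ℕ → G} {w : G} (H : TopRel L w) : S L (x1 L w) a14 :=
  trans_rule H (p := x0 L w) (s := a6) (A := a8) (B := b8) (c := c14) (f6 H) (f8 H)
    (by decide +kernel) (by decide +kernel)
    (congrArg (ev L) (by decide +kernel : (a6) ++ a8 = a8 ++ c14))
    (congrArg (ev L) (by decide +kernel : a14 = b8 ++ c14 ++ iw b8))

theorem l15 : ltB 11 a15 = true := by decide +kernel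

theorem f15 {L : ℕ → G} {w : G} (H : TopRel L w) : S L (x1 L w) a15 :=
  trans_rule H (p := x0 L w) (s := a7) (A := a8) (B := b8) (c := c15) (f7 H) (f8 H)
    (by decide +kernel) (by decide +kernel)
    (congrArg (ev L) (by decide +kernel : (a7) ++ a8 = a8 ++ c15))
    (congrArg (ev L) (by decide +kernel : a15 = b8 ++ c15 ++ iw b8))

theorem f16 {L : ℕ → G} {w : G} (H : TopRel L w) : E L w (x1 L w) a16 (x1 L w) b16 :=
  hex_edge H (q := x0 L w) (m := m16) (s1 := []) (A1 := b8) (B1 := a8) (c1 := c16_1)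
    (s2 := iw a4) (A2 := a8) (B2 := b8) (c2 := c16_2)
    S.nil ((f8 H).rev H) (by decide +kernel)
    (congrArg (ev L) (by decide +kernel : m16 = ([]) ++ (b8 ++ c16_1)))
    ((f4 H).inv H.toLet l4) (f8 H) (by decide +kernel)
    (congrArg (ev L) (by decide +kernel : a8 ++ c16_1 ++ [10] = (iw a4) ++ (a8 ++ c16_2)))
    (congrArg (ev L) (by decide +kernel : a16 = b8 ++ c16_2 ++ [10]))
    (congrArg (ev L) (by decide +kernel : b16 = m16 ++ [10]))

/-- representative of the node `2` -/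
def x2 (L : ℕ → G) (w : G) : G := x1 L w * ev L a17 * w

theorem f17 {L : ℕ → G} {w : G} (_ : TopRel L w) : E L w (x1 L w) a17 (x2 L w) b17 := E.def a17

theorem l18 : ltB 11 a18 = true := by decide +kernel

theorem f18 {L : ℕ → G} {w : G} (H : TopRel L w) : S L (x2 L w) a18 :=
  trans_rule H (p := x1 L w) (s := a9) (A := a17) (B := b17) (c := c18) (f9 H) (f17 H)
    (by decide +kernel) (by decide +kernel)
    (eq_of_chk H.toLet k18)
    (congrArg (ev L) (by decide +kernel : a18 = b17 ++ c18 ++ iw b17))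

theorem f19 {L : ℕ → G} {w : G} (H : TopRel L w) : S L (x2 L w) a19 :=
  trans_rule H (p := x1 L w) (s := a10) (A := a17) (B := b17) (c := c19) (f10 H) (f17 H)
    (by decide +kernel) (by decide +kernel)
    (eq_of_chk H.toLet k19)
    (congrArg (ev L) (by decide +kernel : a19 = b17 ++ c19 ++ iw b17))

theorem l20 : ltB 11 a20 = true := by decide +kernel

theorem f20 {L : ℕ → G} {w : G} (H : TopRel L w) : S L (x2 L w) a20 :=
  trans_rule H (p := x1 L w) (s := a11) (A := a17) (B := b17) (c := c20) (f11 H) (f17 H)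
    (by decide +kernel) (by decide +kernel)
    (eq_of_chk H.toLet k20)
    (congrArg (ev L) (by decide +kernel : a20 = b17 ++ c20 ++ iw b17))

theorem l21 : ltB 11 a21 = true := by decide +kernel

theorem f21 {L : ℕ → G} {w : G} (H : TopRel L w) : S L (x2 L w) a21 :=
  trans_rule H (p := x1 L w) (s := a12) (A := a17) (B := b17) (c := c21) (f12 H) (f17 H)
    (by decide +kernel) (by decide +kernel)
    (eq_of_chk H.toLet k21)
    (congrArg (ev L) (by decide +kernel : a21 = b17 ++ c21 ++ iw b17))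

theorem l22 : ltB 11 a22 = true := by decide +kernel

theorem f22 {L : ℕ → G} {w : G} (H : TopRel L w) : S L (x2 L w) a22 :=
  trans_rule H (p := x1 L w) (s := a14 ++ (iw a13)) (A := a17) (B := b17) (c := c22) (S.append (f14 H) ((f13 H).inv H.toLet l13)) (f17 H)
    (by decide +kernel) (by decide +kernel)
    (eq_of_chk H.toLet k22)
    (congrArg (ev L) (by decide +kernel : a22 = b17 ++ c22 ++ iw b17))

theorem l23 : ltB 11 a23 = true := by decide +kernel

theorem f23 {L : ℕ → G} {w : G} (H : TopRel L w) : S L (x2 L w) a23 :=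
  trans_rule H (p := x1 L w) (s := a15 ++ (iw a13)) (A := a17) (B := b17) (c := c23) (S.append (f15 H) ((f13 H).inv H.toLet l13)) (f17 H)
    (by decide +kernel) (by decide +kernel)
    (eq_of_chk H.toLet k23)
    (congrArg (ev L) (by decide +kernel : a23 = b17 ++ c23 ++ iw b17))

/-- representative of the node `3` -/
def x3 (L : ℕ → G) (w : G) : G := x1 L w * ev L a24 * w

theorem f24 {L : ℕ → G} {w : G} (_ : TopRel L w) : E L w (x1 L w) a24 (x3 L w) b24 := E.def a24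

theorem l25 : ltB 11 a25 = true := by decide +kernel

theorem f25 {L : ℕ → G} {w : G} (H : TopRel L w) : S L (x3 L w) a25 :=
  trans_rule H (p := x1 L w) (s := a14 ++ (iw a13)) (A := a24) (B := b24) (c := c25) (S.append (f14 H) ((f13 H).inv H.toLet l13)) (f24 H)
    (by decide +kernel) (by decide +kernel)
    (eq_of_chk H.toLet k25)
    (congrArg (ev L) (by decide +kernel : a25 = b24 ++ c25 ++ iw b24))

theorem l26 : ltB 11 a26 = true := by decide +kernel

theorem f26 {L : ℕ → G} {w : G} (H : TopRel L w) : S L (x3 L w) a26 :=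
  trans_rule H (p := x1 L w) (s := a9 ++ (a12 ++ (a11 ++ (iw a9)))) (A := a24) (B := b24) (c := c26) (S.append (f9 H) (S.append (f12 H) (S.append (f11 H) ((f9 H).inv H.toLet l9)))) (f24 H)
    (by decide +kernel) (by decide +kernel)
    (eq_of_chk H.toLet k26)
    (congrArg (ev L) (by decide +kernel : a26 = b24 ++ c26 ++ iw b24))

theorem l27 : ltB 11 a27 = true := by decide +kernel

theorem f27 {L : ℕ → G} {w : G} (H : TopRel L w) : S L (x3 L w) a27 :=
  trans_rule H (p := x1 L w) (s := a12 ++ (a15 ++ (iw a13 ++ (iw a12)))) (A := a24) (B := b24) (c := c27) (S.append (f12 H) (S.append (f15 H) (S.append ((f13 H).inv H.toLet l13) ((f12 H).inv H.toLet l12)))) (f24 H)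
    (by decide +kernel) (by decide +kernel)
    (eq_of_chk H.toLet k27)
    (congrArg (ev L) (by decide +kernel : a27 = b24 ++ c27 ++ iw b24))

theorem l28 : ltB 11 a28 = true := by decide +kernel

theorem f28 {L : ℕ → G} {w : G} (H : TopRel L w) : S L (x3 L w) a28 :=
  trans_rule H (p := x1 L w) (s := iw a11 ++ (a9 ++ (a13 ++ (a15 ++ (iw a14 ++ (a12 ++ (iw a15 ++ (iw a10)))))))) (A := a24) (B := b24) (c := c28) (S.append ((f11 H).inv H.toLet l11) (S.append (f9 H) (S.append (f13 H) (S.append (f15 H) (S.append ((f14 H).inv H.toLet l14) (S.append (f12 H) (S.append ((f15 H).inv H.toLet l15) ((f10 H).inv H.toLet l10)))))))) (f24 H)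
    (by decide +kernel) (by decide +kernel)
    (eq_of_chk H.toLet k28)
    (congrArg (ev L) (by decide +kernel : a28 = b24 ++ c28 ++ iw b24))

theorem f29 {L : ℕ → G} {w : G} (H : TopRel L w) : E L w (x3 L w) a29 (x2 L w) b29 :=
  hex_edge H (q := x1 L w) (m := m29) (s1 := []) (A1 := b17) (B1 := a17) (c1 := c29_1)
    (s2 := iw a13 ++ (iw a9 ++ (iw a10 ++ (iw a9)))) (A2 := a24) (B2 := b24) (c2 := c29_2)
    S.nil ((f17 H).rev H) (by decide +kernel)
    (congrArg (ev L) (by decide +kernel : m29 = ([]) ++ (b17 ++ c29_1)))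
    (S.append ((f13 H).inv H.toLet l13) (S.append ((f9 H).inv H.toLet l9) (S.append ((f10 H).inv H.toLet l10) ((f9 H).inv H.toLet l9)))) (f24 H) (by decide +kernel)
    (eq_of_chk H.toLet k29_2)
    (congrArg (ev L) (by decide +kernel : a29 = b24 ++ c29_2 ++ [10]))
    (congrArg (ev L) (by decide +kernel : b29 = m29 ++ [10]))

theorem f30 {L : ℕ → G} {w : G} (H : TopRel L w) : E L w (x3 L w) a30 (x3 L w) b30 :=
  hex_edge H (q := x1 L w) (m := m30) (s1 := []) (A1 := b24) (B1 := a24) (c1 := c30_1)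
    (s2 := iw a13 ++ (iw a14 ++ (iw a15 ++ (iw a13)))) (A2 := a24) (B2 := b24) (c2 := c30_2)
    S.nil ((f24 H).rev H) (by decide +kernel)
    (congrArg (ev L) (by decide +kernel : m30 = ([]) ++ (b24 ++ c30_1)))
    (S.append ((f13 H).inv H.toLet l13) (S.append ((f14 H).inv H.toLet l14) (S.append ((f15 H).inv H.toLet l15) ((f13 H).inv H.toLet l13)))) (f24 H) (by decide +kernel)
    (eq_of_chk H.toLet k30_2)
    (congrArg (ev L) (by decide +kernel : a30 = b24 ++ c30_2 ++ [10]))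
    (congrArg (ev L) (by decide +kernel : b30 = m30 ++ [10]))

/-- representative of the node `4` -/
def x4 (L : ℕ → G) (w : G) : G := x1 L w * ev L a31 * w

theorem f31 {L : ℕ → G} {w : G} (_ : TopRel L w) : E L w (x1 L w) a31 (x4 L w) b31 := E.def a31

theorem l32 : ltB 11 a32 = true := by decide +kernel

theorem f32 {L : ℕ → G} {w : G} (H : TopRel L w) : S L (x4 L w) a32 :=
  trans_rule H (p := x1 L w) (s := a9) (A := a31) (B := b31) (c := c32) (f9 H) (f31 H)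
    (by decide +kernel) (by decide +kernel)
    (eq_of_chk H.toLet k32)
    (congrArg (ev L) (by decide +kernel : a32 = b31 ++ c32 ++ iw b31))

theorem f33 {L : ℕ → G} {w : G} (H : TopRel L w) : S L (x4 L w) a33 :=
  trans_rule H (p := x1 L w) (s := a10) (A := a31) (B := b31) (c := c33) (f10 H) (f31 H)
    (by decide +kernel) (by decide +kernel)
    (eq_of_chk H.toLet k33)
    (congrArg (ev L) (by decide +kernel : a33 = b31 ++ c33 ++ iw b31))

theorem l34 : ltB 11 a34 = true := by decide +kernel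

theorem f34 {L : ℕ → G} {w : G} (H : TopRel L w) : S L (x4 L w) a34 :=
  trans_rule H (p := x1 L w) (s := a13) (A := a31) (B := b31) (c := c34) (f13 H) (f31 H)
    (by decide +kernel) (by decide +kernel)
    (eq_of_chk H.toLet k34)
    (congrArg (ev L) (by decide +kernel : a34 = b31 ++ c34 ++ iw b31))

theorem l35 : ltB 11 a35 = true := by decide +kernel

theorem f35 {L : ℕ → G} {w : G} (H : TopRel L w) : S L (x4 L w) a35 :=
  trans_rule H (p := x1 L w) (s := a14) (A := a31) (B := b31) (c := c35) (f14 H) (f31 H)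
    (by decide +kernel) (by decide +kernel)
    (eq_of_chk H.toLet k35)
    (congrArg (ev L) (by decide +kernel : a35 = b31 ++ c35 ++ iw b31))

theorem f36 {L : ℕ → G} {w : G} (H : TopRel L w) : S L (x4 L w) a36 :=
  trans_rule H (p := x1 L w) (s := a15) (A := a31) (B := b31) (c := c36) (f15 H) (f31 H)
    (by decide +kernel) (by decide +kernel)
    (eq_of_chk H.toLet k36)
    (congrArg (ev L) (by decide +kernel : a36 = b31 ++ c36 ++ iw b31))

theorem l37 : ltB 11 a37 = true := by decide +kernel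

theorem f37 {L : ℕ → G} {w : G} (H : TopRel L w) : S L (x4 L w) a37 :=
  trans_rule H (p := x1 L w) (s := a12 ++ (a15 ++ (iw a12))) (A := a31) (B := b31) (c := c37) (S.append (f12 H) (S.append (f15 H) ((f12 H).inv H.toLet l12))) (f31 H)
    (by decide +kernel) (by decide +kernel)
    (eq_of_chk H.toLet k37)
    (congrArg (ev L) (by decide +kernel : a37 = b31 ++ c37 ++ iw b31))

theorem l38 : ltB 11 a38 = true := by decide +kernel

theorem f38 {L : ℕ → G} {w : G} (H : TopRel L w) : S L (x4 L w) a38 :=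
  trans_rule H (p := x1 L w) (s := a11 ++ (a12 ++ (a15 ++ (a12 ++ (iw a15 ++ (a12 ++ (a11))))))) (A := a31) (B := b31) (c := c38) (S.append (f11 H) (S.append (f12 H) (S.append (f15 H) (S.append (f12 H) (S.append ((f15 H).inv H.toLet l15) (S.append (f12 H) (f11 H))))))) (f31 H)
    (by decide +kernel) (by decide +kernel)
    (eq_of_chk H.toLet k38)
    (congrArg (ev L) (by decide +kernel : a38 = b31 ++ c38 ++ iw b31))

theorem f39 {L : ℕ → G} {w : G} (H : TopRel L w) : E L w (x4 L w) a39 (x1 L w) b39 :=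
  hex_edge H (q := x1 L w) (m := m39) (s1 := []) (A1 := a16) (B1 := b16) (c1 := c39_1)
    (s2 := []) (A2 := a31) (B2 := b31) (c2 := c39_2)
    S.nil (f16 H) (by decide +kernel)
    (eq_of_chk H.toLet k39_1)
    S.nil (f31 H) (by decide +kernel)
    (eq_of_chk H.toLet k39_2)
    (congrArg (ev L) (by decide +kernel : a39 = b31 ++ c39_2 ++ [10]))
    (congrArg (ev L) (by decide +kernel : b39 = m39 ++ [10]))

theorem l40 : ltB 11 a40 = true := by decide +kernel

theorem f40 {L : ℕ → G} {w : G} (H : TopRel L w) : S L (x4 L w) a40 :=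
  trans_rule H (p := x1 L w) (s := a13) (A := b39) (B := a39) (c := c40) (f13 H) ((f39 H).rev H)
    (by decide +kernel) (by decide +kernel)
    (eq_of_chk H.toLet k40)
    (eq_of_chk H.toLet k40_0)

theorem f41 {L : ℕ → G} {w : G} (H : TopRel L w) : E L w (x4 L w) a41 (x3 L w) b41 :=
  hex_edge H (q := x1 L w) (m := m41) (s1 := []) (A1 := b24) (B1 := a24) (c1 := c41_1)
    (s2 := []) (A2 := a31) (B2 := b31) (c2 := c41_2)
    S.nil ((f24 H).rev H) (by decide +kernel)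
    (congrArg (ev L) (by decide +kernel : m41 = ([]) ++ (b24 ++ c41_1)))
    S.nil (f31 H) (by decide +kernel)
    (eq_of_chk H.toLet k41_2)
    (congrArg (ev L) (by decide +kernel : a41 = b31 ++ c41_2 ++ [10]))
    (congrArg (ev L) (by decide +kernel : b41 = m41 ++ [10]))

theorem f42 {L : ℕ → G} {w : G} (H : TopRel L w) : E L w (x3 L w) a42 (x3 L w) b42 :=
  hex_edge H (q := x4 L w) (m := m42) (s1 := []) (A1 := b41) (B1 := a41) (c1 := c42_1)
    (s2 := iw a34 ++ (iw a40)) (A2 := a41) (B2 := b41) (c2 := c42_2)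
    S.nil ((f41 H).rev H) (by decide +kernel)
    (eq_of_chk H.toLet k42_1)
    (S.append ((f34 H).inv H.toLet l34) ((f40 H).inv H.toLet l40)) (f41 H) (by decide +kernel)
    (eq_of_chk H.toLet k42_2)
    (eq_of_chk H.toLet k42_a)
    (congrArg (ev L) (by decide +kernel : b42 = m42 ++ [10]))

theorem l43 : ltB 11 a43 = true := by decide +kernel

theorem f43 {L : ℕ → G} {w : G} (H : TopRel L w) : S L (x3 L w) a43 :=
  hex_stab H (q := x3 L w) (r := x4 L w) (m := m43) (s1 := []) (A1 := a42) (B1 := b42) (c1 := c43_1)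
    (s2 := a28 ++ (iw a25 ++ (iw a27 ++ (iw a26)))) (A2 := b41) (B2 := a41) (c2 := c43_2)
    (s3 := iw a35 ++ (iw a40 ++ (iw a38 ++ (iw a35 ++ (iw a37 ++ (iw a34 ++ (iw a35 ++ (a38 ++ (iw a35 ++ (iw a40 ++ (iw a34 ++ (iw a32)))))))))))) (A3 := a41) (B3 := b41) (c3 := c43_3)
    S.nil (f42 H) (by decide +kernel)
    (eq_of_chk H.toLet k43_1)
    (S.append (f28 H) (S.append ((f25 H).inv H.toLet l25) (S.append ((f27 H).inv H.toLet l27) ((f26 H).inv H.toLet l26)))) ((f41 H).rev H) (by decide +kernel)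
    (eq_of_chk H.toLet k43_2)
    (S.append ((f35 H).inv H.toLet l35) (S.append ((f40 H).inv H.toLet l40) (S.append ((f38 H).inv H.toLet l38) (S.append ((f35 H).inv H.toLet l35) (S.append ((f37 H).inv H.toLet l37) (S.append ((f34 H).inv H.toLet l34) (S.append ((f35 H).inv H.toLet l35) (S.append (f38 H) (S.append ((f35 H).inv H.toLet l35) (S.append ((f40 H).inv H.toLet l40) (S.append ((f34 H).inv H.toLet l34) ((f32 H).inv H.toLet l32)))))))))))) (f41 H) (by decide +kernel)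
    (eq_of_chk H.toLet k43_3)
    (by decide +kernel) (eq_of_chk H.toLet k43_a)

theorem f44 {L : ℕ → G} {w : G} (H : TopRel L w) : E L w (x4 L w) a44 (x4 L w) b44 :=
  hex_edge H (q := x1 L w) (m := m44) (s1 := []) (A1 := b31) (B1 := a31) (c1 := c44_1)
    (s2 := iw a11 ++ (iw a12)) (A2 := a31) (B2 := b31) (c2 := c44_2)
    S.nil ((f31 H).rev H) (by decide +kernel)
    (congrArg (ev L) (by decide +kernel : m44 = ([]) ++ (b31 ++ c44_1)))
    (S.append ((f11 H).inv H.toLet l11) ((f12 H).inv H.toLet l12)) (f31 H) (by decide +kernel)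
    (eq_of_chk H.toLet k44_2)
    (congrArg (ev L) (by decide +kernel : a44 = b31 ++ c44_2 ++ [10]))
    (congrArg (ev L) (by decide +kernel : b44 = m44 ++ [10]))

theorem f45 {L : ℕ → G} {w : G} (H : TopRel L w) : E L w (x3 L w) a45 (x3 L w) b45 :=
  hex_edge H (q := x4 L w) (m := m45) (s1 := []) (A1 := b41) (B1 := a41) (c1 := c45_1)
    (s2 := iw a34 ++ (iw a40 ++ (iw a34))) (A2 := a41) (B2 := b41) (c2 := c45_2)
    S.nil ((f41 H).rev H) (by decide +kernel)
    (eq_of_chk H.toLet k45_1)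
    (S.append ((f34 H).inv H.toLet l34) (S.append ((f40 H).inv H.toLet l40) ((f34 H).inv H.toLet l34))) (f41 H) (by decide +kernel)
    (eq_of_chk H.toLet k45_2)
    (eq_of_chk H.toLet k45_a)
    (congrArg (ev L) (by decide +kernel : b45 = m45 ++ [10]))

theorem f46 {L : ℕ → G} {w : G} (H : TopRel L w) : E L w (x3 L w) a46 (x3 L w) b46 :=
  hex_edge H (q := x3 L w) (m := m46) (s1 := []) (A1 := a45) (B1 := b45) (c1 := c46_1)
    (s2 := iw a43 ++ (iw a28 ++ (a43 ++ (iw a27 ++ (iw a43))))) (A2 := a45) (B2 := b45) (c2 := c46_2)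
    S.nil (f45 H) (by decide +kernel)
    (eq_of_chk H.toLet k46_1)
    (S.append ((f43 H).inv H.toLet l43) (S.append ((f28 H).inv H.toLet l28) (S.append (f43 H) (S.append ((f27 H).inv H.toLet l27) ((f43 H).inv H.toLet l43))))) (f45 H) (by decide +kernel)
    (eq_of_chk H.toLet k46_2)
    (eq_of_chk H.toLet k46_a)
    (congrArg (ev L) (by decide +kernel : b46 = m46 ++ [10]))

/-- representative of the node `5` -/
def x5 (L : ℕ → G) (w : G) : G := x2 L w * ev L a47 * w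

theorem f47 {L : ℕ → G} {w : G} (_ : TopRel L w) : E L w (x2 L w) a47 (x5 L w) b47 := E.def a47

theorem f48 {L : ℕ → G} {w : G} (H : TopRel L w) : S L (x5 L w) a48 :=
  trans_rule H (p := x2 L w) (s := a18) (A := a47) (B := b47) (c := c48) (f18 H) (f47 H)
    (by decide +kernel) (by decide +kernel)
    (eq_of_chk H.toLet k48)
    (congrArg (ev L) (by decide +kernel : a48 = b47 ++ c48 ++ iw b47))

theorem f49 {L : ℕ → G} {w : G} (H : TopRel L w) : S L (x5 L w) a49 :=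
  trans_rule H (p := x2 L w) (s := a19) (A := a47) (B := b47) (c := c49) (f19 H) (f47 H)
    (by decide +kernel) (by decide +kernel)
    (eq_of_chk H.toLet k49)
    (congrArg (ev L) (by decide +kernel : a49 = b47 ++ c49 ++ iw b47))

theorem f50 {L : ℕ → G} {w : G} (H : TopRel L w) : S L (x5 L w) a50 :=
  trans_rule H (p := x2 L w) (s := a20) (A := a47) (B := b47) (c := c50) (f20 H) (f47 H)
    (by decide +kernel) (by decide +kernel)
    (eq_of_chk H.toLet k50)
    (congrArg (ev L) (by decide +kernel : a50 = b47 ++ c50 ++ iw b47))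

theorem f51 {L : ℕ → G} {w : G} (H : TopRel L w) : S L (x5 L w) a51 :=
  trans_rule H (p := x2 L w) (s := a21) (A := a47) (B := b47) (c := c51) (f21 H) (f47 H)
    (by decide +kernel) (by decide +kernel)
    (eq_of_chk H.toLet k51)
    (congrArg (ev L) (by decide +kernel : a51 = b47 ++ c51 ++ iw b47))

theorem f52 {L : ℕ → G} {w : G} (H : TopRel L w) : S L (x5 L w) a52 :=
  trans_rule H (p := x2 L w) (s := a22) (A := a47) (B := b47) (c := c52) (f22 H) (f47 H)
    (by decide +kernel) (by decide +kernel)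
    (eq_of_chk H.toLet k52)
    (congrArg (ev L) (by decide +kernel : a52 = b47 ++ c52 ++ iw b47))

theorem f53 {L : ℕ → G} {w : G} (H : TopRel L w) : S L (x5 L w) a53 :=
  trans_rule H (p := x2 L w) (s := a23) (A := a47) (B := b47) (c := c53) (f23 H) (f47 H)
    (by decide +kernel) (by decide +kernel)
    (eq_of_chk H.toLet k53)
    (congrArg (ev L) (by decide +kernel : a53 = b47 ++ c53 ++ iw b47))

/-- representative of the node `6` -/
def x6 (L : ℕ → G) (w : G) : G := x2 L w * ev L a54 * w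

theorem f54 {L : ℕ → G} {w : G} (_ : TopRel L w) : E L w (x2 L w) a54 (x6 L w) b54 := E.def a54

theorem l55 : ltB 11 a55 = true := by decide +kernel

theorem f55 {L : ℕ → G} {w : G} (H : TopRel L w) : S L (x6 L w) a55 :=
  trans_rule H (p := x2 L w) (s := a19) (A := a54) (B := b54) (c := c55) (f19 H) (f54 H)
    (by decide +kernel) (by decide +kernel)
    (eq_of_chk H.toLet k55)
    (congrArg (ev L) (by decide +kernel : a55 = b54 ++ c55 ++ iw b54))

theorem l56 : ltB 11 a56 = true := by decide +kernel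

theorem f56 {L : ℕ → G} {w : G} (H : TopRel L w) : S L (x6 L w) a56 :=
  trans_rule H (p := x2 L w) (s := a22) (A := a54) (B := b54) (c := c56) (f22 H) (f54 H)
    (by decide +kernel) (by decide +kernel)
    (eq_of_chk H.toLet k56)
    (congrArg (ev L) (by decide +kernel : a56 = b54 ++ c56 ++ iw b54))

theorem f57 {L : ℕ → G} {w : G} (H : TopRel L w) : S L (x6 L w) a57 :=
  trans_rule H (p := x2 L w) (s := a23) (A := a54) (B := b54) (c := c57) (f23 H) (f54 H)
    (by decide +kernel) (by decide +kernel)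
    (eq_of_chk H.toLet k57)
    (congrArg (ev L) (by decide +kernel : a57 = b54 ++ c57 ++ iw b54))

theorem f58 {L : ℕ → G} {w : G} (H : TopRel L w) : S L (x6 L w) a58 :=
  trans_rule H (p := x2 L w) (s := a18 ++ (a19 ++ (iw a18))) (A := a54) (B := b54) (c := c58) (S.append (f18 H) (S.append (f19 H) ((f18 H).inv H.toLet l18))) (f54 H)
    (by decide +kernel) (by decide +kernel)
    (eq_of_chk H.toLet k58)
    (congrArg (ev L) (by decide +kernel : a58 = b54 ++ c58 ++ iw b54))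

theorem l59 : ltB 11 a59 = true := by decide +kernel

theorem f59 {L : ℕ → G} {w : G} (H : TopRel L w) : S L (x6 L w) a59 :=
  trans_rule H (p := x2 L w) (s := a21 ++ (a23 ++ (iw a21))) (A := a54) (B := b54) (c := c59) (S.append (f21 H) (S.append (f23 H) ((f21 H).inv H.toLet l21))) (f54 H)
    (by decide +kernel) (by decide +kernel)
    (eq_of_chk H.toLet k59)
    (congrArg (ev L) (by decide +kernel : a59 = b54 ++ c59 ++ iw b54))

theorem f60 {L : ℕ → G} {w : G} (H : TopRel L w) : S L (x6 L w) a60 :=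
  trans_rule H (p := x2 L w) (s := iw a21 ++ (a23 ++ (a21))) (A := a54) (B := b54) (c := c60) (S.append ((f21 H).inv H.toLet l21) (S.append (f23 H) (f21 H))) (f54 H)
    (by decide +kernel) (by decide +kernel)
    (eq_of_chk H.toLet k60)
    (congrArg (ev L) (by decide +kernel : a60 = b54 ++ c60 ++ iw b54))

theorem f61 {L : ℕ → G} {w : G} (H : TopRel L w) : S L (x6 L w) a61 :=
  trans_rule H (p := x2 L w) (s := a20 ++ (a21 ++ (a23 ++ (a21 ++ (iw a22 ++ (a23 ++ (iw a21 ++ (a20 ++ (iw a21 ++ (iw a23 ++ (iw a22 ++ (a21 ++ (iw a23 ++ (a21 ++ (a20))))))))))))))) (A := a54) (B := b54) (c := c61) (S.append (f20 H) (S.append (f21 H) (S.append (f23 H) (S.append (f21 H) (S.append ((f22 H).inv H.toLet l22) (S.append (f23 H) (S.append ((f21 H).inv H.toLet l21) (S.append (f20 H) (S.append ((f21 H).inv H.toLet l21) (S.append ((f23 H).inv H.toLet l23) (S.append ((f22 H).inv H.toLet l22) (S.append (f21 H) (S.append ((f23 H).inv H.toLet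 l23) (S.append (f21 H) (f20 H))))))))))))))) (f54 H)
    (by decide +kernel) (by decide +kernel)
    (eq_of_chk H.toLet k61)
    (congrArg (ev L) (by decide +kernel : a61 = b54 ++ c61 ++ iw b54))

theorem f62 {L : ℕ → G} {w : G} (H : TopRel L w) : E L w (x6 L w) a62 (x3 L w) b62 :=
  hex_edge H (q := x2 L w) (m := m62) (s1 := []) (A1 := a29) (B1 := b29) (c1 := c62_1)
    (s2 := a20 ++ (a21 ++ (iw a23 ++ (a22 ++ (iw a21 ++ (iw a23 ++ (iw a22 ++ (iw a20 ++ (a21 ++ (iw a23 ++ (a21 ++ (iw a23 ++ (a20 ++ (iw a21 ++ (iw a20))))))))))))))) (A2 := a54) (B2 := b54) (c2 := c62_2)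
    S.nil (f29 H) (by decide +kernel)
    (eq_of_chk H.toLet k62_1)
    (S.append (f20 H) (S.append (f21 H) (S.append ((f23 H).inv H.toLet l23) (S.append (f22 H) (S.append ((f21 H).inv H.toLet l21) (S.append ((f23 H).inv H.toLet l23) (S.append ((f22 H).inv H.toLet l22) (S.append ((f20 H).inv H.toLet l20) (S.append (f21 H) (S.append ((f23 H).inv H.toLet l23) (S.append (f21 H) (S.append ((f23 H).inv H.toLet l23) (S.append (f20 H) (S.append ((f21 H).inv H.toLet l21) ((f20 H).inv H.toLet l20))))))))))))))) (f54 H) (by decide +kernel)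
    (eq_of_chk H.toLet k62_2)
    (congrArg (ev L) (by decide +kernel : a62 = b54 ++ c62_2 ++ [10]))
    (congrArg (ev L) (by decide +kernel : b62 = m62 ++ [10]))

theorem f63 {L : ℕ → G} {w : G} (H : TopRel L w) : E L w (x6 L w) a63 (x3 L w) b63 :=
  hex_edge H (q := x3 L w) (m := m63) (s1 := []) (A1 := a42) (B1 := b42) (c1 := c63_1)
    (s2 := a43 ++ (a43 ++ (iw a28 ++ (iw a25 ++ (iw a43 ++ (iw a43)))))) (A2 := b62) (B2 := a62) (c2 := c63_2)
    S.nil (f42 H) (by decide +kernel)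
    (eq_of_chk H.toLet k63_1)
    (S.append (f43 H) (S.append (f43 H) (S.append ((f28 H).inv H.toLet l28) (S.append ((f25 H).inv H.toLet l25) (S.append ((f43 H).inv H.toLet l43) ((f43 H).inv H.toLet l43)))))) ((f62 H).rev H) (by decide +kernel)
    (eq_of_chk H.toLet k63_2)
    (eq_of_chk H.toLet k63_a)
    (eq_of_chk H.toLet k63_b)

theorem l64 : ltB 11 a64 = true := by decide +kernel

theorem f64 {L : ℕ → G} {w : G} (H : TopRel L w) : S L (x6 L w) a64 :=
  trans_rule H (p := x3 L w) (s := a25) (A := b63) (B := a63) (c := c64) (f25 H) ((f63 H).rev H)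
    (by decide +kernel) (by decide +kernel)
    (eq_of_chk H.toLet k64)
    (eq_of_chk H.toLet k64_0)

theorem f65 {L : ℕ → G} {w : G} (H : TopRel L w) : E L w (x6 L w) a65 (x3 L w) b65 :=
  hex_edge H (q := x3 L w) (m := m65) (s1 := []) (A1 := a45) (B1 := b45) (c1 := c65_1)
    (s2 := iw a25 ++ (iw a43 ++ (iw a26))) (A2 := b62) (B2 := a62) (c2 := c65_2)
    S.nil (f45 H) (by decide +kernel)
    (eq_of_chk H.toLet k65_1)
    (S.append ((f25 H).inv H.toLet l25) (S.append ((f43 H).inv H.toLet l43) ((f26 H).inv H.toLet l26))) ((f62 H).rev H) (by decide +kernel)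
    (eq_of_chk H.toLet k65_2)
    (eq_of_chk H.toLet k65_a)
    (congrArg (ev L) (by decide +kernel : b65 = m65 ++ [10]))

theorem f66 {L : ℕ → G} {w : G} (H : TopRel L w) : E L w (x6 L w) a66 (x4 L w) b66 :=
  hex_edge H (q := x3 L w) (m := m66) (s1 := []) (A1 := a41) (B1 := b41) (c1 := c66_1)
    (s2 := a43 ++ (a43 ++ (iw a28 ++ (iw a25 ++ (iw a43 ++ (iw a43)))))) (A2 := b62) (B2 := a62) (c2 := c66_2)
    S.nil (f41 H) (by decide +kernel)
    (eq_of_chk H.toLet k66_1)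
    (S.append (f43 H) (S.append (f43 H) (S.append ((f28 H).inv H.toLet l28) (S.append ((f25 H).inv H.toLet l25) (S.append ((f43 H).inv H.toLet l43) ((f43 H).inv H.toLet l43)))))) ((f62 H).rev H) (by decide +kernel)
    (eq_of_chk H.toLet k66_2)
    (eq_of_chk H.toLet k66_a)
    (congrArg (ev L) (by decide +kernel : b66 = m66 ++ [10]))

theorem f67 {L : ℕ → G} {w : G} (H : TopRel L w) : E L w (x6 L w) a67 (x6 L w) b67 :=
  hex_edge H (q := x2 L w) (m := m67) (s1 := []) (A1 := b54) (B1 := a54) (c1 := c67_1)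
    (s2 := iw a22 ++ (iw a23 ++ (a22 ++ (a20 ++ (a21 ++ (iw a23 ++ (a21 ++ (iw a20 ++ (a21))))))))) (A2 := a54) (B2 := b54) (c2 := c67_2)
    S.nil ((f54 H).rev H) (by decide +kernel)
    (congrArg (ev L) (by decide +kernel : m67 = ([]) ++ (b54 ++ c67_1)))
    (S.append ((f22 H).inv H.toLet l22) (S.append ((f23 H).inv H.toLet l23) (S.append (f22 H) (S.append (f20 H) (S.append (f21 H) (S.append ((f23 H).inv H.toLet l23) (S.append (f21 H) (S.append ((f20 H).inv H.toLet l20) (f21 H))))))))) (f54 H) (by decide +kernel)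
    (eq_of_chk H.toLet k67_2)
    (congrArg (ev L) (by decide +kernel : a67 = b54 ++ c67_2 ++ [10]))
    (congrArg (ev L) (by decide +kernel : b67 = m67 ++ [10]))

theorem f68 {L : ℕ → G} {w : G} (H : TopRel L w) : S L (x6 L w) a68 :=
  hex_stab H (q := x3 L w) (r := x4 L w) (m := m68) (s1 := []) (A1 := a62) (B1 := b62) (c1 := c68_1)
    (s2 := []) (A2 := b41) (B2 := a41) (c2 := c68_2)
    (s3 := iw a40 ++ (iw a35 ++ (a38 ++ (iw a35 ++ (iw a40 ++ (iw a37 ++ (iw a35 ++ (iw a38 ++ (iw a34 ++ (iw a35 ++ (iw a37))))))))))) (A3 := b66) (B3 := a66) (c3 := c68_3)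
    S.nil (f62 H) (by decide +kernel)
    (eq_of_chk H.toLet k68_1)
    S.nil ((f41 H).rev H) (by decide +kernel)
    (eq_of_chk H.toLet k68_2)
    (S.append ((f40 H).inv H.toLet l40) (S.append ((f35 H).inv H.toLet l35) (S.append (f38 H) (S.append ((f35 H).inv H.toLet l35) (S.append ((f40 H).inv H.toLet l40) (S.append ((f37 H).inv H.toLet l37) (S.append ((f35 H).inv H.toLet l35) (S.append ((f38 H).inv H.toLet l38) (S.append ((f34 H).inv H.toLet l34) (S.append ((f35 H).inv H.toLet l35) ((f37 H).inv H.toLet l37))))))))))) ((f66 H).rev H) (by decide +kernel)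
    (eq_of_chk H.toLet k68_3)
    (by decide +kernel) (eq_of_chk H.toLet k68_a)

theorem f69 {L : ℕ → G} {w : G} (H : TopRel L w) : S L (x2 L w) a69 :=
  trans_rule H (p := x6 L w) (s := a68 ++ (a64 ++ (iw a55 ++ (a64)))) (A := b54) (B := a54) (c := c69) (S.append (f68 H) (S.append (f64 H) (S.append ((f55 H).inv H.toLet l55) (f64 H)))) ((f54 H).rev H)
    (by decide +kernel) (by decide +kernel)
    (eq_of_chk H.toLet k69)
    (eq_of_chk H.toLet k69_0)

theorem f70 {L : ℕ → G} {w : G} (H : TopRel L w) : S L (x5 L w) a70 :=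
  trans_rule H (p := x2 L w) (s := a69) (A := a47) (B := b47) (c := c70) (f69 H) (f47 H)
    (by decide +kernel) (by decide +kernel)
    (eq_of_chk H.toLet k70)
    (congrArg (ev L) (by decide +kernel : a70 = b47 ++ c70 ++ iw b47))

theorem f71 {L : ℕ → G} {w : G} (H : TopRel L w) : E L w (x2 L w) a71 (x2 L w) b71 :=
  hex_edge H (q := x6 L w) (m := m71) (s1 := []) (A1 := a54) (B1 := b54) (c1 := c71_1)
    (s2 := iw a59 ++ (iw a56 ++ (iw a64))) (A2 := b54) (B2 := a54) (c2 := c71_2)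
    S.nil (f54 H) (by decide +kernel)
    (eq_of_chk H.toLet k71_1)
    (S.append ((f59 H).inv H.toLet l59) (S.append ((f56 H).inv H.toLet l56) ((f64 H).inv H.toLet l64))) ((f54 H).rev H) (by decide +kernel)
    (eq_of_chk H.toLet k71_2)
    (eq_of_chk H.toLet k71_a)
    (congrArg (ev L) (by decide +kernel : b71 = m71 ++ [10]))

theorem f72 {L : ℕ → G} {w : G} (H : TopRel L w) : E L w (x5 L w) a72 (x2 L w) b72 :=
  hex_edge H (q := x2 L w) (m := m72) (s1 := []) (A1 := a71) (B1 := b71) (c1 := c72_1)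
    (s2 := []) (A2 := a47) (B2 := b47) (c2 := c72_2)
    S.nil (f71 H) (by decide +kernel)
    (eq_of_chk H.toLet k72_1)
    S.nil (f47 H) (by decide +kernel)
    (eq_of_chk H.toLet k72_2)
    (congrArg (ev L) (by decide +kernel : a72 = b47 ++ c72_2 ++ [10]))
    (congrArg (ev L) (by decide +kernel : b72 = m72 ++ [10]))

theorem f73 {L : ℕ → G} {w : G} (H : TopRel L w) : S L (x5 L w) a73 :=
  trans_rule H (p := x2 L w) (s := a18) (A := b72) (B := a72) (c := c73) (f18 H) ((f72 H).rev H)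
    (by decide +kernel) (by decide +kernel)
    (eq_of_chk H.toLet k73)
    (eq_of_chk H.toLet k73_0)

/-- representative of the node `7` -/
def x7 (L : ℕ → G) (w : G) : G := x3 L w * ev L a74 * w

theorem f74 {L : ℕ → G} {w : G} (_ : TopRel L w) : E L w (x3 L w) a74 (x7 L w) b74 := E.def a74

theorem f75 {L : ℕ → G} {w : G} (H : TopRel L w) : S L (x7 L w) a75 :=
  trans_rule H (p := x3 L w) (s := a26) (A := a74) (B := b74) (c := c75) (f26 H) (f74 H)
    (by decide +kernel) (by decide +kernel)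
    (eq_of_chk H.toLet k75)
    (congrArg (ev L) (by decide +kernel : a75 = b74 ++ c75 ++ iw b74))

theorem f76 {L : ℕ → G} {w : G} (H : TopRel L w) : S L (x7 L w) a76 :=
  trans_rule H (p := x3 L w) (s := iw a25 ++ (a28 ++ (iw a25))) (A := a74) (B := b74) (c := c76) (S.append ((f25 H).inv H.toLet l25) (S.append (f28 H) ((f25 H).inv H.toLet l25))) (f74 H)
    (by decide +kernel) (by decide +kernel)
    (eq_of_chk H.toLet k76)
    (congrArg (ev L) (by decide +kernel : a76 = b74 ++ c76 ++ iw b74))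

theorem f77 {L : ℕ → G} {w : G} (H : TopRel L w) : S L (x7 L w) a77 :=
  trans_rule H (p := x3 L w) (s := a27 ++ (a26 ++ (iw a27))) (A := a74) (B := b74) (c := c77) (S.append (f27 H) (S.append (f26 H) ((f27 H).inv H.toLet l27))) (f74 H)
    (by decide +kernel) (by decide +kernel)
    (eq_of_chk H.toLet k77)
    (congrArg (ev L) (by decide +kernel : a77 = b74 ++ c77 ++ iw b74))

theorem f78 {L : ℕ → G} {w : G} (H : TopRel L w) : S L (x7 L w) a78 :=
  trans_rule H (p := x3 L w) (s := a27 ++ (a28 ++ (iw a43))) (A := a74) (B := b74) (c := c78) (S.append (f27 H) (S.append (f28 H) ((f43 H).inv H.toLet l43))) (f74 H)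
    (by decide +kernel) (by decide +kernel)
    (eq_of_chk H.toLet k78)
    (congrArg (ev L) (by decide +kernel : a78 = b74 ++ c78 ++ iw b74))

theorem f79 {L : ℕ → G} {w : G} (H : TopRel L w) : E L w (x7 L w) a79 (x3 L w) b79 :=
  hex_edge H (q := x3 L w) (m := m79) (s1 := []) (A1 := a42) (B1 := b42) (c1 := c79_1)
    (s2 := []) (A2 := a74) (B2 := b74) (c2 := c79_2)
    S.nil (f42 H) (by decide +kernel)
    (eq_of_chk H.toLet k79_1)
    S.nil (f74 H) (by decide +kernel)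
    (eq_of_chk H.toLet k79_2)
    (congrArg (ev L) (by decide +kernel : a79 = b74 ++ c79_2 ++ [10]))
    (congrArg (ev L) (by decide +kernel : b79 = m79 ++ [10]))

theorem f80 {L : ℕ → G} {w : G} (H : TopRel L w) : S L (x7 L w) a80 :=
  trans_rule H (p := x3 L w) (s := iw a25 ++ (a28 ++ (iw a25))) (A := b79) (B := a79) (c := c80) (S.append ((f25 H).inv H.toLet l25) (S.append (f28 H) ((f25 H).inv H.toLet l25))) ((f79 H).rev H)
    (by decide +kernel) (by decide +kernel)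
    (eq_of_chk H.toLet k80)
    (eq_of_chk H.toLet k80_0)

theorem f81 {L : ℕ → G} {w : G} (H : TopRel L w) : E L w (x7 L w) a81 (x7 L w) b81 :=
  hex_edge H (q := x3 L w) (m := m81) (s1 := []) (A1 := b74) (B1 := a74) (c1 := c81_1)
    (s2 := a43 ++ (iw a27 ++ (a28))) (A2 := a74) (B2 := b74) (c2 := c81_2)
    S.nil ((f74 H).rev H) (by decide +kernel)
    (congrArg (ev L) (by decide +kernel : m81 = ([]) ++ (b74 ++ c81_1)))
    (S.append (f43 H) (S.append ((f27 H).inv H.toLet l27) (f28 H))) (f74 H) (by decide +kernel)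
    (eq_of_chk H.toLet k81_2)
    (congrArg (ev L) (by decide +kernel : a81 = b74 ++ c81_2 ++ [10]))
    (congrArg (ev L) (by decide +kernel : b81 = m81 ++ [10]))

end Cfsg.Agent.CoOneType.TopFacts
end

-- part: CoOneType/TopNodes
section
/-!
# Coverage of the nodes
-/

set_option autoImplicit false
set_option maxRecDepth 100000

namespace Cfsg.Agent.CoOneType.TopNodes

open Cfsg.Agent.SporadicRecognition.CosetCert
open Cfsg.Agent.CoOneType.Chain Cfsg.Agent.CoOneType.TopRules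
open Cfsg.Agent.CoOneType.TopWords Cfsg.Agent.CoOneType.TopFacts Cfsg.Agent.CoOneType.TopClose Cfsg.Agent.CoOneType.KOracle

variable {G : Type*} [Group G]

/-- representatives of the eight double cosets -/
def X (L : ℕ → G) (w : G) : ℕ → G
  | 0 => x0 L w
  | 1 => x1 L w
  | 2 => x2 L w
  | 3 => x3 L w
  | 4 => x4 L w
  | 5 => x5 L w
  | 6 => x6 L w
  | 7 => x7 L w
  | _ => 1

/-- number of edges at each node -/
def e : ℕ → ℕ
  | 0 => 1
  | 1 => 5
  | 2 => 5
  | 3 => 9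
  | 4 => 4
  | 5 => 1
  | 6 => 4
  | 7 => 2
  | _ => 0

theorem sum_e : ∑ i ∈ Finset.range 8, e i = 31 := by decide +kernel

theorem cov0 : cov [a0, a1, a2, a3, a4, a5, a6, a7] [a8] 13 = true := by decide +kernel

theorem node0 {L : ℕ → G} {w : G} (H : TopRel L w) : NodeE L w (X L w) 8 0 (e 0) :=
  ⟨⟨[a0, a1, a2, a3, a4, a5, a6, a7],
    [a8],
    le_refl 1, List.forall_mem_cons.2 ⟨f0 H, List.forall_mem_cons.2 ⟨f1 H, List.forall_mem_cons.2 ⟨f2 H, List.forall_mem_cons.2 ⟨f3 H, List.forall_mem_cons.2 ⟨f4 H, List.forall_mem_cons.2 ⟨f5 H, List.forall_mem_cons.2 ⟨f6 H, List.forall_mem_cons.2 ⟨f7 H, List.forall_mem_nil _⟩⟩⟩⟩⟩⟩⟩⟩,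
    List.forall_mem_cons.2 ⟨⟨1, by norm_num, b8, by decide +kernel, (f8 H)⟩,
      List.forall_mem_nil _⟩,
    fun _ hk => cover H.toLet cov0 hk⟩⟩

theorem cov1 : cov [a9, a10, a11, a12, a13, a14, a15] [b8, a16, a17, a24, a31] 8 = true := by decide +kernel

theorem node1 {L : ℕ → G} {w : G} (H : TopRel L w) : NodeE L w (X L w) 8 1 (e 1) :=
  ⟨⟨[a9, a10, a11, a12, a13, a14, a15],
    [b8, a16, a17, a24, a31],
    le_refl 5, List.forall_mem_cons.2 ⟨f9 H, List.forall_mem_cons.2 ⟨f10 H, List.forall_mem_cons.2 ⟨f11 H, List.forall_mem_cons.2 ⟨f12 H, List.forall_mem_cons.2 ⟨f13 H, List.forall_mem_cons.2 ⟨f14 H, List.forall_mem_cons.2 ⟨f15 H, List.forall_mem_nil _⟩⟩⟩⟩⟩⟩⟩,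
    List.forall_mem_cons.2 ⟨⟨0, by norm_num, a8, by decide +kernel, ((f8 H).rev H)⟩,
      List.forall_mem_cons.2 ⟨⟨1, by norm_num, b16, by decide +kernel, (f16 H)⟩,
      List.forall_mem_cons.2 ⟨⟨2, by norm_num, b17, by decide +kernel, (f17 H)⟩,
      List.forall_mem_cons.2 ⟨⟨3, by norm_num, b24, by decide +kernel, (f24 H)⟩,
      List.forall_mem_cons.2 ⟨⟨4, by norm_num, b31, by decide +kernel, (f31 H)⟩,
      List.forall_mem_nil _⟩⟩⟩⟩⟩,
    fun _ hk => cover H.toLet cov1 hk⟩⟩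

theorem cov2 : cov [a18, a19, a20, a21, a22, a23, a69] [b17, b29, a47, a54, a71] 3 = true := by decide +kernel

theorem node2 {L : ℕ → G} {w : G} (H : TopRel L w) : NodeE L w (X L w) 8 2 (e 2) :=
  ⟨⟨[a18, a19, a20, a21, a22, a23, a69],
    [b17, b29, a47, a54, a71],
    le_refl 5, List.forall_mem_cons.2 ⟨f18 H, List.forall_mem_cons.2 ⟨f19 H, List.forall_mem_cons.2 ⟨f20 H, List.forall_mem_cons.2 ⟨f21 H, List.forall_mem_cons.2 ⟨f22 H, List.forall_mem_cons.2 ⟨f23 H, List.forall_mem_cons.2 ⟨f69 H, List.forall_mem_nil _⟩⟩⟩⟩⟩⟩⟩,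
    List.forall_mem_cons.2 ⟨⟨1, by norm_num, a17, by decide +kernel, ((f17 H).rev H)⟩,
      List.forall_mem_cons.2 ⟨⟨3, by norm_num, a29, by decide +kernel, ((f29 H).rev H)⟩,
      List.forall_mem_cons.2 ⟨⟨5, by norm_num, b47, by decide +kernel, (f47 H)⟩,
      List.forall_mem_cons.2 ⟨⟨6, by norm_num, b54, by decide +kernel, (f54 H)⟩,
      List.forall_mem_cons.2 ⟨⟨2, by norm_num, b71, by decide +kernel, (f71 H)⟩,
      List.forall_mem_nil _⟩⟩⟩⟩⟩,
    fun _ hk => cover H.toLet cov2 hk⟩⟩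

theorem cov3 : cov [a25, a26, a27, a28, a43] [b24, a29, a30, b41, a42, a45, a46, b62, a74] 4 = true := by decide +kernel

theorem node3 {L : ℕ → G} {w : G} (H : TopRel L w) : NodeE L w (X L w) 8 3 (e 3) :=
  ⟨⟨[a25, a26, a27, a28, a43],
    [b24, a29, a30, b41, a42, a45, a46, b62, a74],
    le_refl 9, List.forall_mem_cons.2 ⟨f25 H, List.forall_mem_cons.2 ⟨f26 H, List.forall_mem_cons.2 ⟨f27 H, List.forall_mem_cons.2 ⟨f28 H, List.forall_mem_cons.2 ⟨f43 H, List.forall_mem_nil _⟩⟩⟩⟩⟩,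
    List.forall_mem_cons.2 ⟨⟨1, by norm_num, a24, by decide +kernel, ((f24 H).rev H)⟩,
      List.forall_mem_cons.2 ⟨⟨2, by norm_num, b29, by decide +kernel, (f29 H)⟩,
      List.forall_mem_cons.2 ⟨⟨3, by norm_num, b30, by decide +kernel, (f30 H)⟩,
      List.forall_mem_cons.2 ⟨⟨4, by norm_num, a41, by decide +kernel, ((f41 H).rev H)⟩,
      List.forall_mem_cons.2 ⟨⟨3, by norm_num, b42, by decide +kernel, (f42 H)⟩,
      List.forall_mem_cons.2 ⟨⟨3, by norm_num, b45, by decide +kernel, (f45 H)⟩,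
      List.forall_mem_cons.2 ⟨⟨3, by norm_num, b46, by decide +kernel, (f46 H)⟩,
      List.forall_mem_cons.2 ⟨⟨6, by norm_num, a62, by decide +kernel, ((f62 H).rev H)⟩,
      List.forall_mem_cons.2 ⟨⟨7, by norm_num, b74, by decide +kernel, (f74 H)⟩,
      List.forall_mem_nil _⟩⟩⟩⟩⟩⟩⟩⟩⟩,
    fun _ hk => cover H.toLet cov3 hk⟩⟩

theorem cov4 : cov [a32, a33, a34, a35, a36, a37, a38, a40] [b31, a41, a44, b66] 6 = true := by decide +kernel

theorem node4 {L : ℕ → G} {w : G} (H : TopRel L w) : NodeE L w (X L w) 8 4 (e 4) :=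
  ⟨⟨[a32, a33, a34, a35, a36, a37, a38, a40],
    [b31, a41, a44, b66],
    le_refl 4, List.forall_mem_cons.2 ⟨f32 H, List.forall_mem_cons.2 ⟨f33 H, List.forall_mem_cons.2 ⟨f34 H, List.forall_mem_cons.2 ⟨f35 H, List.forall_mem_cons.2 ⟨f36 H, List.forall_mem_cons.2 ⟨f37 H, List.forall_mem_cons.2 ⟨f38 H, List.forall_mem_cons.2 ⟨f40 H, List.forall_mem_nil _⟩⟩⟩⟩⟩⟩⟩⟩,
    List.forall_mem_cons.2 ⟨⟨1, by norm_num, a31, by decide +kernel, ((f31 H).rev H)⟩,
      List.forall_mem_cons.2 ⟨⟨3, by norm_num, b41, by decide +kernel, (f41 H)⟩,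
      List.forall_mem_cons.2 ⟨⟨4, by norm_num, b44, by decide +kernel, (f44 H)⟩,
      List.forall_mem_cons.2 ⟨⟨6, by norm_num, a66, by decide +kernel, ((f66 H).rev H)⟩,
      List.forall_mem_nil _⟩⟩⟩⟩,
    fun _ hk => cover H.toLet cov4 hk⟩⟩

theorem cov5 : cov [a48, a49, a50, a51, a52, a53, a70, a73] [b47] 4 = true := by decide +kernel

theorem node5 {L : ℕ → G} {w : G} (H : TopRel L w) : NodeE L w (X L w) 8 5 (e 5) :=
  ⟨⟨[a48, a49, a50, a51, a52, a53, a70, a73],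
    [b47],
    le_refl 1, List.forall_mem_cons.2 ⟨f48 H, List.forall_mem_cons.2 ⟨f49 H, List.forall_mem_cons.2 ⟨f50 H, List.forall_mem_cons.2 ⟨f51 H, List.forall_mem_cons.2 ⟨f52 H, List.forall_mem_cons.2 ⟨f53 H, List.forall_mem_cons.2 ⟨f70 H, List.forall_mem_cons.2 ⟨f73 H, List.forall_mem_nil _⟩⟩⟩⟩⟩⟩⟩⟩,
    List.forall_mem_cons.2 ⟨⟨2, by norm_num, a47, by decide +kernel, ((f47 H).rev H)⟩,
      List.forall_mem_nil _⟩,
    fun _ hk => cover H.toLet cov5 hk⟩⟩

theorem cov6 : cov [a55, a56, a57, a58, a59, a60, a61, a64, a68] [b54, a62, a66, a67] 3 = true := by decide +kernel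

theorem node6 {L : ℕ → G} {w : G} (H : TopRel L w) : NodeE L w (X L w) 8 6 (e 6) :=
  ⟨⟨[a55, a56, a57, a58, a59, a60, a61, a64, a68],
    [b54, a62, a66, a67],
    le_refl 4, List.forall_mem_cons.2 ⟨f55 H, List.forall_mem_cons.2 ⟨f56 H, List.forall_mem_cons.2 ⟨f57 H, List.forall_mem_cons.2 ⟨f58 H, List.forall_mem_cons.2 ⟨f59 H, List.forall_mem_cons.2 ⟨f60 H, List.forall_mem_cons.2 ⟨f61 H, List.forall_mem_cons.2 ⟨f64 H, List.forall_mem_cons.2 ⟨f68 H, List.forall_mem_nil _⟩⟩⟩⟩⟩⟩⟩⟩⟩,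
    List.forall_mem_cons.2 ⟨⟨2, by norm_num, a54, by decide +kernel, ((f54 H).rev H)⟩,
      List.forall_mem_cons.2 ⟨⟨3, by norm_num, b62, by decide +kernel, (f62 H)⟩,
      List.forall_mem_cons.2 ⟨⟨4, by norm_num, b66, by decide +kernel, (f66 H)⟩,
      List.forall_mem_cons.2 ⟨⟨6, by norm_num, b67, by decide +kernel, (f67 H)⟩,
      List.forall_mem_nil _⟩⟩⟩⟩,
    fun _ hk => cover H.toLet cov6 hk⟩⟩

theorem cov7 : cov [a75, a76, a77, a78, a80] [b74, a81] 5 = true := by decide +kernel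

theorem node7 {L : ℕ → G} {w : G} (H : TopRel L w) : NodeE L w (X L w) 8 7 (e 7) :=
  ⟨⟨[a75, a76, a77, a78, a80],
    [b74, a81],
    le_refl 2, List.forall_mem_cons.2 ⟨f75 H, List.forall_mem_cons.2 ⟨f76 H, List.forall_mem_cons.2 ⟨f77 H, List.forall_mem_cons.2 ⟨f78 H, List.forall_mem_cons.2 ⟨f80 H, List.forall_mem_nil _⟩⟩⟩⟩⟩,
    List.forall_mem_cons.2 ⟨⟨3, by norm_num, a74, by decide +kernel, ((f74 H).rev H)⟩,
      List.forall_mem_cons.2 ⟨⟨7, by norm_num, b81, by decide +kernel, (f81 H)⟩,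
      List.forall_mem_nil _⟩⟩,
    fun _ hk => cover H.toLet cov7 hk⟩⟩

theorem nodes {L : ℕ → G} {w : G} (H : TopRel L w) : ∀ i < 8, NodeE L w (X L w) 8 i (e i) := by
  intro i hi
  interval_cases i
  · exact node0 H
  · exact node1 H
  · exact node2 H
  · exact node3 H
  · exact node4 H
  · exact node5 H
  · exact node6 H
  · exact node7 H

end Cfsg.Agent.CoOneType.TopNodes
end

-- part: CoOneType/TopStep
section
/-!
# The order of a group satisfying P957

Ten elements satisfying the presentation `P957` generate a finite group of order at most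
`31 * |K| * |C|`, `|K| ≤ 2690072985600`, `|C| ≤ 503193600`.
-/

set_option autoImplicit false

namespace Cfsg.Agent.CoOneType.TopStep

open Cfsg.Agent.SporadicRecognition.CosetCert
open Cfsg.Agent.CoOneType.Chain Cfsg.Agent.CoOneType.TopRules Cfsg.Agent.CoOneType.TopClose
open Cfsg.Agent.CoOneType.TopNodes

variable {G : Type*} [Group G] {s t x y w d e f g h : G}

theorem wc (H : P957 s t x y w d e f g h) : ∀ n, n < 10 →
    lt s t x y g h f e d n * w = w * lt s t x y g h f e d n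
  | 0, _ => H.ws.symm.eq
  | 1, _ => H.wt.symm.eq
  | 2, _ => H.wx.symm.eq
  | 3, _ => H.wx.symm.inv_left.eq
  | 4, _ => H.wy.symm.eq
  | 5, _ => H.wy.symm.inv_left.eq
  | 6, _ => H.wg.symm.eq
  | 7, _ => H.wh.symm.eq
  | 8, _ => H.wf.symm.eq
  | 9, _ => H.we.symm.eq
  | (n + 10), hn => absurd hn (by omega)

theorem topRel (H : P957 s t x y w d e f g h) : TopRel (lt s t x y g h f e d) w where
  toLet := let_of H.relK
  ww := H.w2
  wd := by
    have := H.wd
    simpa only [pow_succ, pow_zero, one_mul, mul_assoc, lt] using this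
  wc := wc H

/-- Main theorem: ten elements satisfying `P957` generate a finite group of order at most
`31 |3·Suz:2| |G₂(4):2|` (it is the union of eight double cosets of `K = 3·Suz:2`, covered by 31 sets `K a C`). -/
theorem card_le (H : P957 s t x y w d e f g h) :
    Finite (Subgroup.closure ({s, t, x, y, w, d, e, f, g, h} : Set G)) ∧
      Nat.card (Subgroup.closure ({s, t, x, y, w, d, e, f, g, h} : Set G)) ≤
        31 * (2690072985600 * 503193600) := by
  obtain ⟨hK1, hK2⟩ := suz_le (let_of H.relK)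
  obtain ⟨hC1, hC2⟩ := g24_le (let_of H.relK)
  have hK : Finite (K (lt s t x y g h f e d)) := hK1
  have hC : Finite (C (lt s t x y g h f e d)) := hC1
  obtain ⟨h1, h2⟩ := card_top (topRel H) (X := X (lt s t x y g h f e d) w) (n := 8) (by norm_num) rfl
    TopNodes.e (nodes (topRel H))
  have hle : Subgroup.closure ({s, t, x, y, w, d, e, f, g, h} : Set G) ≤ TopClose.Top (lt s t x y g h f e d) w := by
    rw [Subgroup.closure_le]
    intro a ha
    simp only [Set.mem_insert_iff, Set.mem_singleton_iff] at ha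
    unfold TopClose.Top
    rcases ha with rfl | rfl | rfl | rfl | rfl | rfl | rfl | rfl | rfl | rfl
    · exact Subgroup.subset_closure (Or.inl ⟨0, by simp, rfl⟩)
    · exact Subgroup.subset_closure (Or.inl ⟨1, by simp, rfl⟩)
    · exact Subgroup.subset_closure (Or.inl ⟨2, by simp, rfl⟩)
    · exact Subgroup.subset_closure (Or.inl ⟨4, by simp, rfl⟩)
    · exact Subgroup.subset_closure (Or.inr rfl)
    · exact Subgroup.subset_closure (Or.inl ⟨10, by simp, rfl⟩)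
    · exact Subgroup.subset_closure (Or.inl ⟨9, by simp, rfl⟩)
    · exact Subgroup.subset_closure (Or.inl ⟨8, by simp, rfl⟩)
    · exact Subgroup.subset_closure (Or.inl ⟨6, by simp, rfl⟩)
    · exact Subgroup.subset_closure (Or.inl ⟨7, by simp, rfl⟩)
  have hinj := Subgroup.inclusion_injective hle
  refine ⟨Finite.of_injective _ hinj, (Nat.card_le_card_of_injective _ hinj).trans (h2.trans ?_)⟩
  rw [sum_e]
  exact Nat.mul_le_mul_left _ (Nat.mul_le_mul hK2 hC2)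

end Cfsg.Agent.CoOneType.TopStep
end
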